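import Cfsg.Agent.Lib.Helper5.WS5
import Cfsg.Agent.S0055
import Cfsg.Agent.S0056

set_option autoImplicit false

namespace Cfsg.Agent.Lib.Helper5

open Cfsg
open scoped commutatorElement

universe u

variable {p : ℕ}

theorem zF_char [Fact p.Prime] : IsCharPFunctor.{u} p zF := by
  constructor
  · intro Q _ _ hQ hnt h
    have h1 := IsPGroup.bot_lt_center hQ
    exact absurd (h ▸ h1 : (⊥ : Subgroup Q) < ⊥) (lt_irrefl _)
  · intro Q R _ _ _ _ φ
    exact center_map_equiv φ

theorem iF_zF {X : Type u} [Group X] (D : Subgroup X) :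
    inducedFunctor zF D = D ⊓ Subgroup.centralizer (D : Set X) := by
  ext x
  constructor
  · rintro ⟨y, hy, rfl⟩
    refine Subgroup.mem_inf.mpr ⟨y.2, ?_⟩
    rw [Subgroup.mem_centralizer_iff]
    intro d hd
    exact congrArg Subtype.val (Subgroup.mem_center_iff.mp hy ⟨d, hd⟩)
  · intro hx
    obtain ⟨h1, h2⟩ := Subgroup.mem_inf.mp hx
    refine ⟨⟨x, h1⟩, ?_, rfl⟩
    show (⟨x, h1⟩ : D) ∈ Subgroup.center D
    rw [Subgroup.mem_center_iff]
    intro d
    exact Subtype.ext (Subgroup.mem_centralizer_iff.mp h2 d d.2)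

/-- Frattini argument for the Thompson subgroup. -/
theorem normalizer_thompson_sup_eq_top [Fact p.Prime] {X : Type u} [Group X] [Finite X]
    (T : Sylow p X) (C : Subgroup X) [C.Normal] (hJ : thompsonSubgroupOf p (T : Subgroup X) ≤ C) :
    Subgroup.normalizer (thompsonSubgroupOf p (T : Subgroup X) : Set X) ⊔ C = ⊤ := by
  obtain ⟨A₁, hA₁, hA₁S⟩ := exists_maxElemAb_le_sylow T
  have hAJ : ∀ A ∈ maxElementaryAbelianSubgroups p X, A ≤ (T : Subgroup X) →
      A ≤ thompsonSubgroupOf p (T : Subgroup X) := by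
    intro A hA hAT
    rw [thompsonOf_eq hA₁ hA₁S]
    exact le_sSup ⟨hA, hAT⟩
  have hJ2 : thompsonSubgroupOf p ((T : Subgroup X) ⊓ C) =
      thompsonSubgroupOf p (T : Subgroup X) := by
    rw [thompsonOf_eq hA₁ hA₁S, thompsonOf_eq hA₁ (le_inf hA₁S ((hAJ A₁ hA₁ hA₁S).trans hJ))]
    congr 1
    ext A
    constructor
    · rintro ⟨h1, h2⟩
      exact ⟨h1, h2.trans inf_le_left⟩
    · rintro ⟨h1, h2⟩
      exact ⟨h1, le_inf h2 ((hAJ A h1 h2).trans hJ)⟩
  obtain ⟨P, hP⟩ := exists_sylow_subgroupOf_normal T C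
  have hfr := Sylow.normalizer_sup_eq_top P
  rw [hP, Subgroup.subgroupOf_map_subtype] at hfr
  rw [eq_top_iff, ← hfr]
  apply sup_le_sup_right
  have := normalizer_le_iF (jE_char (p := p)) (X := X) (D := (T : Subgroup X) ⊓ C)
    (T.2.to_le inf_le_left)
  rw [iF_jE, hJ2] at this
  exact this

theorem eq_top_of_coatom_of_not_le {X : Type*} [Group X] {T M : Subgroup X} (hT : IsCoatom T)
    (h1 : T ≤ M) (h2 : ¬ M ≤ T) : M = ⊤ :=
  hT.2 M (lt_of_le_of_ne h1 (fun h => h2 (h ▸ le_rfl)))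

theorem npc_of_omegaZ_central [Fact p.Prime] {X : Type u} [Group X] [Finite X] (T : Sylow p X)
    (H : Subgroup X) [hHn : H.Normal] (hHp : IsPGroup p H)
    (hc : Subgroup.centralizer (H : Set X) ≤ H) (hq : NPC p (X ⧸ H))
    (hco : IsCoatom (T : Subgroup X))
    (hcen : ∀ z ∈ (T : Subgroup X) ⊓ Subgroup.centralizer ((T : Subgroup X) : Set X), z ^ p = 1 →
      ∀ x : X, x * z = z * x)
    (h2 : NPC p (Subgroup.centralizer
      (((T : Subgroup X) ⊓ Subgroup.centralizer ((T : Subgroup X) : Set X) : Subgroup X) : Set X))) :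
    NPC p X := by
  have hHT : H ≤ (T : Subgroup X) := (le_pCore hHn hHp).trans (pCore_le_sylow T)
  obtain ⟨Nb, hNbn, hNbc, k, hk⟩ := hq
  have hs := QuotientGroup.mk'_surjective H
  obtain ⟨N, hN⟩ : ∃ N, N = Nb.comap (QuotientGroup.mk' H) := ⟨_, rfl⟩
  haveI hNn : N.Normal := by rw [hN]; exact hNbn.comap _
  have hHN : H ≤ N := by
    rw [hN]
    conv_lhs => rw [← QuotientGroup.ker_mk' H]
    exact Subgroup.ker_le_comap _ _
  have hNidx : N.index = p ^ k := by rw [hN, Subgroup.index_comap_of_surjective _ hs, hk]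
  have hrel : (H.relIndex N).Coprime p := by
    rw [relIndex_eq_card_map, hN, Subgroup.map_comap_eq_self_of_surjective hs]; exact hNbc
  -- complement
  haveI : (H.subgroupOf N).Normal := inferInstance
  obtain ⟨j, hj⟩ := IsPGroup.iff_card.mp hHp
  have hcop : Nat.Coprime (Nat.card (H.subgroupOf N)) (H.subgroupOf N).index := by
    rw [card_subgroupOf_of_le hHN, hj]
    exact (Nat.Coprime.pow_right j hrel).symm
  obtain ⟨Q', hQ'⟩ := Subgroup.exists_right_complement'_of_coprime hcop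
  obtain ⟨Q, hQ⟩ : ∃ Q, Q = Q'.map N.subtype := ⟨_, rfl⟩
  have hQN : Q ≤ N := by rw [hQ]; exact Subgroup.map_subtype_le _
  have hQcard : (Nat.card Q).Coprime p := by
    rw [hQ, Subgroup.card_map_of_injective N.subtype_injective, ← hQ'.symm.index_eq_card]
    exact hrel
  have hsup : H ⊔ Q = N := by
    have h1 := hQ'.sup_eq_top
    have h3 := congrArg (Subgroup.map N.subtype) h1
    rw [Subgroup.map_sup, Subgroup.map_subgroupOf_eq_of_le hHN, ← hQ, ← MonoidHom.range_eq_map,
      Subgroup.range_subtype] at h3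
    exact h3
  -- V
  obtain ⟨Z, hZ⟩ : ∃ Z, Z = H ⊓ Subgroup.centralizer (H : Set X) := ⟨_, rfl⟩
  haveI hZn : Z.Normal := by rw [hZ]; infer_instance
  haveI hZab : IsMulCommutative Z := by rw [hZ]; exact comm_inf_centralizer H
  have hZp : IsPGroup p Z := hHp.to_le (hZ ▸ inf_le_left)
  obtain ⟨V, hV⟩ : ∃ V, V = omegaOne p Z := ⟨_, rfl⟩
  haveI hVn : V.Normal := by rw [hV]; exact omegaOne_normal Z
  have hVel : IsElementaryAbelian p V := by rw [hV]; exact elemAb_omegaOne hZab
  haveI hVab : IsMulCommutative V := hVel.1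
  have hVZ : V ≤ Z := by rw [hV]; exact omegaOne_le Z
  have hVp : IsPGroup p V := hZp.to_le hVZ
  have hcopV : ∀ U : Subgroup X, IsPGroup p U → (Nat.card Q).Coprime (Nat.card U) := by
    intro U hU
    obtain ⟨i, hi⟩ := IsPGroup.iff_card.mp hU
    rw [hi]; exact Nat.Coprime.pow_right i hQcard
  have hnorm : ∀ U : Subgroup X, U.Normal → Q ≤ Subgroup.normalizer (U : Set X) := by
    intro U hU
    rw [Subgroup.normalizer_eq_top_iff.mpr hU]; exact le_top
  have h55 := (S0055.result Q V (hnorm V hVn) (hcopV V hVp)).1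
  have hVN : ⁅V, N⁆ ≤ ⁅V, Q⁆ := by
    rw [Subgroup.commutator_le]
    intro v hv n hn
    rw [← hsup] at hn
    obtain ⟨h, hh, q, hq, rfl⟩ := Subgroup.mem_sup_of_normal_left.mp hn
    have hvc : ∀ w ∈ V, h * w = w * h := by
      intro w hw
      have h3 := hVZ hw
      rw [hZ] at h3
      exact Subgroup.mem_centralizer_iff.mp (Subgroup.mem_inf.mp h3).2 h hh
    have hw : ⁅v, q⁆ ∈ V := by
      rw [commutatorElement_def, mul_assoc, mul_assoc]
      apply mul_mem hv
      rw [← mul_assoc]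
      exact hVn.conj_mem _ (inv_mem hv) _
    have e1 : ⁅v, h⁆ = 1 := by
      rw [commutatorElement_eq_one_iff_mul_comm]; exact (hvc v hv).symm
    rw [commutatorElement_mul_right, e1, one_mul, hvc _ hw, mul_inv_cancel_right]
    exact Subgroup.commutator_mem_commutator hv hq
  have hVN1 : ⁅V, N⁆ = ⊥ := by
    by_contra hne
    have hle : ⁅V, N⁆ ≤ V := Subgroup.commutator_le_left V N
    obtain ⟨z, hz, hz1, hzc⟩ := exists_mem_centralizer_of_le_normalizer T.2
      (hle.trans (hVZ.trans ((hZ ▸ inf_le_left : Z ≤ H).trans hHT)))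
      (by rw [Subgroup.normalizer_eq_top_iff.mpr inferInstance]; exact le_top) hne
    apply hz1
    have hzT : z ∈ (T : Subgroup X) := hHT ((hZ ▸ inf_le_left : Z ≤ H) (hVZ (hle hz)))
    have hzcen := hcen z (Subgroup.mem_inf.mpr ⟨hzT, hzc⟩) (hVel.2 z (hle hz))
    have : z ∈ (V ⊓ Subgroup.centralizer (Q : Set X)) ⊓ ⁅V, Q⁆ := by
      refine Subgroup.mem_inf.mpr ⟨Subgroup.mem_inf.mpr ⟨hle hz, ?_⟩, hVN hz⟩
      rw [Subgroup.mem_centralizer_iff]
      intro x _
      exact hzcen x
    rwa [h55, Subgroup.mem_bot] at this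
  have hQZ : Q ≤ Subgroup.centralizer (Z : Set X) := by
    apply S0056.result Q Z (hnorm Z hZn) (hcopV Z hZp)
    intro v hv hvo a ha
    have hvp : v ^ p = 1 := by
      obtain ⟨i, hi⟩ := hZp ⟨v, hv⟩
      have hi' : v ^ p ^ i = 1 := congrArg Subtype.val hi
      have h3 := orderOf_dvd_of_pow_eq_one hi'
      have h4 := (Nat.prime_dvd_prime_iff_eq hvo Fact.out).mp (hvo.dvd_of_dvd_pow h3)
      rw [← h4]; exact pow_orderOf_eq_one v
    have hvV : v ∈ V := by rw [hV]; exact mem_omegaOne hv hvp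
    have h5 : ⁅v, a⁆ = 1 := by
      rw [← Subgroup.mem_bot, ← hVN1]
      exact Subgroup.commutator_mem_commutator hvV (hQN ha)
    exact (commutatorElement_eq_one_iff_mul_comm.mp h5).symm
  have hZT : (T : Subgroup X) ⊓ Subgroup.centralizer ((T : Subgroup X) : Set X) ≤ Z := by
    intro z hz
    obtain ⟨h3, h4⟩ := Subgroup.mem_inf.mp hz
    have h5 : z ∈ Subgroup.centralizer (H : Set X) :=
      Subgroup.centralizer_le (SetLike.coe_subset_coe.mpr hHT) h4
    rw [hZ]
    exact Subgroup.mem_inf.mpr ⟨hc h5, h5⟩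
  have hQC : Q ≤ Subgroup.centralizer
      (((T : Subgroup X) ⊓ Subgroup.centralizer ((T : Subgroup X) : Set X) : Subgroup X) : Set X) :=
    hQZ.trans (Subgroup.centralizer_le (SetLike.coe_subset_coe.mpr hZT))
  have hTC : (T : Subgroup X) ≤ Subgroup.centralizer
      (((T : Subgroup X) ⊓ Subgroup.centralizer ((T : Subgroup X) : Set X) : Subgroup X) : Set X) := by
    rw [Subgroup.le_centralizer_iff]
    exact inf_le_right
  by_cases hQT : Q ≤ (T : Subgroup X)
  · -- Q is trivial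
    have hQ1 : Q = ⊥ := by
      have := pgroup_inf_coprime_eq_bot T.2 hQcard
      rwa [inf_eq_right.mpr hQT] at this
    apply NPC.of_isPGroup
    apply IsPGroup.of_card (n := j + k)
    rw [← Subgroup.card_mul_index N, hNidx, ← hsup, hQ1, sup_bot_eq, hj, pow_add]
  · exact NPC.of_top (eq_top_of_coatom_of_not_le hco hTC (fun h => hQT (hQC.trans h))) h2

theorem final_thompsonE [Fact p.Prime] (hp : p ≠ 2) {X : Type u} [Group X] [Finite X]
    (T : Sylow p X)
    (h1 : NPC p (Subgroup.normalizer (thompsonSubgroupOf p (T : Subgroup X) : Set X)))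
    (h2 : NPC p (Subgroup.centralizer
      (((T : Subgroup X) ⊓ Subgroup.centralizer ((T : Subgroup X) : Set X) : Subgroup X) : Set X)))
    (hc : Subgroup.centralizer (pCore p X : Set X) ≤ pCore p X) (hq : NPC p (X ⧸ pCore p X))
    (hco : IsCoatom (T : Subgroup X)) : NPC p X := by
  haveI hWn := ws_normal ((serClass_of_final hq T hco).actionPStable hp) hc T
  obtain ⟨W, hW⟩ : ∃ W, W = (stableNormalClosure p ↥(T : Subgroup X)).map (T : Subgroup X).subtype :=
    ⟨_, rfl⟩
  rw [← hW] at hWn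
  have hJW : thompsonSubgroupOf p (T : Subgroup X) ≤ Subgroup.centralizer (W : Set X) := by
    rintro _ ⟨x, hx, rfl⟩
    rw [Subgroup.mem_centralizer_iff, hW]
    rintro _ ⟨w, hw, rfl⟩
    have h3 := omegaOne_le _ (ws_le_of_mem oct_mem_wsFam hw)
    have h4 := Subgroup.mem_centralizer_iff.mp (Subgroup.mem_inf.mp h3).2 x hx
    exact (congrArg Subtype.val h4).symm
  have hfr := normalizer_thompson_sup_eq_top T (Subgroup.centralizer (W : Set X)) hJW
  have hTN : (T : Subgroup X) ≤
      Subgroup.normalizer (thompsonSubgroupOf p (T : Subgroup X) : Set X) :=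
    Subgroup.le_normalizer.trans (normalizer_le_iF (jE_char (p := p)) T.2)
  by_cases hN : Subgroup.normalizer (thompsonSubgroupOf p (T : Subgroup X) : Set X) ≤ T
  · apply npc_of_omegaZ_central T (pCore p X) pCore_isPGroup hc hq hco ?_ h2
    intro z hz hzp x
    obtain ⟨hzT, hzc⟩ := Subgroup.mem_inf.mp hz
    have hzW : z ∈ W := by
      rw [hW]
      refine ⟨⟨z, hzT⟩, omegaOne_center_le_ws (mem_omegaOne ?_ (Subtype.ext hzp)), rfl⟩
      rw [Subgroup.mem_center_iff]
      intro d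
      exact Subtype.ext (Subgroup.mem_centralizer_iff.mp hzc d d.2)
    have h3 : (⊤ : Subgroup X) ≤ Subgroup.centralizer ({z} : Set X) := by
      rw [← hfr]
      apply sup_le
      · refine hN.trans ?_
        intro t ht
        rw [Subgroup.mem_centralizer_iff]
        rintro _ rfl
        exact (Subgroup.mem_centralizer_iff.mp hzc t ht).symm
      · exact Subgroup.centralizer_le (Set.singleton_subset_iff.mpr hzW)
    exact (Subgroup.mem_centralizer_iff.mp (h3 (Subgroup.mem_top x)) z rfl).symm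
  · exact NPC.of_top (eq_top_of_coatom_of_not_le hco hTN hN) h1

theorem npc_thompsonE [Fact p.Prime] (hp : p ≠ 2) {G : Type u} [Group G] [Finite G]
    (P : Sylow p G)
    (h1 : NPC p (Subgroup.normalizer (thompsonSubgroupOf p (P : Subgroup G) : Set G)))
    (h2 : NPC p (Subgroup.centralizer
      (((P : Subgroup G) ⊓ Subgroup.centralizer ((P : Subgroup G) : Set G) : Subgroup G) : Set G))) :
    NPC p G := by
  refine npc_functor2 (jE_char (p := p)) (zF_char (p := p)) True (fun _ _ => True)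
    (fun _ _ _ _ => trivial) (fun _ _ _ _ _ => trivial) ?_ G trivial P P
    ⟨le_rfl, fun x _ g hg => hg⟩ (fun _ => rfl) h1 (by rw [iF_zF]; exact h2)
  intro X _ _ _ T D _ hfull h1 h2 hc hq hco
  rw [hfull trivial] at h1 h2
  rw [iF_zF] at h2
  exact final_thompsonE hp T h1 h2 hc hq hco

end Cfsg.Agent.Lib.Helper5
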