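import Cfsg.Agent.Lib.Helper5.NPCFun

set_option autoImplicit false

namespace Cfsg.Agent.Lib.Helper5

open Cfsg
open scoped commutatorElement

universe u

variable {p : ℕ}

/-- Functor form of the reduction, one functor, normalizer test. -/
theorem npc_functor [Fact p.Prime] {W : ∀ (Q : Type u) [Group Q], Subgroup Q}
    (hW : IsCharPFunctor.{u} p W) (full : Prop)
    (𝒞 : ∀ (X : Type u) [Group X], Prop)
    (hCsub : ∀ (X : Type u) [Group X] (M : Subgroup X), 𝒞 X → 𝒞 M)
    (hCquot : ∀ (X : Type u) [Group X] (N : Subgroup X) [N.Normal], 𝒞 X → 𝒞 (X ⧸ N))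
    (T5 : ∀ (X : Type u) [Group X] [Finite X], 𝒞 X → ∀ (T : Sylow p X) (D : Subgroup X),
      IsStronglyClosed D (T : Subgroup X) → (full → D = (T : Subgroup X)) →
      Subgroup.centralizer (pCore p X : Set X) ≤ pCore p X → NPC p (X ⧸ pCore p X) →
      IsCoatom (T : Subgroup X) → (inducedFunctor W D).Normal)
    (X : Type u) [Group X] [Finite X] (hX : 𝒞 X) (T : Sylow p X) (D : Subgroup X)
    (hD : IsStronglyClosed D (T : Subgroup X)) (hfull : full → D = (T : Subgroup X))
    (h : NPC p (Subgroup.normalizer (inducedFunctor W D : Set X))) : NPC p X := by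
  refine npc_reduction full 𝒞 hCsub hCquot (testN p W) ?_ ?_ ?_ ?_ ?_ ?_ _ X rfl hX T D hD hfull h
  · intro X _ _ M D hDM hDp h
    exact testN_sub hW hDM hDp h
  · intro X _ _ M D hDM hDp hD1 h
    exact ⟨inducedFunctor W D, iF_le D, iF_ne_bot hW hDp hD1, normalizer_le_iF hW hDp,
      fun h' => h (testN_sub hW hDM hDp h')⟩
  · intro X _ _ D hDp hD1 h
    exact ⟨inducedFunctor W D, iF_le D, iF_ne_bot hW hDp hD1, normalizer_le_iF hW hDp, h⟩
  · intro X _ _ D hDn hDp h
    refine NPC.of_top ?_ h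
    rw [eq_top_iff, ← Subgroup.normalizer_eq_top_iff.mpr hDn]
    exact normalizer_le_iF hW hDp
  · intro X _ _ O D _ hO hDp h
    exact testN_quot hW O D hO hDp h
  · intro X _ _ hX T D hD hfull h hc hq hT
    exact NPC.of_top (Subgroup.normalizer_eq_top_iff.mpr (T5 X hX T D hD hfull hc hq hT)) h

/-- Functor form of the reduction, a normalizer test and a centralizer test. -/
theorem npc_functor2 [Fact p.Prime] {W₁ W₂ : ∀ (Q : Type u) [Group Q], Subgroup Q}
    (hW₁ : IsCharPFunctor.{u} p W₁) (hW₂ : IsCharPFunctor.{u} p W₂) (full : Prop)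
    (𝒞 : ∀ (X : Type u) [Group X], Prop)
    (hCsub : ∀ (X : Type u) [Group X] (M : Subgroup X), 𝒞 X → 𝒞 M)
    (hCquot : ∀ (X : Type u) [Group X] (N : Subgroup X) [N.Normal], 𝒞 X → 𝒞 (X ⧸ N))
    (T5 : ∀ (X : Type u) [Group X] [Finite X], 𝒞 X → ∀ (T : Sylow p X) (D : Subgroup X),
      IsStronglyClosed D (T : Subgroup X) → (full → D = (T : Subgroup X)) →
      NPC p (Subgroup.normalizer (inducedFunctor W₁ D : Set X)) →
      NPC p (Subgroup.centralizer (inducedFunctor W₂ D : Set X)) →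
      Subgroup.centralizer (pCore p X : Set X) ≤ pCore p X → NPC p (X ⧸ pCore p X) →
      IsCoatom (T : Subgroup X) → NPC p X)
    (X : Type u) [Group X] [Finite X] (hX : 𝒞 X) (T : Sylow p X) (D : Subgroup X)
    (hD : IsStronglyClosed D (T : Subgroup X)) (hfull : full → D = (T : Subgroup X))
    (h₁ : NPC p (Subgroup.normalizer (inducedFunctor W₁ D : Set X)))
    (h₂ : NPC p (Subgroup.centralizer (inducedFunctor W₂ D : Set X))) : NPC p X := by
  refine npc_reduction full 𝒞 hCsub hCquot (fun X _ D => testN p W₁ X D ∧ testC p W₂ X D)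
    ?_ ?_ ?_ ?_ ?_ ?_ _ X rfl hX T D hD hfull ⟨h₁, h₂⟩
  · intro X _ _ M D hDM hDp h
    exact ⟨testN_sub hW₁ hDM hDp h.1, testC_sub hW₂ hDM hDp h.2⟩
  · intro X _ _ M D hDM hDp hD1 h
    by_cases h1 : testN p W₁ M (D.subgroupOf M)
    · have h2 : ¬ testC p W₂ M (D.subgroupOf M) := fun h2 => h ⟨h1, h2⟩
      exact ⟨inducedFunctor W₂ D, iF_le D, iF_ne_bot hW₂ hDp hD1, normalizer_le_iF hW₂ hDp,
        fun h' => h2 (testC_sub hW₂ hDM hDp (h'.of_le (Subgroup.centralizer_le_normalizer _)))⟩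
    · exact ⟨inducedFunctor W₁ D, iF_le D, iF_ne_bot hW₁ hDp hD1, normalizer_le_iF hW₁ hDp,
        fun h' => h1 (testN_sub hW₁ hDM hDp h')⟩
  · intro X _ _ D hDp hD1 h
    by_cases h1 : testN p W₁ X D
    · have h2 : ¬ testC p W₂ X D := fun h2 => h ⟨h1, h2⟩
      exact ⟨inducedFunctor W₂ D, iF_le D, iF_ne_bot hW₂ hDp hD1, normalizer_le_iF hW₂ hDp,
        fun h' => h2 (h'.of_le (Subgroup.centralizer_le_normalizer _))⟩
    · exact ⟨inducedFunctor W₁ D, iF_le D, iF_ne_bot hW₁ hDp hD1, normalizer_le_iF hW₁ hDp, h1⟩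
  · intro X _ _ D hDn hDp h
    refine NPC.of_top ?_ h.1
    rw [eq_top_iff, ← Subgroup.normalizer_eq_top_iff.mpr hDn]
    exact normalizer_le_iF hW₁ hDp
  · intro X _ _ O D _ hO hDp h
    exact ⟨testN_quot hW₁ O D hO hDp h.1, testC_quot hW₂ O D hO hDp h.2⟩
  · intro X _ _ hX T D hD hfull h hc hq hT
    exact T5 X hX T D hD hfull h.1 h.2 hc hq hT

/-- `X` is a homomorphic image of a subgroup of `G`. -/
def SecOf (G : Type u) [Group G] (X : Type u) [Group X] : Prop :=
  ∃ (K : Subgroup G) (f : K →* X), Function.Surjective f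

theorem SecOf.self (G : Type u) [Group G] : SecOf G G :=
  ⟨⊤, (⊤ : Subgroup G).subtype, fun x => ⟨⟨x, trivial⟩, rfl⟩⟩

theorem SecOf.sub {G : Type u} [Group G] (X : Type u) [Group X] (M : Subgroup X)
    (h : SecOf G X) : SecOf G M := by
  obtain ⟨K, f, hf⟩ := h
  refine ⟨(M.comap f).map K.subtype, (f.subgroupComap M).comp
    ((M.comap f).equivMapOfInjective K.subtype K.subtype_injective).symm.toMonoidHom, ?_⟩
  exact (MonoidHom.subgroupComap_surjective_of_surjective f M hf).comp (MulEquiv.surjective _)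

theorem SecOf.quot {G : Type u} [Group G] (X : Type u) [Group X] (N : Subgroup X) [N.Normal]
    (h : SecOf G X) : SecOf G (X ⧸ N) := by
  obtain ⟨K, f, hf⟩ := h
  exact ⟨K, (QuotientGroup.mk' N).comp f, (QuotientGroup.mk'_surjective N).comp hf⟩

theorem SecOf.exists_equiv {G : Type u} [Group G] {X : Type u} [Group X] (h : SecOf G X) :
    ∃ (K R : Subgroup G) (_ : (R.subgroupOf K).Normal), Nonempty ((K ⧸ R.subgroupOf K) ≃* X) := by
  obtain ⟨K, f, hf⟩ := h
  have e : (f.ker.map K.subtype).subgroupOf K = f.ker :=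
    Subgroup.comap_map_eq_self_of_injective K.subtype_injective _
  have hn : ((f.ker.map K.subtype).subgroupOf K).Normal := by rw [e]; infer_instance
  exact ⟨K, f.ker.map K.subtype, hn,
    ⟨(QuotientGroup.quotientMulEquivOfEq e).trans (QuotientGroup.quotientKerEquivOfSurjective f hf)⟩⟩

/-- transport of normality of `W(T)` along an isomorphism -/
theorem iF_normal_of_equiv [Fact p.Prime] {W : ∀ (Q : Type u) [Group Q], Subgroup Q}
    (hW : IsCharPFunctor.{u} p W) {X Y : Type u} [Group X] [Finite X] [Group Y] (e : X ≃* Y)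
    {D : Subgroup X} (hD : IsPGroup p D)
    (h : (inducedFunctor W (D.map e.toMonoidHom)).Normal) : (inducedFunctor W D).Normal := by
  rw [iF_map_of_injective hW e.toMonoidHom e.injective hD] at h
  rw [← Subgroup.comap_map_eq_self_of_injective (f := e.toMonoidHom) e.injective
    (inducedFunctor W D)]
  exact h.comap _

theorem isCoatom_map_equiv {X Y : Type*} [Group X] [Group Y] (e : X ≃* Y) {T : Subgroup X}
    (hT : IsCoatom T) : IsCoatom (T.map e.toMonoidHom) :=
  ((MulEquiv.mapSubgroup e).isCoatom_iff T).mpr hT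

theorem NPC_quot_pCore_of_equiv [Fact p.Prime] {X Y : Type*} [Group X] [Group Y] (e : X ≃* Y)
    (h : NPC p (X ⧸ pCore p X)) : NPC p (Y ⧸ pCore p Y) :=
  h.of_equiv (QuotientGroup.congr (pCore p X) (pCore p Y) e (pCore_map_equiv e))

end Cfsg.Agent.Lib.Helper5
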