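import Cfsg.Agent.Lib.Helper5.QuadStab2
import Cfsg.Agent.Lib.Helper5.NPCRed0
import Cfsg.Agent.Lib.Helper1.CoprimeSylow
import Cfsg.Prelude.Def_LocalEven

set_option autoImplicit false

namespace Cfsg.Agent.Lib.Helper5

open Cfsg
open scoped commutatorElement

/-- Groups with a normal series `p`-group, abelian `p'`-group, `p`-group. -/
def SerClass (p : ℕ) (X : Type*) [Group X] : Prop :=
  ∃ H K : Subgroup X, H.Normal ∧ K.Normal ∧ IsPGroup p H ∧ ⁅K, K⁆ ≤ H ∧
    (H.relIndex K).Coprime p ∧ ∃ k : ℕ, K.index = p ^ k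

variable {p : ℕ}

theorem SerClass.stable [Fact p.Prime] (hp : p ≠ 2) {X : Type*} [Group X] [Finite X]
    (h : SerClass p X) (V : Subgroup X) [V.Normal] (hV : IsPGroup p V) (a : X)
    (hq : ⁅⁅V, Subgroup.zpowers a⁆, Subgroup.zpowers a⁆ = ⊥) :
    (QuotientGroup.mk a : X ⧸ Subgroup.centralizer (V : Set X)) ∈
      pCore p (X ⧸ Subgroup.centralizer (V : Set X)) := by
  obtain ⟨H, K, hH, hK, hHp, hKH, hcop, hidx⟩ := h
  exact stable_of_series hp H K V hHp hKH hcop hidx hV a hq

theorem SerClass.subgroup [Fact p.Prime] {X : Type*} [Group X] (M : Subgroup X)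
    (h : SerClass p X) : SerClass p M := by
  obtain ⟨H, K, hH, hK, hHp, hKH, hcop, k, hk⟩ := h
  refine ⟨H.subgroupOf M, K.subgroupOf M, inferInstance, inferInstance, hHp.comap_subtype, ?_, ?_, ?_⟩
  · rw [Subgroup.commutator_le]
    intro x hx y hy
    exact hKH (Subgroup.commutator_mem_commutator (Subgroup.mem_subgroupOf.mp hx)
      (Subgroup.mem_subgroupOf.mp hy))
  · rw [← Subgroup.inf_subgroupOf_right K M, Subgroup.relIndex_subgroupOf inf_le_right]
    exact Nat.Coprime.coprime_dvd_left (relIndex_dvd_relIndex_of_le inf_le_left) hcop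
  · apply pow_of_dvd_pow (k := k)
    rw [← hk]
    exact Subgroup.relIndex_dvd_index_of_normal K M

theorem SerClass.of_surjective [Fact p.Prime] {X Y : Type*} [Group X] [Group Y] (f : X →* Y)
    (hf : Function.Surjective f) (h : SerClass p X) : SerClass p Y := by
  obtain ⟨H, K, hH, hK, hHp, hKH, hcop, k, hk⟩ := h
  haveI : (H.map f).Normal := hH.map f hf
  refine ⟨H.map f, K.map f, inferInstance, hK.map f hf, hHp.map f, ?_, ?_, ?_⟩
  · rw [← Subgroup.map_commutator]; exact Subgroup.map_mono hKH
  · rw [relIndex_eq_card_map, Subgroup.map_map, ← Subgroup.relIndex_ker]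
    refine Nat.Coprime.coprime_dvd_left (Subgroup.relIndex_dvd_of_le_left K ?_) hcop
    intro x hx
    rw [MonoidHom.mem_ker, MonoidHom.comp_apply]
    exact (QuotientGroup.eq_one_iff _).mpr (Subgroup.mem_map_of_mem f hx)
  · apply pow_of_dvd_pow (k := k)
    rw [← hk]
    exact Subgroup.index_map_dvd K hf

theorem SerClass.normalizerPStable [Fact p.Prime] (hp : p ≠ 2) {X : Type*} [Group X] [Finite X]
    (h : SerClass p X) : IsNormalizerPStable p X := by
  intro P hP g hg hq
  obtain ⟨N, hN⟩ : ∃ N, N = Subgroup.normalizer (P : Set X) := ⟨_, rfl⟩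
  subst hN
  haveI : (P.subgroupOf (Subgroup.normalizer (P : Set X))).Normal := Subgroup.normal_in_normalizer
  have h1 := (h.subgroup (Subgroup.normalizer (P : Set X))).stable hp
    (P.subgroupOf (Subgroup.normalizer (P : Set X))) hP.comap_subtype ⟨g, hg⟩ (by
      apply Subgroup.map_injective (Subgroup.normalizer (P : Set X)).subtype_injective
      rw [Subgroup.map_commutator, Subgroup.map_commutator, MonoidHom.map_zpowers,
        Subgroup.map_subgroupOf_eq_of_le Subgroup.le_normalizer, Subgroup.map_bot]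
      exact hq)
  exact (quot_pCore_mem_iff (p := p) (MonoidHom.id _) Function.surjective_id
    ((Subgroup.centralizer (P : Set X)).subgroupOf (Subgroup.normalizer (P : Set X)))
    (Subgroup.centralizer ((P.subgroupOf (Subgroup.normalizer (P : Set X)) :
      Subgroup (Subgroup.normalizer (P : Set X))) : Set (Subgroup.normalizer (P : Set X))))
    (by
      rw [Subgroup.comap_id]
      ext x
      rw [Subgroup.mem_subgroupOf, Subgroup.mem_centralizer_iff, Subgroup.mem_centralizer_iff]
      constructor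
      · intro h u hu
        exact Subtype.ext (h u (Subgroup.mem_subgroupOf.mp hu))
      · intro h u hu
        exact congrArg Subtype.val (h ⟨u, Subgroup.le_normalizer hu⟩
          (Subgroup.mem_subgroupOf.mpr hu))) ⟨g, hg⟩).mpr h1

/-- A normal `p`-complement on which a maximal Sylow `p`-subgroup acts is abelian. -/
theorem abelian_of_coatom [Fact p.Prime] {Y : Type*} [Group Y] [Finite Y] (N : Subgroup Y)
    [hN : N.Normal] (hc : (Nat.card N).Coprime p) (hidx : ∃ k : ℕ, N.index = p ^ k)
    (T : Sylow p Y) (hT : IsCoatom (T : Subgroup Y)) : N ≤ Subgroup.centralizer (N : Set Y) := by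
  have hdisj : (T : Subgroup Y) ⊓ N = ⊥ := pgroup_inf_coprime_eq_bot T.2 hc
  have htop : (T : Subgroup Y) ⊔ N = ⊤ := by rw [sup_comm]; exact sup_sylow_eq_top N hidx T
  have key : ∀ L : Subgroup Y, L ≤ N → (T : Subgroup Y) ≤ Subgroup.normalizer (L : Set Y) →
      L ≠ ⊥ → L = N := by
    intro L hLN hTL hL1
    have h1 : (T : Subgroup Y) < (T : Subgroup Y) ⊔ L := by
      refine lt_of_le_of_ne le_sup_left (fun h => hL1 ?_)
      rw [eq_bot_iff, ← hdisj]
      exact le_inf (by rw [h]; exact le_sup_right) hLN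
    have h2 := hT.2 _ h1
    have h3 := card_sup_mul_card_inf (T : Subgroup Y) L hTL
    have h4 := card_sup_mul_card_inf (T : Subgroup Y) N Subgroup.le_normalizer_of_normal
    have h5 : (T : Subgroup Y) ⊓ L = ⊥ := by
      rw [eq_bot_iff, ← hdisj]; exact inf_le_inf_left _ hLN
    rw [h2, h5] at h3
    rw [htop, hdisj, h3] at h4
    have h6 : Nat.card L = Nat.card N := Nat.eq_of_mul_eq_mul_left Nat.card_pos h4
    exact Subgroup.eq_of_le_of_card_ge hLN h6.ge
  by_cases hN1 : N = ⊥
  · rw [hN1]; exact bot_le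
  have hcard : Nat.card N ≠ 1 := by
    intro h; exact hN1 ((Subgroup.card_eq_one).mp h)
  obtain ⟨q, hq, hqd⟩ := Nat.exists_prime_and_dvd hcard
  haveI : Fact q.Prime := ⟨hq⟩
  have hcop : (Nat.card (T : Subgroup Y)).Coprime (Nat.card N) := by
    obtain ⟨k, hk⟩ := IsPGroup.iff_card.mp T.2
    rw [hk]; exact (Nat.Coprime.pow_right k hc).symm
  haveI : Group.IsNilpotent (T : Subgroup Y) := T.2.isNilpotent
  obtain ⟨⟨P, hP⟩, -⟩ := Cfsg.Agent.Lib.Helper1.invariant_sylow (T : Subgroup Y) N
    Subgroup.le_normalizer_of_normal hcop (Or.inl inferInstance) q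
  have hP1 : (P : Subgroup N).map N.subtype ≠ ⊥ := by
    rw [Ne, Subgroup.map_eq_bot_iff_of_injective _ N.subtype_injective]
    exact P.ne_bot_of_dvd_card hqd
  have hPN := key _ (Subgroup.map_subtype_le _) hP hP1
  have hNq : IsPGroup q N := hPN ▸ P.2.map _
  obtain ⟨z, hzN, hz1, hzc⟩ := exists_mem_centralizer_of_le_normalizer hNq le_rfl
    Subgroup.le_normalizer hN1
  have h7 := key (N ⊓ Subgroup.centralizer (N : Set Y)) inf_le_left
    Subgroup.le_normalizer_of_normal (by
      intro hb
      apply hz1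
      have : z ∈ N ⊓ Subgroup.centralizer (N : Set Y) := Subgroup.mem_inf.mpr ⟨hzN, hzc⟩
      rwa [hb, Subgroup.mem_bot] at this)
  exact inf_eq_left.mp h7

theorem isCoatom_map_mk {X : Type*} [Group X] (H T : Subgroup X) [H.Normal] (hHT : H ≤ T)
    (hT : IsCoatom T) : IsCoatom (T.map (QuotientGroup.mk' H)) := by
  have hs := QuotientGroup.mk'_surjective H
  have hcm : (T.map (QuotientGroup.mk' H)).comap (QuotientGroup.mk' H) = T := by
    rw [Subgroup.comap_map_eq, QuotientGroup.ker_mk', sup_eq_left.mpr hHT]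
  constructor
  · intro h
    apply hT.1
    rw [← hcm, h, Subgroup.comap_top]
  · intro M hM
    have h1 : T < M.comap (QuotientGroup.mk' H) := by
      rw [← hcm]
      refine lt_of_le_of_ne (Subgroup.comap_mono hM.le) (fun h => hM.ne ?_)
      exact Subgroup.comap_injective hs h
    have h2 := hT.2 _ h1
    rw [← Subgroup.map_comap_eq_self_of_surjective hs M, h2, Subgroup.map_top_of_surjective _ hs]

/-- the final configuration of the reduction lies in `SerClass` -/
theorem serClass_of_final [Fact p.Prime] {X : Type*} [Group X] [Finite X]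
    (hq : NPC p (X ⧸ pCore p X)) (T : Sylow p X) (hT : IsCoatom (T : Subgroup X)) :
    SerClass p X := by
  obtain ⟨N, hN, hc, k, hk⟩ := hq
  haveI := hN
  have hs := QuotientGroup.mk'_surjective (pCore p X)
  have hab := abelian_of_coatom N hc ⟨k, hk⟩ (T.mapSurjective hs) (by
    rw [Sylow.coe_mapSurjective]
    exact isCoatom_map_mk _ _ (pCore_le_sylow T) hT)
  refine ⟨pCore p X, N.comap (QuotientGroup.mk' (pCore p X)), inferInstance, inferInstance,
    pCore_isPGroup, ?_, ?_, k, ?_⟩
  · conv_rhs => rw [← QuotientGroup.ker_mk' (pCore p X)]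
    rw [← Subgroup.map_eq_bot_iff, Subgroup.map_commutator,
      Subgroup.map_comap_eq_self_of_surjective hs]
    exact Subgroup.commutator_eq_bot_iff_le_centralizer.mpr hab
  · rw [relIndex_eq_card_map, Subgroup.map_comap_eq_self_of_surjective hs]
    exact hc
  · rw [Subgroup.index_comap_of_surjective N hs, hk]

end Cfsg.Agent.Lib.Helper5
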