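import Cfsg.Agent.Lib.Helper5.SL2a

set_option autoImplicit false

namespace Cfsg.Agent.Lib.Helper5

variable {K : Type*} [Field K]

local notation "SL2" => Matrix.SpecialLinearGroup (Fin 2)

theorem eq_one_of_pow_coprime {G : Type*} [Group G] (g : G) {m n : ℕ} (hmn : Nat.Coprime m n)
    (hm : g ^ m = 1) (hn : g ^ n = 1) : g = 1 := by
  have := pow_gcd_eq_one.mpr ⟨hm, hn⟩
  rwa [Nat.Coprime.gcd_eq_one hmn, pow_one] at this

theorem mem_ker_transfer {Y : Type*} [Group Y] [Finite Y] {p r : ℕ} [Fact r.Prime] (hp : p.Prime)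
    (hpr : p ≠ r) (R : Sylow r Y)
    (hR : Subgroup.normalizer (R : Set Y) ≤ Subgroup.centralizer (R : Set Y)) (a : Y) (k : ℕ)
    (ha : a ^ (p ^ k) = 1) : a ∈ (MonoidHom.transferSylow R hR).ker := by
  rw [MonoidHom.mem_ker]
  obtain ⟨j, hj⟩ := R.2 (MonoidHom.transferSylow R hR a)
  apply eq_one_of_pow_coprime _ _ _ hj
  · exact p ^ k
  · exact Nat.Coprime.pow _ _ ((Nat.coprime_primes hp Fact.out).mpr hpr)
  · rw [← map_pow, ha, map_one]

/-- In a subgroup of odd order, an element of `SL₂` which is scalar is trivial. -/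
theorem not_sc_of_odd (u : SL2 K) {n : ℕ} (hn : Odd n) (hun : u ^ n = 1) (hu1 : u ≠ 1) :
    ¬ IsSc (u : Matrix (Fin 2) (Fin 2) K) := by
  intro hs
  apply hu1
  apply eq_one_of_pow_coprime u (m := 2) (n := n) _ _ hun
  · exact (Nat.coprime_two_left).mpr hn
  · rw [pow_two]; exact sc_sq u hs

theorem two_ne_zero_of_char {p : ℕ} [Fact p.Prime] [CharP K p] (hp2 : p ≠ 2) : (2 : K) ≠ 0 := by
  intro h
  have : ((2 : ℕ) : K) = 0 := by exact_mod_cast h
  rw [CharP.cast_eq_zero_iff K p] at this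
  exact hp2 ((Nat.prime_dvd_prime_iff_eq Fact.out Nat.prime_two).mp this)

theorem normalizer_le_centralizer_of_odd {p r : ℕ} [Fact p.Prime] [CharP K p] [Fact r.Prime]
    (hp2 : p ≠ 2) (hr : r ≠ p) (Y : Subgroup (SL2 K)) [Finite Y] (hodd : Odd (Nat.card Y))
    (R : Sylow r Y) :
    Subgroup.normalizer (R : Set Y) ≤ Subgroup.centralizer (R : Set Y) := by
  have h2 : (2 : K) ≠ 0 := two_ne_zero_of_char hp2
  have hcardpow : ∀ g : Y, (g : SL2 K) ^ Nat.card Y = 1 := by
    intro g
    have := pow_card_eq_one' (x := g)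
    exact_mod_cast congrArg Subtype.val this
  by_cases hR1 : Nontrivial (R : Subgroup Y)
  · haveI := hR1
    haveI := R.2.center_nontrivial
    obtain ⟨z, hz1⟩ := exists_ne (1 : Subgroup.center (R : Subgroup Y))
    have hz1' : ((z : (R : Subgroup Y)) : Y) ≠ 1 := by
      intro h
      apply hz1
      exact Subtype.ext (Subtype.ext h)
    set u : SL2 K := (((z : (R : Subgroup Y)) : Y) : SL2 K) with hu
    have hu1 : u ≠ 1 := fun h => hz1' (Subtype.ext h)
    have hus : ¬ IsSc (u : Matrix (Fin 2) (Fin 2) K) := not_sc_of_odd u hodd (hcardpow _) hu1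
    have hRu : ∀ t : Y, t ∈ (R : Subgroup Y) → (t : SL2 K) * u = u * t := by
      intro t ht
      have := (Subgroup.mem_center_iff.mp z.2) ⟨t, ht⟩
      exact congrArg (fun x : (R : Subgroup Y) => ((x : Y) : SL2 K)) this
    have hr2 : r ≠ 2 := by
      intro hr2
      have : r ∣ Nat.card Y := by
        have h1 : r ∣ Nat.card (R : Subgroup Y) := by
          obtain ⟨n, hn⟩ := R.2.exists_card_eq
          rcases n with _ | n
          · exfalso
            rw [pow_zero] at hn
            exact (Subgroup.eq_bot_of_card_eq _ hn ▸ hR1).exists_pair_ne.elim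
              (fun a ⟨b, hab⟩ => hab (Subsingleton.elim _ _))
          · rw [hn]; exact dvd_pow_self _ (Nat.succ_ne_zero _)
        exact h1.trans (Subgroup.card_subgroup_dvd_card _)
      rw [hr2] at this
      exact (Nat.not_even_iff_odd.mpr hodd) (even_iff_two_dvd.mpr this)
    have hun : u ^ (2 * p) ≠ 1 := by
      intro h
      obtain ⟨j, hj⟩ := R.2 (z : (R : Subgroup Y))
      have hj' : u ^ (r ^ j) = 1 := by
        have := congrArg (fun x : (R : Subgroup Y) => ((x : Y) : SL2 K)) hj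
        simpa using this
      apply hu1
      apply eq_one_of_pow_coprime u _ h hj'
      apply Nat.Coprime.pow_right
      apply Nat.Coprime.mul_left
      · exact (Nat.coprime_primes Nat.prime_two Fact.out).mpr (Ne.symm hr2)
      · exact (Nat.coprime_primes Fact.out Fact.out).mpr (Ne.symm hr)
    intro h hh
    have hconj : h * ((z : (R : Subgroup Y)) : Y) * h⁻¹ ∈ (R : Subgroup Y) :=
      (Subgroup.mem_normalizer_iff.mp hh _).mp (z : (R : Subgroup Y)).2
    have hhu : (h : SL2 K) * u = u * h := by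
      apply comm_of_normalizes (p := p) h2 u h hus hun (hRu _ hconj) (Nat.card Y) hodd
      rw [hcardpow]; simp
    rw [Subgroup.mem_centralizer_iff]
    intro t ht
    apply Subtype.ext
    exact comm_of_comm' u _ _ hus (hRu t ht) hhu
  · intro h _
    rw [Subgroup.mem_centralizer_iff]
    intro t ht
    have : t = 1 := by
      by_contra hne
      exact hR1 ⟨⟨⟨t, ht⟩, 1, fun h => hne (congrArg Subtype.val h)⟩⟩
    rw [this]; simp

/-- In a finite subgroup of odd order of `SL₂(K)`, `char K = p` odd, any two `p`-elements commute. -/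
theorem pelts_comm_of_odd {p : ℕ} [Fact p.Prime] [CharP K p] (hp2 : p ≠ 2) :
    ∀ (n : ℕ) (Y : Subgroup (SL2 K)) [Finite Y], Nat.card Y = n → Odd n →
      ∀ a ∈ Y, ∀ b ∈ Y, (∃ k : ℕ, a ^ (p ^ k) = 1) → (∃ k : ℕ, b ^ (p ^ k) = 1) → a * b = b * a := by
  intro n
  induction n using Nat.strong_induction_on with
  | _ n IH =>
    intro Y _ hn hodd a ha b hb hak hbk
    by_cases hex : ∃ r : ℕ, r.Prime ∧ r ≠ p ∧ r ∣ n
    · obtain ⟨r, hrp, hr, hrn⟩ := hex
      haveI : Fact r.Prime := ⟨hrp⟩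
      obtain ⟨R⟩ : Nonempty (Sylow r Y) := inferInstance
      have hR := normalizer_le_centralizer_of_odd (p := p) hp2 hr Y (hn ▸ hodd) R
      have hc := MonoidHom.ker_transferSylow_isComplement' R hR
      set Y₁ : Subgroup (SL2 K) := (MonoidHom.transferSylow R hR).ker.map Y.subtype with hY₁
      have hcard₁ : Nat.card Y₁ = Nat.card (MonoidHom.transferSylow R hR).ker :=
        Subgroup.card_map_of_injective Y.subtype_injective
      haveI : Finite Y₁ := Nat.finite_of_card_ne_zero (by rw [hcard₁]; exact Nat.card_pos.ne')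
      have hmul : Nat.card Y₁ * Nat.card (R : Subgroup Y) = n := by
        rw [hcard₁, hc.card_mul_card, hn]
      have hRcard : 1 < Nat.card (R : Subgroup Y) := by
        have h1 : r ∣ Nat.card (R : Subgroup Y) := by
          rw [← hn] at hrn
          exact R.dvd_card_of_dvd_card hrn
        exact lt_of_lt_of_le hrp.one_lt (Nat.le_of_dvd Nat.card_pos h1)
      have hlt : Nat.card Y₁ < n := by
        rw [← hmul]
        exact lt_mul_of_one_lt_right Nat.card_pos hRcard
      have hodd₁ : Odd (Nat.card Y₁) := by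
        rw [← hmul] at hodd
        exact (Nat.odd_mul.mp hodd).1
      obtain ⟨k, hk⟩ := hak
      obtain ⟨l, hl⟩ := hbk
      have ha₁ : a ∈ Y₁ := ⟨⟨a, ha⟩, mem_ker_transfer Fact.out (Ne.symm hr) R hR ⟨a, ha⟩ k
        (Subtype.ext (by simpa using hk)), rfl⟩
      have hb₁ : b ∈ Y₁ := ⟨⟨b, hb⟩, mem_ker_transfer Fact.out (Ne.symm hr) R hR ⟨b, hb⟩ l
        (Subtype.ext (by simpa using hl)), rfl⟩
      exact IH _ hlt Y₁ rfl hodd₁ a ha₁ b hb₁ ⟨k, hk⟩ ⟨l, hl⟩
    · -- `Y` is a `p`-group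
      push Not at hex
      have hcardpow : ∀ g : Y, (g : SL2 K) ^ Nat.card Y = 1 := by
        intro g
        have := pow_card_eq_one' (x := g)
        exact_mod_cast congrArg Subtype.val this
      have hpg : IsPGroup p Y := by
        have hn0 : n ≠ 0 := by rw [← hn]; exact Nat.card_pos.ne'
        have := Nat.eq_prime_pow_of_unique_prime_dvd hn0 (p := p) (fun {d} hd hdn => by
          by_contra hne
          exact hex d hd hne hdn)
        apply IsPGroup.of_card (n := n.primeFactorsList.length)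
        rw [hn]; exact this
      by_cases hY1 : Nontrivial Y
      · haveI := hY1
        haveI := hpg.center_nontrivial
        obtain ⟨z, hz1⟩ := exists_ne (1 : Subgroup.center Y)
        have hu1 : ((z : Y) : SL2 K) ≠ 1 := by
          intro h
          exact hz1 (Subtype.ext (Subtype.ext h))
        have hus := not_sc_of_odd _ (hn ▸ hodd) (hcardpow z) hu1
        have h1 := congrArg Subtype.val ((Subgroup.mem_center_iff.mp z.2) ⟨a, ha⟩)
        have h2 := congrArg Subtype.val ((Subgroup.mem_center_iff.mp z.2) ⟨b, hb⟩)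
        exact comm_of_comm' _ _ _ hus h1 h2
      · have h1 : (⟨a, ha⟩ : Y) = ⟨b, hb⟩ := by
          by_contra hne
          exact hY1 ⟨⟨_, _, hne⟩⟩
        have : a = b := congrArg Subtype.val h1
        rw [this]

theorem isPGroup_zpowers_of_pow {G : Type*} [Group G] {q : ℕ} (g : G) (e : ℕ)
    (h : g ^ (q ^ e) = 1) : IsPGroup q (Subgroup.zpowers g) := by
  rintro ⟨x, hx⟩
  obtain ⟨i, rfl⟩ := Subgroup.mem_zpowers_iff.mp hx
  refine ⟨e, Subtype.ext ?_⟩
  show (g ^ i) ^ (q ^ e) = 1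
  rw [← zpow_natCast, ← zpow_mul, mul_comm, zpow_mul, zpow_natCast, h, one_zpow]

theorem normalizer_le_centralizer_of_abelian {p : ℕ} [Fact p.Prime] [CharP K p]
    (hp2 : p ≠ 2) (Y : Subgroup (SL2 K)) [Finite Y] (T : Sylow 2 Y)
    (hT : ∀ s ∈ (T : Subgroup Y), ∀ t ∈ (T : Subgroup Y), s * t = t * s) :
    Subgroup.normalizer (T : Set Y) ≤ Subgroup.centralizer (T : Set Y) := by
  have h2 : (2 : K) ≠ 0 := two_ne_zero_of_char hp2
  intro h hh
  rw [Subgroup.mem_centralizer_iff]
  intro t ht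
  by_cases hs : IsSc ((t : SL2 K) : Matrix (Fin 2) (Fin 2) K)
  · exact Subtype.ext (sc_comm (t : SL2 K) h hs).symm
  · obtain ⟨j, hj⟩ := T.2 ⟨t, ht⟩
    have hj' : (t : SL2 K) ^ (2 ^ j) = 1 := by
      have := congrArg (fun x : (T : Subgroup Y) => ((x : Y) : SL2 K)) hj
      simpa using this
    have hun : (t : SL2 K) ^ (2 * p) ≠ 1 := by
      intro h1
      apply hs
      apply sc_of_sq h2
      rw [← pow_two]
      apply eq_one_of_pow_coprime _ (m := p) (n := 2 ^ j)
      · exact Nat.Coprime.pow_right _ ((Nat.coprime_primes Fact.out Nat.prime_two).mpr hp2)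
      · rw [← pow_mul]; exact h1
      · rw [← pow_mul, mul_comm, pow_mul, hj', one_pow]
    obtain ⟨e, m, hm, hem⟩ := Nat.exists_eq_two_pow_mul_odd (orderOf_pos h).ne'
    have hmT : h ^ m ∈ (T : Subgroup Y) := by
      have hpg : IsPGroup 2 (Subgroup.zpowers (h ^ m)) := by
        apply isPGroup_zpowers_of_pow _ e
        rw [← pow_mul, mul_comm, ← hem, pow_orderOf_eq_one]
      have := hpg.inf_normalizer_sylow T
      have h3 : h ^ m ∈ Subgroup.zpowers (h ^ m) ⊓ Subgroup.normalizer (T : Set Y) :=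
        ⟨Subgroup.mem_zpowers _, pow_mem hh m⟩
      rw [this] at h3
      exact h3.2
    have hconj : h * t * h⁻¹ ∈ (T : Subgroup Y) := (Subgroup.mem_normalizer_iff.mp hh _).mp ht
    have := comm_of_normalizes (p := p) h2 (t : SL2 K) (h : SL2 K) hs hun
      (congrArg Subtype.val (hT _ hconj _ ht)) m hm (by
        have := congrArg Subtype.val (hT _ hmT _ ht)
        simpa using this)
    exact Subtype.ext this.symm

/-- In a finite subgroup of `SL₂(K)`, `char K = p` odd, with abelian Sylow `2`-subgroups, any two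
`p`-elements commute. -/
theorem pelts_comm_of_abelian {p : ℕ} [Fact p.Prime] [CharP K p] (hp2 : p ≠ 2)
    (Y : Subgroup (SL2 K)) [Finite Y] (T : Sylow 2 Y)
    (hT : ∀ s ∈ (T : Subgroup Y), ∀ t ∈ (T : Subgroup Y), s * t = t * s)
    (a : SL2 K) (ha : a ∈ Y) (b : SL2 K) (hb : b ∈ Y) (hak : ∃ k : ℕ, a ^ (p ^ k) = 1)
    (hbk : ∃ k : ℕ, b ^ (p ^ k) = 1) : a * b = b * a := by
  have hR := normalizer_le_centralizer_of_abelian (p := p) hp2 Y T hT
  set Y₁ : Subgroup (SL2 K) := (MonoidHom.transferSylow T hR).ker.map Y.subtype with hY₁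
  have hcard₁ : Nat.card Y₁ = Nat.card (MonoidHom.transferSylow T hR).ker :=
    Subgroup.card_map_of_injective Y.subtype_injective
  haveI : Finite Y₁ := Nat.finite_of_card_ne_zero (by rw [hcard₁]; exact Nat.card_pos.ne')
  have hodd₁ : Odd (Nat.card Y₁) := by
    rw [hcard₁, ← Nat.not_even_iff_odd, even_iff_two_dvd]
    exact MonoidHom.not_dvd_card_ker_transferSylow T hR
  obtain ⟨k, hk⟩ := hak
  obtain ⟨l, hl⟩ := hbk
  have ha₁ : a ∈ Y₁ := ⟨⟨a, ha⟩, mem_ker_transfer Fact.out hp2 T hR ⟨a, ha⟩ k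
    (Subtype.ext (by simpa using hk)), rfl⟩
  have hb₁ : b ∈ Y₁ := ⟨⟨b, hb⟩, mem_ker_transfer Fact.out hp2 T hR ⟨b, hb⟩ l
    (Subtype.ext (by simpa using hl)), rfl⟩
  exact pelts_comm_of_odd hp2 _ Y₁ rfl hodd₁ a ha₁ b hb₁ ⟨k, hk⟩ ⟨l, hl⟩

/-- upper and lower transvections -/
def tU (l : K) : SL2 K := ⟨!![1, l; 0, 1], by simp [Matrix.det_fin_two]⟩

def sL (l : K) : SL2 K := ⟨!![1, 0; l, 1], by simp [Matrix.det_fin_two]⟩

theorem coe_tU (l : K) : (tU l : Matrix (Fin 2) (Fin 2) K) = !![1, l; 0, 1] := rfl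

theorem coe_sL (l : K) : (sL l : Matrix (Fin 2) (Fin 2) K) = !![1, 0; l, 1] := rfl

theorem tU_mul (a b : K) : tU a * tU b = tU (a + b) := by
  apply Subtype.ext
  rw [Matrix.SpecialLinearGroup.coe_mul, coe_tU, coe_tU, coe_tU, Matrix.mul_fin_two]
  simp [add_comm]

theorem sL_mul (a b : K) : sL a * sL b = sL (a + b) := by
  apply Subtype.ext
  rw [Matrix.SpecialLinearGroup.coe_mul, coe_sL, coe_sL, coe_sL, Matrix.mul_fin_two]
  simp

theorem tU_zero : tU (0 : K) = 1 := by
  apply Subtype.ext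
  simp [tU, Matrix.one_fin_two]

theorem sL_zero : sL (0 : K) = 1 := by
  apply Subtype.ext
  simp [sL, Matrix.one_fin_two]

theorem tU_pow (a : K) (n : ℕ) : tU a ^ n = tU (n * a) := by
  induction n with
  | zero => simp [tU_zero]
  | succ n ih => rw [pow_succ, ih, tU_mul]; congr 1; push_cast; ring

theorem sL_pow (a : K) (n : ℕ) : sL a ^ n = sL (n * a) := by
  induction n with
  | zero => simp [sL_zero]
  | succ n ih => rw [pow_succ, ih, sL_mul]; congr 1; push_cast; ring

theorem tU_pow_char {p : ℕ} [CharP K p] (a : K) : tU a ^ p = 1 := by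
  rw [tU_pow, CharP.cast_eq_zero, zero_mul, tU_zero]

theorem sL_pow_char {p : ℕ} [CharP K p] (a : K) : sL a ^ p = 1 := by
  rw [sL_pow, CharP.cast_eq_zero, zero_mul, sL_zero]

theorem tU_sL_not_comm (a b : K) (ha : a ≠ 0) (hb : b ≠ 0) : tU a * sL b ≠ sL b * tU a := by
  intro h
  have := congrFun (congrFun (congrArg Subtype.val h) 0) 0
  rw [Matrix.SpecialLinearGroup.coe_mul, Matrix.SpecialLinearGroup.coe_mul, coe_tU, coe_sL,
    Matrix.mul_fin_two, Matrix.mul_fin_two] at this
  simp at this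
  rcases this with h | h
  · exact ha h
  · exact hb h

theorem sylow2_not_comm {p : ℕ} [Fact p.Prime] [CharP K p] (hp2 : p ≠ 2)
    (Y : Subgroup (SL2 K)) [Finite Y] (l : K) (hl : l ≠ 0) (h1 : tU l ∈ Y) (h2 : sL 1 ∈ Y)
    (T : Sylow 2 Y) : ¬ ∀ s ∈ (T : Subgroup Y), ∀ t ∈ (T : Subgroup Y), s * t = t * s := by
  intro hT
  exact tU_sL_not_comm l 1 hl one_ne_zero (pelts_comm_of_abelian (p := p) hp2 Y T hT _ h1 _ h2
    ⟨1, by rw [pow_one]; exact tU_pow_char l⟩ ⟨1, by rw [pow_one]; exact sL_pow_char 1⟩)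

end Cfsg.Agent.Lib.Helper5
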