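import Cfsg.Agent.Lib.Helper5.NPC
import Cfsg.Agent.Lib.Helper5.NPCRed0
import Cfsg.Agent.Lib.Helper5.QuadStab
import Cfsg.Agent.Lib.Helper5.ZJ
import Cfsg.Agent.Lib.Helper13.Centric

set_option autoImplicit false

namespace Cfsg.Agent.Lib.Helper5

open Cfsg
open Cfsg.Agent.Lib.Helper13 (cj FN)

variable {p : ℕ}

/-- Alperin–Goldschmidt induction, reduced to centric fully normalized subgroups. -/
theorem ag_core {G : Type*} [Group G] [Finite G] [Fact p.Prime] (P : Sylow p G)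
    (Good : Subgroup G → G → Prop)
    (mono : ∀ A B g, B ≤ A → Good A g → Good B g)
    (trans : ∀ A g h, Good A g → Good (cj A g) h → Good A (g * h))
    (inv : ∀ A g, Good A g → Good (cj A g) g⁻¹)
    (congr : ∀ A g h, (∀ a ∈ A, g⁻¹ * a * g = h⁻¹ * a * h) → Good A g → Good A h)
    (base : ∀ U : Subgroup G, U ≤ P → FN p (P : Subgroup G) U →
      (P : Subgroup G) ⊓ Subgroup.centralizer (U : Set G) ≤ U →
      (∀ B : Subgroup G, B ≤ P → Nat.card U < Nat.card B → ∀ g, cj B g ≤ P → Good B g) →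
      ∀ y ∈ Subgroup.normalizer (U : Set G), Good U y) :
    ∀ A : Subgroup G, A ≤ P → ∀ g, cj A g ≤ P → Good A g := by
  refine Cfsg.Agent.Lib.Helper13.alperin_core P Good mono trans inv
    {U | U ≤ (P : Subgroup G) ∧ FN p (P : Subgroup G) U}
    (fun A hA => by
      obtain ⟨h, h1, h2⟩ := Cfsg.Agent.Lib.Helper13.exists_FN_conj P A (P.2.to_le hA)
      exact ⟨_, ⟨h1, h2⟩, h1, ⟨h, rfl⟩, h2⟩) ?_
  intro U _ hUS hFN IH y hy
  by_cases hcen : (P : Subgroup G) ⊓ Subgroup.centralizer (U : Set G) ≤ U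
  · exact base U hUS hFN hcen IH y hy
  obtain ⟨c, hc, hyc⟩ := Cfsg.Agent.Lib.Helper13.frattini_centralizer P.2 hFN y hy
  have hycU : y * c ∈ Subgroup.normalizer (U : Set G) :=
    mul_mem hy (Subgroup.centralizer_le_normalizer _ hc)
  have hU1P : U ⊔ ((P : Subgroup G) ⊓ Subgroup.centralizer (U : Set G)) ≤ P := sup_le hUS inf_le_left
  have hlt : U < U ⊔ ((P : Subgroup G) ⊓ Subgroup.centralizer (U : Set G)) :=
    lt_of_le_of_ne le_sup_left (fun h => hcen (le_sup_right.trans h.ge))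
  have hcj : cj (U ⊔ ((P : Subgroup G) ⊓ Subgroup.centralizer (U : Set G))) (y * c) =
      U ⊔ ((P : Subgroup G) ⊓ Subgroup.centralizer (U : Set G)) := by
    rw [Cfsg.Agent.Lib.Helper13.cj_sup, Cfsg.Agent.Lib.Helper13.mem_normalizer_iff_cj.mp hycU,
      Cfsg.Agent.Lib.Helper13.mem_normalizer_iff_cj.mp hyc]
  have g1 := IH _ hU1P (card_lt_of_lt hlt) (y * c) (by rw [hcj]; exact hU1P)
  refine congr U (y * c) y (fun a ha => ?_) (mono _ _ _ le_sup_left g1)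
  have h1 : y⁻¹ * a * y ∈ U := by
    have := Cfsg.Agent.Lib.Helper13.conj_mem_cj (g := y) ha
    rwa [Cfsg.Agent.Lib.Helper13.mem_normalizer_iff_cj.mp hy] at this
  have h2 := (Subgroup.mem_centralizer_iff.mp hc) _ h1
  calc (y * c)⁻¹ * a * (y * c) = c⁻¹ * (y⁻¹ * a * y * c) := by group
    _ = c⁻¹ * (c * (y⁻¹ * a * y)) := by rw [h2]
    _ = y⁻¹ * a * y := by group

/-- the stabilizer of the chain `U ≥ V ≥ 1` -/
def chainStab {L : Type*} [Group L] (U V : Subgroup L) [U.Normal] [hV : V.Normal] :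
    Subgroup L where
  carrier := {e | e ∈ Subgroup.centralizer (V : Set L) ∧ ∀ u ∈ U, e * u * e⁻¹ * u⁻¹ ∈ V}
  one_mem' := ⟨one_mem _, fun u _ => by simp⟩
  mul_mem' := by
    rintro a b ⟨ha1, ha2⟩ ⟨hb1, hb2⟩
    refine ⟨mul_mem ha1 hb1, fun u hu => ?_⟩
    have e : a * b * u * (a * b)⁻¹ * u⁻¹ = a * (b * u * b⁻¹ * u⁻¹) * a⁻¹ * (a * u * a⁻¹ * u⁻¹) := by
      group
    rw [e]
    exact mul_mem (hV.conj_mem _ (hb2 u hu) a) (ha2 u hu)
  inv_mem' := by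
    rintro a ⟨ha1, ha2⟩
    refine ⟨inv_mem ha1, fun u hu => ?_⟩
    have e : a⁻¹ * u * a⁻¹⁻¹ * u⁻¹ = a⁻¹ * (a * u * a⁻¹ * u⁻¹)⁻¹ * a⁻¹⁻¹ := by group
    rw [e]
    exact hV.conj_mem _ (inv_mem (ha2 u hu)) a⁻¹

instance chainStab_normal {L : Type*} [Group L] (U V : Subgroup L) [hU : U.Normal] [hV : V.Normal] :
    (chainStab U V).Normal := by
  constructor
  rintro e ⟨he1, he2⟩ g
  refine ⟨(inferInstance : (Subgroup.centralizer (V : Set L)).Normal).conj_mem e he1 g,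
    fun u hu => ?_⟩
  have e1 : g * e * g⁻¹ * u * (g * e * g⁻¹)⁻¹ * u⁻¹ =
      g * (e * (g⁻¹ * u * g⁻¹⁻¹) * e⁻¹ * (g⁻¹ * u * g⁻¹⁻¹)⁻¹) * g⁻¹ := by group
  rw [e1]
  exact hV.conj_mem _ (he2 _ (hU.conj_mem u hu g⁻¹)) g

theorem radical_step {L : Type*} [Group L] [Finite L] [Fact p.Prime] (R : Sylow p L)
    (U V : Subgroup L) [hU : U.Normal] [hV : V.Normal] (hVp : IsPGroup p V) (x : L)
    (hxR : x ∈ (R : Subgroup L)) (hx1 : x ∈ Subgroup.centralizer (V : Set L))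
    (hx2 : ∀ u ∈ U, x * u * x⁻¹ * u⁻¹ ∈ V) :
    ∃ U₁ : Subgroup L, U ≤ U₁ ∧ (U ≤ (R : Subgroup L) → U₁ ≤ (R : Subgroup L)) ∧ x ∈ U₁ ∧
      ∀ y : L, ∃ c ∈ Subgroup.centralizer (U : Set L),
        ∃ n ∈ Subgroup.normalizer (U₁ : Set L), y = c * n := by
  obtain ⟨k, hk⟩ := IsPGroup.iff_card.mp hVp
  have hE : chainStab U V ≤ stabCore p U := by
    apply le_stabCore U (chainStab U V)
    rintro e ⟨he1, he2⟩
    refine ⟨k, ?_⟩
    rw [Subgroup.mem_centralizer_iff]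
    intro u hu
    have hw := he2 u hu
    have h1 : e * u * e⁻¹ = (e * u * e⁻¹ * u⁻¹) * u := by group
    have h2 : e * (e * u * e⁻¹ * u⁻¹) * e⁻¹ = e * u * e⁻¹ * u⁻¹ := by
      rw [← Subgroup.mem_centralizer_iff.mp he1 _ hw]; group
    have h3 := pow_conj e u _ h1 h2 (p ^ k)
    have h4 : (e * u * e⁻¹ * u⁻¹) ^ (p ^ k) = 1 := by
      have := pow_card_eq_one' (G := V) (x := ⟨_, hw⟩)
      rw [hk] at this
      exact congrArg Subtype.val this
    rw [h4, one_mul] at h3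
    calc u * e ^ p ^ k = (e ^ p ^ k * u * (e ^ p ^ k)⁻¹) * e ^ p ^ k := by rw [h3]
      _ = e ^ p ^ k * u := by group
  obtain ⟨f1, f2⟩ := stab_preimage_facts (Subgroup.centralizer (U : Set L)) R
  obtain ⟨P₁, hP₁⟩ : ∃ P₁, P₁ = stabCore p U := ⟨_, rfl⟩
  haveI : P₁.Normal := by rw [hP₁]; infer_instance
  change stabCore p U ≤ _ ⊔ ((R : Subgroup L) ⊓ stabCore p U) at f1
  change Subgroup.normalizer ((((R : Subgroup L) ⊓ stabCore p U : Subgroup L)) : Set L) ⊔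
    stabCore p U = ⊤ at f2
  rw [← hP₁] at f1 f2 hE
  refine ⟨U ⊔ ((R : Subgroup L) ⊓ P₁), le_sup_left, fun h => sup_le h inf_le_left,
    Subgroup.mem_sup_right (Subgroup.mem_inf.mpr ⟨hxR, hE ⟨hx1, hx2⟩⟩), ?_⟩
  intro y
  have hy : y ∈ Subgroup.normalizer ((((R : Subgroup L) ⊓ P₁ : Subgroup L)) : Set L) ⊔ P₁ := by
    rw [f2]; trivial
  obtain ⟨n₀, hn₀, e, he, rfl⟩ := Subgroup.mem_sup_of_normal_right.mp hy
  obtain ⟨c, hc, r, hr, rfl⟩ := Subgroup.mem_sup_of_normal_left.mp (f1 he)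
  refine ⟨n₀ * c * n₀⁻¹,
    (inferInstance : (Subgroup.centralizer (U : Set L)).Normal).conj_mem c hc n₀, n₀ * r, ?_,
    by group⟩
  have hn : n₀ * r ∈ Subgroup.normalizer ((((R : Subgroup L) ⊓ P₁ : Subgroup L)) : Set L) :=
    mul_mem hn₀ (Subgroup.le_normalizer hr)
  rw [Cfsg.Agent.Lib.Helper13.mem_normalizer_iff_cj] at hn ⊢
  rw [Cfsg.Agent.Lib.Helper13.cj_sup, hn]
  congr 1
  exact Cfsg.Agent.Lib.Helper13.mem_normalizer_iff_cj.mp
    (by rw [Subgroup.normalizer_eq_top_iff.mpr hU]; trivial)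

theorem NPC.centralizes [Fact p.Prime] {X : Type*} [Group X] [Finite X] {M Q : Subgroup X}
    (h : NPC p M) (hQM : Q ≤ M) (hQ : IsPGroup p Q) {g : X} (hgM : g ∈ M)
    (hg : g ∈ Subgroup.normalizer (Q : Set X)) (hgo : (orderOf g).Coprime p) :
    g ∈ Subgroup.centralizer (Q : Set X) := by
  obtain ⟨N, hN, hNc, k, hk⟩ := h
  have hq : IsPGroup p (M ⧸ N) := IsPGroup.of_card (n := k) (by rw [← Subgroup.index_eq_card, hk])
  have h1 := Cfsg.Agent.Lib.Helper13.centralizes_of_npc N hNc hq (Q.subgroupOf M)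
    hQ.comap_subtype ⟨g, hgM⟩ (by
      rw [Subgroup.mem_normalizer_iff]
      intro z
      exact (Subgroup.mem_normalizer_iff.mp hg (z : X))) (by
      rwa [← Subgroup.orderOf_coe] )
  rw [Subgroup.mem_centralizer_iff] at h1 ⊢
  intro q hq'
  exact congrArg Subtype.val (h1 ⟨q, hQM hq'⟩ hq')

end Cfsg.Agent.Lib.Helper5
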