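import Cfsg.Agent.Lib.Helper5.AG

set_option autoImplicit false

namespace Cfsg.Agent.Lib.Helper5

open Cfsg
open Cfsg.Agent.Lib.Helper13 (cj FN)

variable {p : ℕ}

/-- conjugation by `g` on `A` is induced by an element of `K` -/
def IndBy {G : Type*} [Group G] (K : Subgroup G) (A : Subgroup G) (g : G) : Prop :=
  ∃ s ∈ K, ∀ a ∈ A, g⁻¹ * a * g = s⁻¹ * a * s

namespace IndBy

variable {G : Type*} [Group G] {K A B : Subgroup G} {g h : G}

theorem mono (hB : B ≤ A) (h1 : IndBy K A g) : IndBy K B g := by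
  obtain ⟨s, hs, e⟩ := h1
  exact ⟨s, hs, fun a ha => e a (hB ha)⟩

theorem trans (h1 : IndBy K A g) (h2 : IndBy K (cj A g) h) : IndBy K A (g * h) := by
  obtain ⟨s, hs, e⟩ := h1
  obtain ⟨t, ht, e'⟩ := h2
  refine ⟨s * t, mul_mem hs ht, fun a ha => ?_⟩
  have h3 := e' _ (Cfsg.Agent.Lib.Helper13.conj_mem_cj (g := g) ha)
  calc (g * h)⁻¹ * a * (g * h) = h⁻¹ * (g⁻¹ * a * g) * h := by group
    _ = t⁻¹ * (g⁻¹ * a * g) * t := h3
    _ = t⁻¹ * (s⁻¹ * a * s) * t := by rw [e a ha]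
    _ = (s * t)⁻¹ * a * (s * t) := by group

theorem inv (h1 : IndBy K A g) : IndBy K (cj A g) g⁻¹ := by
  obtain ⟨s, hs, e⟩ := h1
  refine ⟨s⁻¹, inv_mem hs, fun b hb => ?_⟩
  rw [Cfsg.Agent.Lib.Helper13.mem_cj] at hb
  have h3 := e _ hb
  have h4 : b = s⁻¹ * (g * b * g⁻¹) * s := by rw [← h3]; group
  calc g⁻¹⁻¹ * b * g⁻¹ = s * (s⁻¹ * (g * b * g⁻¹) * s) * s⁻¹ := by group
    _ = s⁻¹⁻¹ * b * s⁻¹ := by rw [← h4]; group

theorem congr (e : ∀ a ∈ A, g⁻¹ * a * g = h⁻¹ * a * h) (h1 : IndBy K A g) : IndBy K A h := by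
  obtain ⟨s, hs, e'⟩ := h1
  exact ⟨s, hs, fun a ha => by rw [← e a ha, e' a ha]⟩

end IndBy

theorem frobCond_of_indBy {G : Type*} [Group G] [Finite G] [Fact p.Prime] (S : Sylow p G)
    (h : ∀ A : Subgroup G, A ≤ S → ∀ g, cj A g ≤ S → IndBy (S : Subgroup G) A g) :
    Cfsg.Agent.Lib.Helper13.FrobCond p (S : Subgroup G) := by
  intro Q hQ g hg hgo
  have hcj := Cfsg.Agent.Lib.Helper13.mem_normalizer_iff_cj.mp hg
  obtain ⟨s, hs, e⟩ := h Q hQ g (by rw [hcj]; exact hQ)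
  have hmem : ∀ a ∈ Q, g⁻¹ * a * g ∈ Q := by
    intro a ha
    have := Cfsg.Agent.Lib.Helper13.conj_mem_cj (g := g) ha
    rwa [hcj] at this
  have key : ∀ n : ℕ, ∀ a ∈ Q, (g ^ n)⁻¹ * a * g ^ n = (s ^ n)⁻¹ * a * s ^ n := by
    intro n
    induction n with
    | zero => intro a _; simp
    | succ n ih =>
      intro a ha
      calc (g ^ (n + 1))⁻¹ * a * g ^ (n + 1) = (g ^ n)⁻¹ * (g⁻¹ * a * g) * g ^ n := by
            rw [pow_succ']; group
        _ = (s ^ n)⁻¹ * (g⁻¹ * a * g) * s ^ n := ih _ (hmem a ha)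
        _ = (s ^ n)⁻¹ * (s⁻¹ * a * s) * s ^ n := by rw [e a ha]
        _ = (s ^ (n + 1))⁻¹ * a * s ^ (n + 1) := by rw [pow_succ']; group
  obtain ⟨k, hk⟩ := S.2 ⟨s, hs⟩
  have hk' : s ^ p ^ k = 1 := congrArg Subtype.val hk
  have hso : (orderOf g).Coprime (orderOf s) :=
    Nat.Coprime.coprime_dvd_right (orderOf_dvd_of_pow_eq_one hk') (Nat.Coprime.pow_right k hgo)
  obtain ⟨j, hj⟩ := exists_pow_eq_self_of_coprime hso
  rw [Subgroup.mem_centralizer_iff]
  intro a ha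
  have h1 := key (orderOf g) a ha
  rw [pow_orderOf_eq_one] at h1
  have h2 : Commute (s ^ orderOf g) a := by
    show s ^ orderOf g * a = a * s ^ orderOf g
    calc s ^ orderOf g * a = s ^ orderOf g * ((1 : G)⁻¹ * a * 1) := by group
      _ = s ^ orderOf g * ((s ^ orderOf g)⁻¹ * a * s ^ orderOf g) := by rw [h1]
      _ = a * s ^ orderOf g := by group
  have h3 : Commute s a := by
    have := h2.pow_left j
    rwa [hj] at this
  have h4 := e a ha
  have h5 : s⁻¹ * a * s = a := by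
    rw [mul_assoc, ← h3.eq]; group
  rw [h5] at h4
  calc a * g = g * (g⁻¹ * a * g) := by group
    _ = g * a := by rw [h4]

theorem npc_of_indBy {G : Type*} [Group G] [Finite G] [Fact p.Prime] (S : Sylow p G)
    (h : ∀ A : Subgroup G, A ≤ S → ∀ g, cj A g ≤ S → IndBy (S : Subgroup G) A g) : NPC p G := by
  obtain ⟨N, hN, hc⟩ := Cfsg.Agent.Lib.Helper13.frobenius_npc _ G S rfl (frobCond_of_indBy S h)
  exact npc_iff.mp ⟨S, N, hN, hc⟩

theorem npc_of_centric_sc {G : Type*} [Group G] [Finite G] [Fact p.Prime] (S : Sylow p G)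
    (D : Subgroup G) (hD : IsStronglyClosed D (S : Subgroup G))
    (h : ∀ U : Subgroup G, U ≤ D → D ⊓ Subgroup.centralizer (U : Set G) ≤ U →
      NPC p (Subgroup.normalizer (U : Set G))) : NPC p G := by
  apply npc_of_indBy S
  refine ag_core S (IndBy (S : Subgroup G)) (fun _ _ _ hB h1 => h1.mono hB)
    (fun _ _ _ h1 h2 => h1.trans h2) (fun _ _ h1 => h1.inv) (fun _ _ _ e h1 => h1.congr e) ?_
  intro U hUS hFN _ IH y hy
  have hSD : (S : Subgroup G) ≤ Subgroup.normalizer (D : Set G) := sc_le_normalizer hD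
  obtain ⟨L, hL⟩ : ∃ L, L = Subgroup.normalizer (U : Set G) := ⟨_, rfl⟩
  have hUL : U ≤ L := hL ▸ Subgroup.le_normalizer
  have hLUD : L ≤ Subgroup.normalizer ((U ⊓ D : Subgroup G) : Set G) := by
    intro n hn
    rw [hL] at hn
    rw [Cfsg.Agent.Lib.Helper13.mem_normalizer_iff_cj]
    apply Cfsg.Agent.Lib.Helper13.cj_eq_of_le_of_finite
    intro z hz
    rw [Cfsg.Agent.Lib.Helper13.mem_cj] at hz
    obtain ⟨hz1, hz2⟩ := Subgroup.mem_inf.mp hz
    have hzU : z ∈ U := by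
      have := Cfsg.Agent.Lib.Helper13.conj_mem_cj (g := n) hz1
      rw [Cfsg.Agent.Lib.Helper13.mem_normalizer_iff_cj.mp hn] at this
      have e : n⁻¹ * (n * z * n⁻¹) * n = z := by group
      rwa [e] at this
    refine Subgroup.mem_inf.mpr ⟨hzU, ?_⟩
    have := hD.2 _ hz2 n⁻¹ (by
      have e : n⁻¹ * (n * z * n⁻¹) * n⁻¹⁻¹ = z := by group
      rw [e]; exact hUS hzU)
    have e : n⁻¹ * (n * z * n⁻¹) * n⁻¹⁻¹ = z := by group
    rwa [e] at this
  by_cases hcase : D ⊓ Subgroup.centralizer ((U ⊓ D : Subgroup G) : Set G) ≤ U ⊓ D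
  · have hM := h (U ⊓ D) inf_le_right hcase
    have hU : ∀ g ∈ Subgroup.normalizer (U : Set G), Nat.Coprime (orderOf g) p →
        g ∈ Subgroup.centralizer (U : Set G) := fun g hg hgo =>
      hM.centralizes (hUL.trans hLUD) (S.2.to_le hUS) (hLUD (hL ▸ hg)) hg hgo
    obtain ⟨u, hu, c, hc, rfl⟩ := Cfsg.Agent.Lib.Helper13.frob_normalizer_decomp hU hFN y hy
    refine ⟨u, (Subgroup.mem_inf.mp hu).1, fun a ha => ?_⟩
    have h1 : u⁻¹ * a * u ∈ U := by
      have := Cfsg.Agent.Lib.Helper13.conj_mem_cj (g := u) ha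
      rwa [Cfsg.Agent.Lib.Helper13.mem_normalizer_iff_cj.mp (Subgroup.mem_inf.mp hu).2] at this
    have h2 := (Subgroup.mem_centralizer_iff.mp hc) _ h1
    calc (u * c)⁻¹ * a * (u * c) = c⁻¹ * (u⁻¹ * a * u * c) := by group
      _ = c⁻¹ * (c * (u⁻¹ * a * u)) := by rw [h2]
      _ = u⁻¹ * a * u := by group
  · -- the non-radical case
    obtain ⟨Y, hY⟩ : ∃ Y, Y = D ⊓ Subgroup.centralizer ((U ⊓ D : Subgroup G) : Set G) := ⟨_, rfl⟩
    have hUY : U ≤ Subgroup.normalizer (Y : Set G) := by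
      rw [hY]
      refine le_trans (le_inf (hUS.trans hSD) ?_) (normalizer_inf_le _ _)
      exact (hUL.trans hLUD).trans (Cfsg.Agent.Lib.Helper13.normalizer_le_normalizer_centralizer' _)
    have hYS : Y ≤ (S : Subgroup G) := by rw [hY]; exact inf_le_left.trans hD.1
    have hYU : ¬ Y ≤ U := by
      intro hle
      apply hcase
      rw [← hY]
      exact le_inf hle (by rw [hY]; exact inf_le_left)
    have hlt : U < U ⊔ Y := lt_of_le_of_ne le_sup_left (fun e => hYU (le_sup_right.trans e.ge))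
    have hlt2 := Cfsg.Agent.Lib.Helper13.lt_inf_normalizer (S.2.to_le (sup_le hUS hYS)) hlt
    obtain ⟨z, hz, hzU⟩ := SetLike.exists_of_lt hlt2
    obtain ⟨hz1, hz2⟩ := Subgroup.mem_inf.mp hz
    have hz3 : z ∈ ((U ⊔ Y : Subgroup G) : Set G) := hz1
    rw [Subgroup.coe_mul_of_left_le_normalizer_right U Y hUY] at hz3
    obtain ⟨u₀, hu₀, x, hx, rfl⟩ := Set.mem_mul.mp hz3
    have hxU : x ∉ U := fun hx' => hzU (mul_mem hu₀ hx')
    have hxL : x ∈ L := by
      rw [hL]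
      have := mul_mem (inv_mem (Subgroup.le_normalizer hu₀)) hz2
      rwa [inv_mul_cancel_left] at this
    have hxY : x ∈ D ⊓ Subgroup.centralizer ((U ⊓ D : Subgroup G) : Set G) := hY ▸ hx
    obtain ⟨hxD, hxc⟩ := Subgroup.mem_inf.mp hxY
    haveI hU'n : (U.subgroupOf L).Normal :=
      (Subgroup.normal_subgroupOf_iff_le_normalizer hUL).mpr hL.le
    haveI hV'n : ((U ⊓ D).subgroupOf L).Normal :=
      (Subgroup.normal_subgroupOf_iff_le_normalizer (inf_le_left.trans hUL)).mpr hLUD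
    have hFN' : ¬ p ∣ (((S : Subgroup G) ⊓ L).subgroupOf L).index := by rw [hL]; exact hFN
    obtain ⟨U₁', h1, h2, h3, h4⟩ := radical_step
      (((S.2.to_le inf_le_left).comap_subtype :
        IsPGroup p (((S : Subgroup G) ⊓ L).subgroupOf L)).toSylow hFN')
      (U.subgroupOf L) ((U ⊓ D).subgroupOf L) (S.2.to_le (inf_le_left.trans hUS)).comap_subtype
      ⟨x, hxL⟩ (Subgroup.mem_inf.mpr ⟨hD.1 hxD, hxL⟩) (by
        rw [Subgroup.mem_centralizer_iff]
        intro d hd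
        exact Subtype.ext (Subgroup.mem_centralizer_iff.mp hxc d hd)) (by
        intro u hu
        have hu' : (u : G) ∈ U := hu
        show x * (u : G) * x⁻¹ * (u : G)⁻¹ ∈ U ⊓ D
        refine Subgroup.mem_inf.mpr ⟨?_, ?_⟩
        · exact mul_mem ((Subgroup.mem_normalizer_iff.mp (hL ▸ hxL) _).mp hu') (inv_mem hu')
        · have e : x * (u : G) * x⁻¹ * (u : G)⁻¹ = x * ((u : G) * x⁻¹ * (u : G)⁻¹) := by group
          rw [e]
          exact mul_mem hxD ((Subgroup.mem_normalizer_iff.mp (hSD (hUS hu')) _).mp (inv_mem hxD)))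
    obtain ⟨c, hc, n, hn, hycn⟩ := h4 ⟨y, hL ▸ hy⟩
    have hUU₁ : U ≤ U₁'.map L.subtype := by
      rw [← Subgroup.map_subgroupOf_eq_of_le hUL]
      exact Subgroup.map_mono h1
    have hU₁S : U₁'.map L.subtype ≤ (S : Subgroup G) := by
      have h5 := h2 (by
        intro u hu
        exact Subgroup.mem_inf.mpr ⟨hUS hu, u.2⟩)
      have h6 : U₁'.map L.subtype ≤ (((S : Subgroup G) ⊓ L).subgroupOf L).map L.subtype :=
        Subgroup.map_mono (f := L.subtype) h5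
      rw [Subgroup.map_subgroupOf_eq_of_le inf_le_right] at h6
      exact h6.trans inf_le_left
    have hlt3 : U < U₁'.map L.subtype :=
      lt_of_le_of_ne hUU₁ (fun e => hxU (by rw [e]; exact ⟨_, h3, rfl⟩))
    have hnN : (n : G) ∈ Subgroup.normalizer ((U₁'.map L.subtype : Subgroup G) : Set G) :=
      Subgroup.le_normalizer_map L.subtype ⟨n, hn, rfl⟩
    have g1 := IH _ hU₁S (card_lt_of_lt hlt3) (n : G)
      (by rw [Cfsg.Agent.Lib.Helper13.mem_normalizer_iff_cj.mp hnN]; exact hU₁S)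
    refine (g1.mono hUU₁).congr (fun a ha => ?_)
    have hy' : y = (c : G) * (n : G) := congrArg Subtype.val hycn
    have hca : a * (c : G) = (c : G) * a :=
      congrArg Subtype.val (Subgroup.mem_centralizer_iff.mp hc ⟨a, hUL ha⟩ ha)
    rw [hy']
    calc (n : G)⁻¹ * a * (n : G) = (n : G)⁻¹ * ((c : G)⁻¹ * ((c : G) * a)) * (n : G) := by group
      _ = (n : G)⁻¹ * ((c : G)⁻¹ * (a * (c : G))) * (n : G) := by rw [hca]
      _ = ((c : G) * (n : G))⁻¹ * a * ((c : G) * (n : G)) := by group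

end Cfsg.Agent.Lib.Helper5
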