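import Mathlib
import Cfsg.Agent.Lib.Helper5.Glaub3

set_option autoImplicit false
set_option linter.style.haveILetI false

namespace Cfsg.Agent.Lib.Helper5

open MulAction

/-- double counting of fixed points -/
theorem dk_double {H X : Type*} [Group H] [MulAction H X] [DecidableEq X] [DecidableEq H]
    (s : Finset H) (t : Finset X) (hst : ∀ h ∈ s, fixedBy X h ⊆ (t : Set X)) :
    ∑ h ∈ s, (fixedBy X h).ncard = ∑ x ∈ t, (s.filter (fun h => h • x = x)).card := by
  have dc := Finset.sum_card_bipartiteAbove_eq_sum_card_bipartiteBelow (s := s) (t := t)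
    (fun (h : H) (x : X) => h • x = x)
  have e1 : ∀ h ∈ s, (fixedBy X h).ncard = (t.bipartiteAbove (fun (h : H) (x : X) => h • x = x) h).card := by
    intro h hh
    rw [← Set.ncard_coe_finset]
    congr 1
    ext x
    simp only [Finset.coe_bipartiteAbove, Set.mem_setOf_eq, mem_fixedBy]
    exact ⟨fun hx => ⟨hst h hh hx, hx⟩, fun hx => hx.2⟩
  rw [Finset.sum_congr rfl e1, dc]
  rfl

theorem dk_card_stab_orbit {H X : Type*} [Group H] [MulAction H X] (x₀ x : X)
    (hx : x ∈ orbit H x₀) : Nat.card (stabilizer H x) = Nat.card (stabilizer H x₀) := by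
  obtain ⟨g, rfl⟩ := hx
  rw [stabilizer_smul_eq_stabilizer_map_conj]
  exact Subgroup.card_map_of_injective (MulAut.conj g).injective

theorem dk_orbit_mul {H X : Type*} [Group H] [MulAction H X] (x : X) :
    (orbit H x).ncard * Nat.card (stabilizer H x) = Nat.card H := by
  rw [← index_stabilizer, mul_comm]
  exact Subgroup.card_mul_index _

theorem dk_filter_stab {H X : Type*} [Group H] [Fintype H] [MulAction H X] [DecidableEq X]
    [DecidableEq H] (Z : Subgroup H) [DecidablePred (· ∈ Z)] (hZ : ∀ h ∈ Z, ∀ x : X, h • x = x) (x : X) :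
    ((Finset.univ.filter (fun h : H => h ∉ Z)).filter (fun h => h • x = x)).card + Nat.card Z =
      Nat.card (stabilizer H x) := by
  have e1 : Nat.card (stabilizer H x) = (Finset.univ.filter (fun h : H => h • x = x)).card := by
    rw [Nat.card_eq_fintype_card, Fintype.card_subtype]
    rfl
  have e2 : Nat.card Z = ((Finset.univ.filter (fun h : H => h • x = x)).filter (fun h => h ∈ Z)).card := by
    rw [Nat.card_eq_fintype_card, Fintype.card_subtype]
    congr 1
    ext h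
    simp only [Finset.mem_filter, Finset.mem_univ, true_and]
    exact ⟨fun hh => ⟨hZ h hh x, hh⟩, fun hh => hh.2⟩
  have e3 : ((Finset.univ.filter (fun h : H => h ∉ Z)).filter (fun h => h • x = x)) =
      ((Finset.univ.filter (fun h : H => h • x = x)).filter (fun h => ¬ h ∈ Z)) := by
    ext h
    simp only [Finset.mem_filter, Finset.mem_univ, true_and]
    tauto
  rw [e1, e2, e3, add_comm]
  exact Finset.card_filter_add_card_filter_not _

theorem dk_conj_card {H X : Type*} [Group H] [MulAction H X] [DecidableEq X] [DecidableEq H]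
    (S : Finset H) (hS : ∀ g h : H, h ∈ S → g * h * g⁻¹ ∈ S) (g : H) (x : X) :
    (S.filter (fun h => h • (g • x) = g • x)).card = (S.filter (fun h => h • x = x)).card := by
  apply Finset.card_bij' (i := fun h _ => g⁻¹ * h * g) (j := fun h _ => g * h * g⁻¹)
  · intro h hh
    rw [Finset.mem_filter] at hh ⊢
    refine ⟨by simpa using hS g⁻¹ h hh.1, ?_⟩
    rw [mul_smul, mul_smul, hh.2, inv_smul_smul]
  · intro h hh
    rw [Finset.mem_filter] at hh ⊢
    refine ⟨hS g h hh.1, ?_⟩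
    rw [mul_smul, mul_smul, inv_smul_smul, hh.2]
  · intro h _
    group
  · intro h _
    group

theorem dk_sum_orbit {H X : Type*} [Group H] [Finite H] [MulAction H X] [DecidableEq X]
    (F : X → ℕ) (hF : ∀ (g : H) (x : X), F (g • x) = F x) (x₀ : X) (O : Finset X)
    (hO : (O : Set X) = orbit H x₀) : ∑ x ∈ O, F x = (orbit H x₀).ncard * F x₀ := by
  have h1 : ∀ x ∈ O, F x = F x₀ := by
    intro x hx
    have : x ∈ orbit H x₀ := hO ▸ (Finset.mem_coe.mpr hx)
    obtain ⟨g, rfl⟩ := this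
    exact hF g x₀
  rw [Finset.sum_congr rfl h1, Finset.sum_const, smul_eq_mul, ← hO, Set.ncard_coe_finset]

/-- Counting poles. -/
theorem dk_poles {H X : Type*} [Group H] [Finite H] [MulAction H X]
    (Z : Subgroup H) [hZn : Z.Normal] (hZ : ∀ h ∈ Z, ∀ x : X, h • x = x)
    (hfix : ∀ h : H, h ∉ Z → (fixedBy X h).ncard = 1 ∨ (fixedBy X h).ncard = 2)
    (y : X) (q : ℕ) (hq : 3 ≤ q)
    (hparO : ∀ h : H, h ∉ Z → (fixedBy X h).ncard = 1 → ∀ x, h • x = x → x ∈ orbit H y)
    (hparC : {h : H | h ∉ Z ∧ (fixedBy X h).ncard = 1 ∧ h • y = y}.ncard + Nat.card Z =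
      Nat.card Z * q)
    (hB : Nat.card Z * q ≤ Nat.card (stabilizer H y))
    (hn : 2 ≤ (orbit H y).ncard) :
    ∃ x₀ : X, x₀ ∉ orbit H y ∧
      (orbit H x₀).ncard + 2 * (orbit H y).ncard = 2 + (orbit H y).ncard * q ∧
      ∀ h : H, h ∉ Z → ∀ x, h • x = x → x ∈ orbit H y ∨ x ∈ orbit H x₀ := by
  classical
  haveI : Fintype H := Fintype.ofFinite H
  obtain ⟨z, hz⟩ : ∃ z, z = Nat.card Z := ⟨_, rfl⟩
  obtain ⟨N, hN⟩ : ∃ N, N = Nat.card H := ⟨_, rfl⟩
  obtain ⟨n, hnn⟩ : ∃ n, n = (orbit H y).ncard := ⟨_, rfl⟩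
  have hz0 : 0 < z := hz ▸ Nat.card_pos
  rw [← hz] at hparC hB
  rw [← hnn] at hn
  obtain ⟨s, hs⟩ : ∃ s : Finset H, s = Finset.univ.filter (fun h : H => h ∉ Z) := ⟨_, rfl⟩
  obtain ⟨sP, hsP⟩ : ∃ sP : Finset H, sP = s.filter (fun h => (fixedBy X h).ncard = 1) := ⟨_, rfl⟩
  have hms : ∀ h, h ∈ s ↔ h ∉ Z := by intro h; rw [hs]; simp
  have hmsP : ∀ h, h ∈ sP ↔ h ∉ Z ∧ (fixedBy X h).ncard = 1 := by
    intro h; rw [hsP, Finset.mem_filter, hms]
  have hsconj : ∀ g h : H, h ∈ s → g * h * g⁻¹ ∈ s := by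
    intro g h hh
    rw [hms] at hh ⊢
    intro hc
    apply hh
    have := hZn.conj_mem _ hc g⁻¹
    simpa [mul_assoc] using this
  have hsPconj : ∀ g h : H, h ∈ sP → g * h * g⁻¹ ∈ sP := by
    intro g h hh
    rw [hmsP] at hh ⊢
    refine ⟨(hms _).mp (hsconj g h ((hms h).mpr hh.1)), ?_⟩
    rw [← smul_fixedBy, Set.ncard_smul_set]
    exact hh.2
  -- poles
  have hpf : {x : X | ∃ h : H, h ∉ Z ∧ h • x = x}.Finite := by
    have : {x : X | ∃ h : H, h ∉ Z ∧ h • x = x} = ⋃ h ∈ {h : H | h ∉ Z}, fixedBy X h := by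
      ext x
      simp [mem_fixedBy]
    rw [this]
    apply Set.Finite.biUnion (Set.toFinite _)
    intro h hh
    apply Set.finite_of_ncard_ne_zero
    rcases hfix h hh with h1 | h1 <;> omega
  obtain ⟨t, ht⟩ : ∃ t : Finset X, t = hpf.toFinset := ⟨_, rfl⟩
  have hmt : ∀ x, x ∈ t ↔ ∃ h : H, h ∉ Z ∧ h • x = x := by
    intro x; rw [ht]; simp
  have htinv : ∀ (g : H) (x : X), x ∈ t → g • x ∈ t := by
    intro g x hx
    rw [hmt] at hx ⊢
    obtain ⟨h, h1, h2⟩ := hx
    refine ⟨g * h * g⁻¹, (hms _).mp (hsconj g h ((hms h).mpr h1)), ?_⟩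
    rw [mul_smul, mul_smul, inv_smul_smul, h2]
  have hst : ∀ h ∈ s, fixedBy X h ⊆ (t : Set X) := by
    intro h hh x hx
    exact Finset.mem_coe.mpr ((hmt x).mpr ⟨h, (hms h).mp hh, hx⟩)
  have hsPs : sP ⊆ s := hsP ▸ Finset.filter_subset _ _
  have E1 := dk_double s t hst
  have E2 := dk_double sP t (fun h hh => hst h (hsPs hh))
  have E2' : ∑ h ∈ sP, (fixedBy X h).ncard = sP.card := by
    rw [Finset.card_eq_sum_ones]
    exact Finset.sum_congr rfl (fun h hh => ((hmsP h).mp hh).2)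
  have E3 : ∑ h ∈ s, (fixedBy X h).ncard + sP.card = 2 * s.card := by
    rw [hsP, Finset.card_filter, ← Finset.sum_add_distrib, mul_comm, ← smul_eq_mul,
      ← Finset.sum_const]
    apply Finset.sum_congr rfl
    intro h hh
    rcases hfix h ((hms h).mp hh) with h1 | h1 <;> simp [h1]
  have E4 : s.card + z = N := by
    rw [hs, hz, hN, Nat.card_eq_fintype_card, Nat.card_eq_fintype_card, Fintype.card_subtype,
      add_comm]
    exact Finset.card_filter_add_card_filter_not _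
  obtain ⟨f, hf⟩ : ∃ f : X → ℕ, f = fun x => (s.filter (fun h => h • x = x)).card := ⟨_, rfl⟩
  obtain ⟨u, hu⟩ : ∃ u : X → ℕ, u = fun x => (sP.filter (fun h => h • x = x)).card := ⟨_, rfl⟩
  have hfinv : ∀ (g : H) (x : X), f (g • x) = f x := by
    intro g x; rw [hf]; exact dk_conj_card s hsconj g x
  have huinv : ∀ (g : H) (x : X), u (g • x) = u x := by
    intro g x; rw [hu]; exact dk_conj_card sP hsPconj g x
  have hfstab : ∀ x, f x + z = Nat.card (stabilizer H x) := by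
    intro x; rw [hf, hs, hz]; exact dk_filter_stab Z hZ x
  have huy : u y + z = z * q := by
    rw [← hparC, hu]
    congr 1
    show (sP.filter (fun h => h • y = y)).card = _
    rw [← Set.ncard_coe_finset]
    congr 1
    ext h
    simp only [Finset.coe_filter, Set.mem_ofPred_eq, hmsP]
    tauto
  have hu0 : ∀ x, x ∉ orbit H y → u x = 0 := by
    intro x hx
    rw [hu]
    show (sP.filter (fun h => h • x = x)).card = 0
    rw [Finset.card_eq_zero, Finset.filter_eq_empty_iff]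
    intro h hh hfx
    exact hx (hparO h ((hmsP h).mp hh).1 ((hmsP h).mp hh).2 x hfx)
  -- the orbit of `y`
  have orbF : ∀ x : X, ∃ O : Finset X, (O : Set X) = orbit H x := by
    intro x
    exact ⟨(Set.finite_range (fun g : H => g • x)).toFinset, by simp [orbit]⟩
  obtain ⟨Ω, hΩ⟩ := orbF y
  have hmΩ : ∀ x, x ∈ Ω ↔ x ∈ orbit H y := by
    intro x; rw [← hΩ]; simp
  have hyt : y ∈ t := by
    have : 0 < u y := by nlinarith
    rw [hu] at this
    obtain ⟨h, hh⟩ := Finset.card_pos.mp this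
    rw [Finset.mem_filter] at hh
    exact (hmt y).mpr ⟨h, ((hmsP h).mp hh.1).1, hh.2⟩
  have hΩt : Ω ⊆ t := by
    intro x hx
    obtain ⟨g, rfl⟩ := (hmΩ x).mp hx
    exact htinv g y hyt
  have S1 : ∑ x ∈ Ω, f x = n * f y := hnn ▸ dk_sum_orbit f hfinv y Ω hΩ
  have S2 : ∑ x ∈ Ω, u x = n * u y := hnn ▸ dk_sum_orbit u huinv y Ω hΩ
  have S3 : ∑ x ∈ t, u x = n * u y := by
    rw [← S2, ← Finset.sum_sdiff hΩt]
    have : ∑ x ∈ t \ Ω, u x = 0 := by
      apply Finset.sum_eq_zero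
      intro x hx
      exact hu0 x (fun h => (Finset.mem_sdiff.mp hx).2 ((hmΩ x).mpr h))
    rw [this, zero_add]
  have S4 : ∑ x ∈ t \ Ω, f x + n * f y = ∑ x ∈ t, f x := by
    rw [← S1]; exact Finset.sum_sdiff hΩt
  have hNn : n * Nat.card (stabilizer H y) = N := by rw [hnn, hN]; exact dk_orbit_mul y
  have E1' : ∑ h ∈ s, (fixedBy X h).ncard = ∑ x ∈ t, f x := by rw [E1, hf]
  have E2'' : sP.card = n * u y := by rw [← E2', E2, ← S3, hu]
  -- the main equation
  have hfy := hfstab y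
  have main : ∑ x ∈ t \ Ω, f x + 2 * z + n * (z * q) = N + 2 * (n * z) := by
    have a1 : n * f y + n * z = N := by rw [← mul_add, hfy, hNn]
    have a2 : n * u y + n * z = n * (z * q) := by rw [← mul_add, huy]
    omega
  -- orbit facts
  have orbfact : ∀ x₀ ∈ t \ Ω, ∀ O : Finset X, (O : Set X) = orbit H x₀ →
      O ⊆ t \ Ω ∧ ∑ x ∈ O, f x + z * (orbit H x₀).ncard = N ∧ 2 * (z * (orbit H x₀).ncard) ≤ N := by
    intro x₀ hx₀ O hO
    obtain ⟨h1, h2⟩ := Finset.mem_sdiff.mp hx₀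
    have b1 := dk_sum_orbit f hfinv x₀ O hO
    have b2 := hfstab x₀
    have b3 : (orbit H x₀).ncard * Nat.card (stabilizer H x₀) = N := hN ▸ dk_orbit_mul x₀
    refine ⟨?_, ?_, ?_⟩
    · intro x hx
      have : x ∈ orbit H x₀ := hO ▸ (Finset.mem_coe.mpr hx)
      obtain ⟨g, rfl⟩ := this
      refine Finset.mem_sdiff.mpr ⟨htinv g x₀ h1, fun hc => h2 ?_⟩
      rw [hmΩ] at hc ⊢
      obtain ⟨k, hk⟩ := hc
      have hk' : k • y = g • x₀ := hk
      refine ⟨g⁻¹ * k, ?_⟩
      show (g⁻¹ * k) • y = x₀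
      rw [mul_smul, hk', inv_smul_smul]
    · rw [b1, ← b3, ← b2]; ring
    · obtain ⟨h, hh1, hh2⟩ := (hmt x₀).mp h1
      have hle : Z ≤ stabilizer H x₀ := fun k hk => hZ k hk x₀
      have hlt : Z < stabilizer H x₀ := lt_of_le_of_ne hle (fun e => hh1 (e ▸ hh2))
      have c1 := card_lt_of_lt hlt
      obtain ⟨m, hm⟩ := Subgroup.card_dvd_of_le hle
      rw [← hz] at c1 hm
      have hm2 : 2 ≤ m := by
        by_contra hcon
        have : m ≤ 1 := by omega
        nlinarith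
      rw [← b3, hm]
      have e : (orbit H x₀).ncard * (z * m) = (z * (orbit H x₀).ncard) * m := by ring
      rw [e, mul_comm 2]
      exact Nat.mul_le_mul_left _ hm2
  have hq3 : 3 * (n * z) ≤ n * (z * q) := by
    have e : n * (z * q) = (n * z) * q := by ring
    rw [e, mul_comm 3]
    exact Nat.mul_le_mul_left _ hq
  have hnz : 2 * z ≤ n * z := Nat.mul_le_mul_right _ hn
  have hne : (t \ Ω).Nonempty := by
    rw [Finset.nonempty_iff_ne_empty]
    intro he
    rw [he, Finset.sum_empty] at main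
    have : n * (z * q) ≤ N := by rw [← hNn]; exact Nat.mul_le_mul_left _ hB
    omega
  obtain ⟨x₀, hx₀⟩ := hne
  obtain ⟨O, hO⟩ := orbF x₀
  obtain ⟨o1, o2, o3⟩ := orbfact x₀ hx₀ O hO
  have hall : t \ Ω = O := by
    by_contra hcon
    have : ∃ x₁ ∈ t \ Ω, x₁ ∉ O := by
      by_contra hno
      push Not at hno
      exact hcon (Finset.Subset.antisymm hno o1)
    obtain ⟨x₁, hx₁, hx₁O⟩ := this
    obtain ⟨O₁, hO₁⟩ := orbF x₁
    obtain ⟨p1, p2, p3⟩ := orbfact x₁ hx₁ O₁ hO₁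
    have hdisj : Disjoint O O₁ := by
      rw [Finset.disjoint_left]
      intro x hx hx'
      have a1 : x ∈ orbit H x₀ := hO ▸ (Finset.mem_coe.mpr hx)
      have a2 : x ∈ orbit H x₁ := hO₁ ▸ (Finset.mem_coe.mpr hx')
      apply hx₁O
      have a3 : x₁ ∈ orbit H x₀ := by
        rw [← orbit_eq_iff.mpr a1, orbit_eq_iff.mpr a2]
        exact mem_orbit_self x₁
      exact Finset.mem_coe.mp (hO ▸ a3)
    have hsub : O ∪ O₁ ⊆ t \ Ω := Finset.union_subset o1 p1
    have hle := Finset.sum_le_sum_of_subset (f := f) hsub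
    rw [Finset.sum_union hdisj] at hle
    omega
  refine ⟨x₀, fun h => (Finset.mem_sdiff.mp hx₀).2 ((hmΩ x₀).mpr h), ?_, ?_⟩
  · rw [← hnn]
    rw [hall] at main
    have : z * ((orbit H x₀).ncard + 2 * n) = z * (2 + n * q) := by
      have e1 : z * ((orbit H x₀).ncard + 2 * n) = z * (orbit H x₀).ncard + 2 * (n * z) := by ring
      have e2 : z * (2 + n * q) = 2 * z + n * (z * q) := by ring
      rw [e1, e2]
      omega
    exact Nat.eq_of_mul_eq_mul_left hz0 this
  · intro h hh x hx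
    by_cases hxΩ : x ∈ Ω
    · exact Or.inl ((hmΩ x).mp hxΩ)
    · right
      have : x ∈ t \ Ω := Finset.mem_sdiff.mpr ⟨(hmt x).mpr ⟨h, hh, hx⟩, hxΩ⟩
      rw [hall] at this
      exact hO ▸ (Finset.mem_coe.mpr this)

end Cfsg.Agent.Lib.Helper5
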