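import Cfsg.Agent.Lib.Helper5.DK9
import Cfsg.Agent.Lib.Helper5.QP5

set_option autoImplicit false
set_option linter.style.haveILetI false
set_option linter.unusedSectionVars false

namespace Cfsg.Agent.Lib.Helper5

open Cfsg

universe u

local notation "SL2" => Matrix.SpecialLinearGroup (Fin 2)

variable {K : Type*} [Field K]

theorem comm_tU_entries (n : SL2 K) (l : K) (hl : l ≠ 0) (h : n * tU l = tU l * n) :
    n.1 1 0 = 0 ∧ n.1 0 0 = n.1 1 1 := by
  have h1 := congrArg Subtype.val h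
  rw [Matrix.SpecialLinearGroup.coe_mul, Matrix.SpecialLinearGroup.coe_mul] at h1
  have h00 := congrFun (congrFun h1 0) 0
  have h01 := congrFun (congrFun h1 0) 1
  rw [(mul_entries _ _).1, (mul_entries _ _).1] at h00
  rw [(mul_entries _ _).2.1, (mul_entries _ _).2.1] at h01
  simp [tU] at h00 h01
  refine ⟨h00.resolve_left hl, ?_⟩
  have : l * (n.1 0 0 - n.1 1 1) = 0 := by linear_combination h01
  exact sub_eq_zero.mp ((mul_eq_zero.mp this).resolve_left hl)

theorem comm_sL_entries (n : SL2 K) (c : K) (hc : c ≠ 0) (h : n * sL c = sL c * n) :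
    n.1 0 1 = 0 := by
  have h1 := congrArg Subtype.val h
  rw [Matrix.SpecialLinearGroup.coe_mul, Matrix.SpecialLinearGroup.coe_mul] at h1
  have h00 := congrFun (congrFun h1 0) 0
  rw [(mul_entries _ _).1, (mul_entries _ _).1] at h00
  simp [sL] at h00
  exact h00.resolve_right hc

theorem odd_card_of_isPGroup {G : Type*} [Group G] [Finite G] {p : ℕ} [Fact p.Prime] (hp2 : p ≠ 2)
    (h : IsPGroup p G) : Odd (Nat.card G) := by
  obtain ⟨k, hk⟩ := IsPGroup.iff_card.mp h
  rw [hk]
  exact ((Fact.out : p.Prime).odd_of_ne_two hp2).pow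

/-- a normal `p`-subgroup of a subgroup of `SL₂` containing opposite transvections is trivial -/
theorem normal_pgroup_trivial [Finite K] {p : ℕ} [Fact p.Prime] [CharP K p] (hp2 : p ≠ 2)
    (l c : K) (hl : l ≠ 0) (hc : c ≠ 0) (N : Subgroup (SL2 K)) (hN : IsPGroup p N)
    (h1 : tU l ∈ Subgroup.normalizer (N : Set (SL2 K)))
    (h2 : sL c ∈ Subgroup.normalizer (N : Set (SL2 K))) : N = ⊥ := by
  haveI : Finite (SL2 K) := Subtype.finite
  have h2K : (2 : K) ≠ 0 := two_ne_zero_of_char hp2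
  have key : ∀ t : SL2 K, t ^ p = 1 → t ∈ Subgroup.normalizer (N : Set (SL2 K)) →
      ∀ n ∈ N, n * t = t * n := by
    intro t ht htN n hn
    have hz : IsPGroup p (Subgroup.zpowers t) :=
      isPGroup_zpowers_of_pow t 1 (by rw [pow_one]; exact ht)
    have hsup : IsPGroup p (N ⊔ Subgroup.zpowers t : Subgroup (SL2 K)) :=
      IsPGroup.to_sup_of_normal_left' hN hz (by rw [Subgroup.zpowers_le]; exact htN)
    obtain ⟨k, hk⟩ := hN ⟨n, hn⟩
    exact pelts_comm_of_odd hp2 _ (N ⊔ Subgroup.zpowers t) rfl (odd_card_of_isPGroup hp2 hsup)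
      n (Subgroup.mem_sup_left hn) t (Subgroup.mem_sup_right (Subgroup.mem_zpowers t))
      ⟨k, by simpa using congrArg Subtype.val hk⟩ ⟨1, by rw [pow_one]; exact ht⟩
  rw [eq_bot_iff]
  intro n hn
  obtain ⟨k, hk⟩ := hN ⟨n, hn⟩
  have htr := trace_of_pelt (p := p) n k (by simpa using congrArg Subtype.val hk)
  obtain ⟨e10, e00⟩ := comm_tU_entries n l hl (key _ (tU_pow_char l) h1 n hn)
  have e01 := comm_sL_entries n c hc (key _ (sL_pow_char c) h2 n hn)
  rw [Subgroup.mem_bot]
  have h11 : n.1 1 1 = 1 := by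
    rw [e00] at htr
    have : 2 * (n.1 1 1 - 1) = 0 := by linear_combination htr
    exact sub_eq_zero.mp ((mul_eq_zero.mp this).resolve_left h2K)
  apply Subtype.ext
  apply ext2 <;> simp [e10, e01, e00, h11]

variable {p : ℕ}

/-- `QFree` passes up through normal `p`-subgroups. -/
theorem QFree.of_quot_pgroup [Fact p.Prime] (hp2 : p ≠ 2) {X : Type u} [Group X] [Finite X]
    (V : Subgroup X) [V.Normal] (hV : IsPGroup p V) (h : QFree p (X ⧸ V)) : QFree p X := by
  intro H K _ _ _ l π hl h1 h2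
  -- the image of `V ∩ H` is trivial
  have hN : (V.subgroupOf H).map π = ⊥ := by
    have hnorm : ∀ t ∈ π.range, t ∈ Subgroup.normalizer (((V.subgroupOf H).map π : Subgroup _) :
        Set (SL2 K)) := by
      rintro _ ⟨s, rfl⟩
      have : ((V.subgroupOf H).map π).map (MulAut.conj (π s)).toMonoidHom =
          (V.subgroupOf H).map π := by
        ext y
        constructor
        · rintro ⟨_, ⟨v, hv, rfl⟩, rfl⟩
          exact ⟨s * v * s⁻¹, (inferInstance : (V.subgroupOf H).Normal).conj_mem v hv s, by simp⟩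
        · rintro ⟨v, hv, rfl⟩
          refine ⟨π (s⁻¹ * v * s), ⟨_, ?_, rfl⟩, by simp [mul_assoc]⟩
          have := (inferInstance : (V.subgroupOf H).Normal).conj_mem v hv s⁻¹
          simpa using this
      rw [Subgroup.mem_normalizer_iff]
      intro y
      constructor
      · intro hy
        rw [← this]
        exact ⟨y, hy, rfl⟩
      · intro hy
        rw [← this] at hy
        obtain ⟨z, hz, hzy⟩ := hy
        have : z = y := (MulAut.conj (π s)).injective hzy
        rwa [← this]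
    exact normal_pgroup_trivial hp2 l 1 hl one_ne_zero _ ((hV.comap_subtype).map π)
      (hnorm _ h1) (hnorm _ h2)
  obtain ⟨q, hq⟩ : ∃ q : H →* H.map (QuotientGroup.mk' V), q = (QuotientGroup.mk' V).subgroupMap H :=
    ⟨_, rfl⟩
  have hqs : Function.Surjective q := hq ▸ (QuotientGroup.mk' V).subgroupMap_surjective H
  have hker : q.ker ≤ π.ker := by
    intro x hx
    have hx1 : x ∈ V.subgroupOf H := by
      rw [MonoidHom.mem_ker, hq] at hx
      have := congrArg Subtype.val hx
      simp only [MonoidHom.subgroupMap_apply_coe, Subgroup.coe_one, QuotientGroup.mk'_apply] at this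
      exact Subgroup.mem_subgroupOf.mpr ((QuotientGroup.eq_one_iff _).mp this)
    have : π x ∈ (V.subgroupOf H).map π := ⟨x, hx1, rfl⟩
    rw [hN] at this
    exact this
  refine h (H.map (QuotientGroup.mk' V)) K l (q.liftOfSurjective hqs ⟨π, hker⟩) hl ?_ ?_
  · obtain ⟨t, ht⟩ := h1
    exact ⟨q t, by rw [MonoidHom.liftOfRightInverse_comp_apply]; exact ht⟩
  · obtain ⟨t, ht⟩ := h2
    exact ⟨q t, by rw [MonoidHom.liftOfRightInverse_comp_apply]; exact ht⟩

/-- **`SL₂(p)`-free subgroups are `QFree`** (by Dickson's theorem). -/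
theorem qFree_of_no_section [Fact p.Prime] (hp2 : p ≠ 2) {G : Type u} [Group G] [Finite G]
    (H : Subgroup G)
    (hfree : ¬ ∃ (K L : Subgroup G) (_ : (L.subgroupOf K).Normal), K ≤ H ∧
      Nonempty (K ⧸ L.subgroupOf K ≃* SL2 (ZMod p))) : QFree p H := by
  intro H' K _ _ _ l π hl h1 h2
  apply hfree
  haveI : Finite (SL2 K) := Subtype.finite
  obtain ⟨φ, hφ, hr⟩ := dickson_general (p := p) hp2 π.range (tU l) (sL 1) h1 h2
    ⟨1, by rw [pow_one]; exact tU_pow_char l⟩ ⟨1, by rw [pow_one]; exact sL_pow_char 1⟩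
    (tU_sL_not_comm l 1 hl one_ne_zero)
  obtain ⟨e, he⟩ : ∃ e : H' ≃* H'.map H.subtype,
    e = H'.equivMapOfInjective _ H.subtype_injective := ⟨_, rfl⟩
  obtain ⟨K', L, hL, hK', hN⟩ := section_of_range (H'.map H.subtype) (π.comp e.symm.toMonoidHom) φ hφ
    (by
      refine hr.trans ?_
      rintro _ ⟨x, rfl⟩
      exact ⟨e x, by simp⟩)
  exact ⟨K', L, hL, hK'.trans (Subgroup.map_subtype_le _), hN⟩

theorem qFree_of_sl2_free [Fact p.Prime] (hp2 : p ≠ 2) {G : Type u} [Group G] [Finite G]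
    (hfree : ¬ ∃ (K L : Subgroup G) (_ : (L.subgroupOf K).Normal),
      Nonempty (K ⧸ L.subgroupOf K ≃* SL2 (ZMod p))) : QFree p G := by
  have h1 : QFree p (⊤ : Subgroup G) := qFree_of_no_section hp2 ⊤ (by
    rintro ⟨K, L, hL, -, hN⟩
    exact hfree ⟨K, L, hL, hN⟩)
  exact h1.of_surjective (⊤ : Subgroup G).subtype (fun x => ⟨⟨x, trivial⟩, rfl⟩)

end Cfsg.Agent.Lib.Helper5
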