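import Cfsg.Agent.Lib.Helper5.DK10

set_option autoImplicit false
set_option linter.style.haveILetI false
set_option linter.unusedSectionVars false

namespace Cfsg.Agent.Lib.Helper5

open Cfsg

universe u

local notation "SL2" => Matrix.SpecialLinearGroup (Fin 2)

variable {p : ℕ}

/-- `QFree` for `H V` when `H` is `QFree` and normalizes the `p`-group `V`. -/
theorem QFree.sup_pgroup [Fact p.Prime] (hp2 : p ≠ 2) {G : Type u} [Group G] [Finite G]
    (V H : Subgroup G) (hV : IsPGroup p V) (hHV : H ≤ Subgroup.normalizer (V : Set G))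
    (hQ : QFree p H) : QFree p (H ⊔ V : Subgroup G) := by
  haveI hn : (V.subgroupOf (H ⊔ V)).Normal := Subgroup.normal_subgroupOf_sup_of_le_normalizer hHV
  apply QFree.of_quot_pgroup hp2 (V.subgroupOf (H ⊔ V)) hV.comap_subtype
  refine hQ.of_surjective ((QuotientGroup.mk' (V.subgroupOf (H ⊔ V))).comp
    (Subgroup.inclusion le_sup_left)) ?_
  intro y
  obtain ⟨⟨y, hy⟩, rfl⟩ := QuotientGroup.mk'_surjective _ y
  have hy' : y ∈ ((H ⊔ V : Subgroup G) : Set G) := hy
  rw [Subgroup.coe_mul_of_left_le_normalizer_right H V hHV] at hy'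
  obtain ⟨h, hh, v, hv, rfl⟩ := hy'
  refine ⟨⟨h, hh⟩, ?_⟩
  rw [MonoidHom.comp_apply, QuotientGroup.mk'_apply, QuotientGroup.mk'_apply, QuotientGroup.eq]
  rw [Subgroup.mem_subgroupOf]
  simpa using hv

/-- quadratic action of an element of a `QFree` group on a `p`-group it normalizes -/
theorem QFree.stable_ext [Fact p.Prime] (hp2 : p ≠ 2) {G : Type u} [Group G] [Finite G]
    (V H : Subgroup G) (hV : IsPGroup p V) (hHV : H ≤ Subgroup.normalizer (V : Set G))
    (hQ : QFree p H) (x : G) (hxH : x ∈ H)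
    (hq : ⁅⁅V, Subgroup.zpowers x⁆, Subgroup.zpowers x⁆ = ⊥) :
    ∃ N : Subgroup H, N.Normal ∧ (⟨x, hxH⟩ : H) ∈ N ∧
      ∀ n ∈ N, ∃ k : ℕ, (n : G) ^ (p ^ k) ∈ Subgroup.centralizer (V : Set G) := by
  haveI hn : (V.subgroupOf (H ⊔ V)).Normal := Subgroup.normal_subgroupOf_sup_of_le_normalizer hHV
  have hX := QFree.sup_pgroup hp2 V H hV hHV hQ
  have hst := hX.stable (V.subgroupOf (H ⊔ V)) hV.comap_subtype ⟨x, le_sup_left (a := H) hxH⟩ (by
    apply Subgroup.map_injective (H ⊔ V : Subgroup G).subtype_injective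
    rw [Subgroup.map_commutator, Subgroup.map_commutator, MonoidHom.map_zpowers,
      Subgroup.map_subgroupOf_eq_of_le le_sup_right, Subgroup.map_bot]
    exact hq)
  refine ⟨(pCore p _).comap ((QuotientGroup.mk' (Subgroup.centralizer
    ((V.subgroupOf (H ⊔ V) : Subgroup _) : Set (H ⊔ V : Subgroup G)))).comp
    (Subgroup.inclusion le_sup_left)), ?_, hst, ?_⟩
  · haveI : (pCore p ((H ⊔ V : Subgroup G) ⧸ Subgroup.centralizer
      ((V.subgroupOf (H ⊔ V) : Subgroup _) : Set (H ⊔ V : Subgroup G)))).Normal := pCore_normal _ _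
    infer_instance
  · intro n hn
    obtain ⟨k, hk⟩ := pCore_isPGroup (p := p) ⟨_, hn⟩
    refine ⟨k, ?_⟩
    have h1 := congrArg Subtype.val hk
    simp only [Subgroup.coe_pow, Subgroup.coe_one, MonoidHom.comp_apply] at h1
    rw [← map_pow, QuotientGroup.mk'_apply, QuotientGroup.eq_one_iff,
      Subgroup.mem_centralizer_iff] at h1
    rw [Subgroup.mem_centralizer_iff]
    intro v hv
    have h2 := h1 ⟨v, le_sup_right (b := V) hv⟩ (Subgroup.mem_subgroupOf.mpr hv)
    have h3 := congrArg Subtype.val h2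
    simpa using h3

end Cfsg.Agent.Lib.Helper5
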