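import Cfsg.Agent.Lib.Helper5.DK11

set_option autoImplicit false
set_option linter.style.haveILetI false
set_option linter.unusedSectionVars false

namespace Cfsg.Agent.Lib.Helper5

open Cfsg

universe u

local notation "SL2" => Matrix.SpecialLinearGroup (Fin 2)

variable {p : ℕ}

theorem QFree.of_injective {X Y : Type u} [Group X] [Group Y] (f : Y →* X)
    (hf : Function.Injective f) (h : QFree p X) : QFree p Y :=
  (h.subgroup f.range).of_surjective (MonoidHom.ofInjective hf).symm.toMonoidHom
    (MonoidHom.ofInjective hf).symm.surjective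

/-- Frattini: a normal `p`-subgroup of a quotient is covered by a `p`-subgroup whose normalizer
covers the quotient. -/
theorem frattini_cover [Fact p.Prime] {K X : Type*} [Group K] [Finite K] [Group X] (π : K →* X)
    (hπ : Function.Surjective π) (Pb : Subgroup X) [Pb.Normal] (hPb : IsPGroup p Pb) :
    ∃ Q : Subgroup K, IsPGroup p Q ∧ Q.map π = Pb ∧
      (Subgroup.normalizer (Q : Set K)).map π = ⊤ := by
  obtain ⟨Q₀⟩ : Nonempty (Sylow p (Pb.comap π)) := inferInstance
  have hs := π.subgroupComap_surjective_of_surjective Pb hπ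
  have h1 : (Q₀ : Subgroup (Pb.comap π)).map (π.subgroupComap Pb) = ⊤ := by
    have h2 := (Q₀.mapSurjective hs).is_maximal' (Q := ⊤)
      (hPb.of_equiv Subgroup.topEquiv.symm) le_top
    rw [Sylow.coe_mapSurjective] at h2
    exact h2.symm
  have h3 : ((Q₀ : Subgroup (Pb.comap π)).map (Pb.comap π).subtype).map π = Pb := by
    apply le_antisymm
    · rintro _ ⟨_, ⟨x, -, rfl⟩, rfl⟩
      exact x.2
    · intro y hy
      have : (⟨y, hy⟩ : Pb) ∈ (Q₀ : Subgroup (Pb.comap π)).map (π.subgroupComap Pb) := by
        rw [h1]; trivial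
      obtain ⟨x, hx, hxy⟩ := this
      exact ⟨x.1, ⟨x, hx, rfl⟩, congrArg Subtype.val hxy⟩
  refine ⟨(Q₀ : Subgroup (Pb.comap π)).map (Pb.comap π).subtype, Q₀.2.map _, h3, ?_⟩
  have hfr := congrArg (Subgroup.map π) (Sylow.normalizer_sup_eq_top Q₀)
  rw [Subgroup.map_sup, Subgroup.map_comap_eq_self_of_surjective hπ,
    ← MonoidHom.range_eq_map, MonoidHom.range_eq_top.mpr hπ] at hfr
  rw [← hfr]
  symm
  apply sup_eq_left.mpr
  conv_lhs => rw [← h3]
  exact Subgroup.map_mono Subgroup.le_normalizer

/-- the local form of `QFree.normalizerPStable` -/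
theorem stable_of_qFree_normalizer [Fact p.Prime] {X : Type u} [Group X] [Finite X]
    (P : Subgroup X) (hP : IsPGroup p P) (h : QFree p (Subgroup.normalizer (P : Set X)))
    (g : X) (hg : g ∈ Subgroup.normalizer (P : Set X))
    (hq : ⁅⁅P, Subgroup.zpowers g⁆, Subgroup.zpowers g⁆ = ⊥) :
    (QuotientGroup.mk (s := (Subgroup.centralizer (P : Set X)).subgroupOf
      (Subgroup.normalizer (P : Set X))) (⟨g, hg⟩ : ↥(Subgroup.normalizer (P : Set X)))) ∈
        pCore p (↥(Subgroup.normalizer (P : Set X)) ⧸
          (Subgroup.centralizer (P : Set X)).subgroupOf (Subgroup.normalizer (P : Set X))) := by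
  haveI : (P.subgroupOf (Subgroup.normalizer (P : Set X))).Normal := Subgroup.normal_in_normalizer
  have h1 := h.stable
    (P.subgroupOf (Subgroup.normalizer (P : Set X))) hP.comap_subtype ⟨g, hg⟩ (by
      apply Subgroup.map_injective (Subgroup.normalizer (P : Set X)).subtype_injective
      rw [Subgroup.map_commutator, Subgroup.map_commutator, MonoidHom.map_zpowers,
        Subgroup.map_subgroupOf_eq_of_le Subgroup.le_normalizer, Subgroup.map_bot]
      exact hq)
  exact (quot_pCore_mem_iff (p := p) (MonoidHom.id _) Function.surjective_id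
    ((Subgroup.centralizer (P : Set X)).subgroupOf (Subgroup.normalizer (P : Set X)))
    (Subgroup.centralizer ((P.subgroupOf (Subgroup.normalizer (P : Set X)) :
      Subgroup (Subgroup.normalizer (P : Set X))) : Set (Subgroup.normalizer (P : Set X))))
    (by
      rw [Subgroup.comap_id]
      ext x
      rw [Subgroup.mem_subgroupOf, Subgroup.mem_centralizer_iff, Subgroup.mem_centralizer_iff]
      constructor
      · intro h u hu
        exact Subtype.ext (h u (Subgroup.mem_subgroupOf.mp hu))
      · intro h u hu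
        exact congrArg Subtype.val (h ⟨u, Subgroup.le_normalizer hu⟩
          (Subgroup.mem_subgroupOf.mpr hu))) ⟨g, hg⟩).mpr h1

/-- normalizers of non-trivial `p`-subgroups of sections are `QFree` if those of `G` are. -/
theorem qFree_normalizer_section [Fact p.Prime] {G X : Type u} [Group G] [Finite G] [Group X]
    (K : Subgroup G) (π : K →* X) (hπ : Function.Surjective π) (Pb : Subgroup X)
    (hPb : IsPGroup p Pb) (hne : Pb ≠ ⊥)
    (h : ∀ Q : Subgroup G, IsPGroup p Q → Q ≠ ⊥ → QFree p (Subgroup.normalizer (Q : Set G))) :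
    QFree p (Subgroup.normalizer (Pb : Set X)) := by
  haveI : (Pb.subgroupOf (Subgroup.normalizer (Pb : Set X))).Normal := Subgroup.normal_in_normalizer
  have hs := π.subgroupComap_surjective_of_surjective (Subgroup.normalizer (Pb : Set X)) hπ
  obtain ⟨Q, hQ, hQm, hQn⟩ := frattini_cover (π.subgroupComap (Subgroup.normalizer (Pb : Set X))) hs
    (Pb.subgroupOf (Subgroup.normalizer (Pb : Set X))) hPb.comap_subtype
  obtain ⟨ι, hι⟩ : ∃ ι : ((Subgroup.normalizer (Pb : Set X)).comap π) →* G,
    ι = K.subtype.comp (Subgroup.subtype _) := ⟨_, rfl⟩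
  have hιi : Function.Injective ι := by
    rw [hι]
    exact K.subtype_injective.comp (Subgroup.subtype_injective _)
  have hQne : Q.map ι ≠ ⊥ := by
    intro h0
    have h1 : Q = ⊥ := by
      rw [← Subgroup.map_bot ι] at h0
      exact Subgroup.map_injective hιi h0
    rw [h1, Subgroup.map_bot] at hQm
    apply hne
    rw [eq_bot_iff]
    intro x hx
    have : (⟨x, Subgroup.le_normalizer hx⟩ : Subgroup.normalizer (Pb : Set X)) ∈
        Pb.subgroupOf (Subgroup.normalizer (Pb : Set X)) := Subgroup.mem_subgroupOf.mpr hx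
    rw [← hQm, Subgroup.mem_bot] at this
    exact congrArg Subtype.val this
  have h1 := h (Q.map ι) (hQ.map ι) hQne
  -- `N(Q)` embeds in `N_G(ι Q)`
  have hmem : ∀ x : Subgroup.normalizer (Q : Set ((Subgroup.normalizer (Pb : Set X)).comap π)),
      ι x.1 ∈ Subgroup.normalizer ((Q.map ι : Subgroup G) : Set G) := fun x =>
    Subgroup.le_normalizer_map ι ⟨x.1, x.2, rfl⟩
  have h2 : QFree p (Subgroup.normalizer (Q : Set ((Subgroup.normalizer (Pb : Set X)).comap π))) :=
    h1.of_injective ((ι.comp (Subgroup.subtype _)).codRestrict _ hmem) (by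
      intro a b hab
      have := congrArg Subtype.val hab
      exact Subtype.ext (hιi this))
  refine h2.of_surjective ((π.subgroupComap (Subgroup.normalizer (Pb : Set X))).comp
    (Subgroup.subtype _)) ?_
  intro y
  have : y ∈ (Subgroup.normalizer (Q : Set ((Subgroup.normalizer (Pb : Set X)).comap π))).map
      (π.subgroupComap (Subgroup.normalizer (Pb : Set X))) := by rw [hQn]; trivial
  obtain ⟨x, hx, hxy⟩ := this
  exact ⟨⟨x, hx⟩, hxy⟩

end Cfsg.Agent.Lib.Helper5
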