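import Cfsg.Agent.Lib.Helper5.DK12
import Cfsg.Agent.Lib.Helper5.PSolv

set_option autoImplicit false
set_option linter.style.haveILetI false
set_option linter.unusedSectionVars false

namespace Cfsg.Agent.Lib.Helper5

open Cfsg

universe u

local notation "SL2" => Matrix.SpecialLinearGroup (Fin 2)

variable {p : ℕ}

theorem isPSolvable_subgroup [Fact p.Prime] {G : Type*} [Group G] (M : Subgroup G)
    (h : IsPSolvable p G) : IsPSolvable p M := by
  obtain ⟨n, H, h0, hn, hmono, hnorm, hfac⟩ := h
  refine ⟨n, fun i => (H i).subgroupOf M, ?_, ?_, ?_, ?_, ?_⟩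
  · simp only [h0, Subgroup.bot_subgroupOf]
  · simp only [hn, Subgroup.top_subgroupOf]
  · exact fun i j hij => Subgroup.comap_mono (hmono hij)
  · intro i
    haveI := hnorm i
    infer_instance
  · intro i
    haveI := hnorm i.castSucc
    have hd : ((H i.castSucc).subgroupOf M).relIndex ((H i.succ).subgroupOf M) ∣
        (H i.castSucc).relIndex (H i.succ) := by
      rw [← Subgroup.inf_subgroupOf_right (H i.succ) M, Subgroup.relIndex_subgroupOf inf_le_right]
      exact relIndex_dvd_relIndex_of_le inf_le_left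
    rcases hfac i with ⟨m, hm⟩ | hc
    · left
      rw [hm] at hd
      obtain ⟨j, _, hj⟩ := (Nat.dvd_prime_pow Fact.out).mp hd
      exact ⟨j, hj⟩
    · right
      exact Nat.Coprime.coprime_dvd_left hd hc

/-- a simple `p`-solvable group is a `p`-group or a `p'`-group -/
theorem card_of_simple_isPSolvable {X : Type*} [Group X] [IsSimpleGroup X]
    (h : IsPSolvable p X) : (∃ m : ℕ, Nat.card X = p ^ m) ∨ (Nat.card X).Coprime p := by
  obtain ⟨n, H, h0, hn, hmono, hnorm, hfac⟩ := h
  by_contra hcon
  have key : ∀ i : Fin (n + 1), H i = ⊥ := by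
    intro i
    induction i using Fin.induction with
    | zero => exact h0
    | succ i ih =>
      rcases (hnorm i.succ).eq_bot_or_eq_top with h | h
      · exact h
      · exfalso
        apply hcon
        have := hfac i
        rwa [ih, h, Subgroup.relIndex_bot_left, Nat.card_congr Subgroup.topEquiv.toEquiv] at this
  have := key (Fin.last n)
  rw [hn] at this
  exact top_ne_bot this

theorem not_isPSolvable_sl2 [Fact p.Prime] (hp : 5 ≤ p) : ¬ IsPSolvable p (SL2 (ZMod p)) := by
  intro h
  have hp2 : p ≠ 2 := by omega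
  have h2 : (2 : ZMod p) ≠ 0 := two_ne_zero_of_char hp2
  haveI : IsSimpleGroup (Matrix.ProjectiveSpecialLinearGroup (Fin 2) (ZMod p)) :=
    Matrix.ProjectiveSpecialLinearGroup.rank_two_simple (by rw [Nat.card_zmod]; omega)
  haveI : Finite (SL2 (ZMod p)) := Subtype.finite
  have hs : Function.Surjective (QuotientGroup.mk' (Subgroup.center (SL2 (ZMod p)))) :=
    QuotientGroup.mk'_surjective _
  have h1 : IsPSolvable p (Matrix.ProjectiveSpecialLinearGroup (Fin 2) (ZMod p)) :=
    isPSolvable_of_surjective _ hs h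
  have hnc : ∀ z ∈ Subgroup.center (SL2 (ZMod p)), IsSc z.1 := by
    intro z hz
    have e1 := comm_tU_entries z 1 one_ne_zero ((Subgroup.mem_center_iff.mp hz (tU 1)).symm)
    have e2 := comm_sL_entries z 1 one_ne_zero ((Subgroup.mem_center_iff.mp hz (sL 1)).symm)
    exact ⟨e2, e1.1, e1.2⟩
  rcases card_of_simple_isPSolvable h1 with ⟨m, hm⟩ | hc
  · -- a simple `p`-group is abelian
    have hpg : IsPGroup p (Matrix.ProjectiveSpecialLinearGroup (Fin 2) (ZMod p)) :=
      IsPGroup.of_card hm
    haveI : Finite (Matrix.ProjectiveSpecialLinearGroup (Fin 2) (ZMod p)) :=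
      Finite.of_surjective _ hs
    haveI := hpg.center_nontrivial
    have hct : Subgroup.center (Matrix.ProjectiveSpecialLinearGroup (Fin 2) (ZMod p)) = ⊤ := by
      rcases (inferInstance : (Subgroup.center
        (Matrix.ProjectiveSpecialLinearGroup (Fin 2) (ZMod p))).Normal).eq_bot_or_eq_top with h | h
      · exact absurd h ((Subgroup.nontrivial_iff_ne_bot _).mp inferInstance)
      · exact h
    have hcomm : QuotientGroup.mk' (Subgroup.center (SL2 (ZMod p))) (tU 1) *
        QuotientGroup.mk' (Subgroup.center (SL2 (ZMod p))) (sL 1) =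
        QuotientGroup.mk' (Subgroup.center (SL2 (ZMod p))) (sL 1) *
        QuotientGroup.mk' (Subgroup.center (SL2 (ZMod p))) (tU 1) := by
      have : QuotientGroup.mk' (Subgroup.center (SL2 (ZMod p))) (sL 1) ∈ Subgroup.center
        (Matrix.ProjectiveSpecialLinearGroup (Fin 2) (ZMod p)) := by rw [hct]; trivial
      exact Subgroup.mem_center_iff.mp this _
    rw [← map_mul, ← map_mul, QuotientGroup.mk'_apply, QuotientGroup.mk'_apply,
      QuotientGroup.eq] at hcomm
    have hsc := hnc _ hcomm
    -- `(tU 1 * sL 1)⁻¹ * (sL 1 * tU 1)` is not scalar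
    have e : ((tU 1 * sL 1 : SL2 (ZMod p))⁻¹ * (sL 1 * tU 1)) =
        sL (-1) * tU (-1) * (sL 1 * tU 1) := by
      rw [mul_inv_rev, tU_inv, sL_inv]
    rw [e] at hsc
    have h01 := hsc.1
    rw [Matrix.SpecialLinearGroup.coe_mul, Matrix.SpecialLinearGroup.coe_mul,
      Matrix.SpecialLinearGroup.coe_mul] at h01
    simp [tU, sL, Matrix.mul_apply, Fin.sum_univ_two] at h01
  · -- `p` divides the order
    have ho : (QuotientGroup.mk' (Subgroup.center (SL2 (ZMod p))) (tU 1)) ^ p = 1 := by
      rw [← map_pow, tU_pow_char, map_one]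
    have hne : QuotientGroup.mk' (Subgroup.center (SL2 (ZMod p))) (tU 1) ≠ 1 := by
      intro h
      rw [QuotientGroup.mk'_apply, QuotientGroup.eq_one_iff] at h
      have := (hnc _ h).1
      simp [tU] at this
    haveI : Finite (Matrix.ProjectiveSpecialLinearGroup (Fin 2) (ZMod p)) :=
      Finite.of_surjective _ hs
    have hord := orderOf_eq_prime ho hne
    have hdvd : p ∣ Nat.card (Matrix.ProjectiveSpecialLinearGroup (Fin 2) (ZMod p)) := by
      have h3 := orderOf_dvd_natCard (QuotientGroup.mk' (Subgroup.center (SL2 (ZMod p))) (tU 1))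
      rwa [hord] at h3
    exact (Nat.Prime.coprime_iff_not_dvd Fact.out).mp hc.symm hdvd

theorem no_sl2_section_of_isPSolvable [Fact p.Prime] (hp : 5 ≤ p) {G : Type*} [Group G]
    (h : IsPSolvable p G) : ¬ ∃ (K L : Subgroup G) (_ : (L.subgroupOf K).Normal),
      Nonempty (K ⧸ L.subgroupOf K ≃* SL2 (ZMod p)) := by
  rintro ⟨K, L, hL, ⟨e⟩⟩
  apply not_isPSolvable_sl2 hp
  exact isPSolvable_of_surjective (e.toMonoidHom.comp (QuotientGroup.mk' _))
    (e.surjective.comp (QuotientGroup.mk'_surjective _)) (isPSolvable_subgroup K h)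

theorem qFree_of_isPSolvable [Fact p.Prime] (hp : 5 ≤ p) {G : Type u} [Group G] [Finite G]
    (h : IsPSolvable p G) : QFree p G :=
  qFree_of_sl2_free (by omega) (no_sl2_section_of_isPSolvable hp h)

end Cfsg.Agent.Lib.Helper5
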