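import Cfsg.Agent.Lib.Helper5.WS3
import Cfsg.Agent.Lib.Helper10.CharP3

set_option autoImplicit false

namespace Cfsg.Agent.Lib.Helper5

open Cfsg
open scoped commutatorElement

universe u

variable {p : ℕ}

theorem le_normalizer_map_subtype {G : Type*} [Group G] (H : Subgroup G) (K : Subgroup H)
    [hK : K.Normal] : H ≤ Subgroup.normalizer ((K.map H.subtype : Subgroup G) : Set G) := by
  have h1 := Subgroup.le_normalizer_map (H := K) H.subtype
  rw [Subgroup.normalizer_eq_top_iff.mpr hK, ← MonoidHom.range_eq_map, Subgroup.range_subtype] at h1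
  exact h1

theorem ws_elemAb {S : Type u} [Group S] [Finite S] :
    IsElementaryAbelian p (stableNormalClosure p S) :=
  elemAb_of_le (ws_le_of_mem oct_mem_wsFam) (elemAb_omegaOne (comm_inf_centralizer _))

theorem isStableEmbedding_normalizer [Fact p.Prime] {G : Type u} [Group G] [Finite G]
    (hst : IsActionPStable p G)
    (hc : Subgroup.centralizer (pCore p G : Set G) ≤ pCore p G) (S : Sylow p G)
    (hSH : (S : Subgroup G) ≤ Subgroup.normalizer (thompsonSubgroupOf p (S : Subgroup G) : Set G)) :
    IsStableEmbedding p (Subgroup.inclusion hSH) := by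
  have hcomp : (Subgroup.normalizer (thompsonSubgroupOf p (S : Subgroup G) : Set G)).subtype.comp
      (Subgroup.inclusion hSH) = (S : Subgroup G).subtype := rfl
  refine ⟨Subgroup.inclusion_injective hSH, inferInstance, ⟨S.subtype hSH, ?_⟩, ?_, ?_, ?_⟩
  · rw [Sylow.coe_subtype, Subgroup.inclusion_range]
  · have h1 := Cfsg.Agent.Lib.Helper10.charPT_iff_centralizer_le.mpr hc
    have h2 := Cfsg.Agent.Lib.Helper10.charPT_normalizer h1 (thompsonSubgroupOf p (S : Subgroup G))
      (S.2.to_le (Subgroup.map_subtype_le _))
    exact Cfsg.Agent.Lib.Helper10.charPT_iff_centralizer_le.mp h2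
  · have h1 : (thompsonSubgroup p ↥(S : Subgroup G)).map (Subgroup.inclusion hSH) =
        (thompsonSubgroupOf p (S : Subgroup G)).subgroupOf
          (Subgroup.normalizer (thompsonSubgroupOf p (S : Subgroup G) : Set G)) := by
      have h2 : thompsonSubgroupOf p (S : Subgroup G) =
          ((thompsonSubgroup p ↥(S : Subgroup G)).map (Subgroup.inclusion hSH)).map
            (Subgroup.normalizer (thompsonSubgroupOf p (S : Subgroup G) : Set G)).subtype := by
        rw [Subgroup.map_map, hcomp]; rfl
      conv_rhs => rw [Subgroup.subgroupOf]; arg 2; rw [h2]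
      exact (Subgroup.comap_map_eq_self_of_injective (Subgroup.subtype_injective _) _).symm
    rw [h1]
    infer_instance
  · intro V _ hV
    apply hst.2.2 S V
    have h1 := Subgroup.map_mono
      (f := (Subgroup.normalizer (thompsonSubgroupOf p (S : Subgroup G) : Set G)).subtype) hV
    rw [Subgroup.map_map, hcomp] at h1
    exact h1

theorem ws_normal [Fact p.Prime] {G : Type u} [Group G] [Finite G]
    (hst : IsActionPStable p G)
    (hc : Subgroup.centralizer (pCore p G : Set G) ≤ pCore p G) (S : Sylow p G) :
    ((stableNormalClosure p ↥(S : Subgroup G)).map (S : Subgroup G).subtype).Normal := by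
  have hSH : (S : Subgroup G) ≤
      Subgroup.normalizer (thompsonSubgroupOf p (S : Subgroup G) : Set G) :=
    Subgroup.le_normalizer.trans (normalizer_le_iF (jE_char (p := p)) S.2)
  apply normal_of_nq hst.1 hst.2.1 hc S
  · exact Subgroup.le_normalizer.trans (normalizer_le_iF (ws_char (p := p)) S.2)
  · exact elemAb_map _ ws_elemAb
  · intro t ht hq
    have h1 := quad_map_eq_bot_iff (S : Subgroup G).subtype (Subgroup.subtype_injective _)
      (stableNormalClosure p ↥(S : Subgroup G)) ⟨t, ht⟩
    have h2 := comm_map_eq_bot_iff (S : Subgroup G).subtype (Subgroup.subtype_injective _)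
      (stableNormalClosure p ↥(S : Subgroup G)) ⟨t, ht⟩
    exact h2.mpr (ws_NQ _ (h1.mp hq))
  · have hτ := isStableEmbedding_normalizer hst hc S hSH
    haveI := ws_map_normal _ hτ
    have h1 := le_normalizer_map_subtype _
      ((stableNormalClosure p ↥(S : Subgroup G)).map (Subgroup.inclusion hSH))
    rw [Subgroup.map_map] at h1
    exact h1

end Cfsg.Agent.Lib.Helper5
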