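import Cfsg.Agent.Lib.Helper5.DK13
import Cfsg.Agent.Lib.Helper5.NPCFun
import Cfsg.Agent.Lib.Helper5.WS4

set_option autoImplicit false
set_option linter.style.haveILetI false
set_option linter.unusedSectionVars false

namespace Cfsg.Agent.Lib.Helper5

open Cfsg

universe u

variable {p : ℕ}

/-- lifting normality of `W(S̄)` in `G / O_{p'}(G)` to a Frattini factorization -/
theorem sup_normalizer_iF_eq_top [Fact p.Prime] {W : ∀ (Q : Type u) [Group Q], Subgroup Q}
    (hW : IsCharPFunctor.{u} p W) {G : Type u} [Group G] [Finite G] (S : Sylow p G)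
    (h : (inducedFunctor W ((S : Subgroup G).map (QuotientGroup.mk' (pPrimeCore p G)))).Normal) :
    pPrimeCore p G ⊔ Subgroup.normalizer (inducedFunctor W (S : Subgroup G) : Set G) = ⊤ := by
  rw [iF_map hW _ S.2 (by
    rw [QuotientGroup.ker_mk']
    exact pgroup_inf_coprime_eq_bot S.2 pPrimeCore_coprime)] at h
  rw [eq_top_iff]
  intro g _
  obtain ⟨k, hk, hkg⟩ := exists_mem_normalizer_of_quot (N := pPrimeCore p G)
    (X := inducedFunctor W (S : Subgroup G)) pPrimeCore_coprime (S.2.to_le (iF_le _)) (g := g)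
    (by rw [Subgroup.normalizer_eq_top]; trivial)
  have h1 : g * k⁻¹ ∈ pPrimeCore p G := by
    rw [← QuotientGroup.eq_one_iff, ← QuotientGroup.mk'_apply, map_mul, map_inv, hkg,
      mul_inv_cancel]
  have h2 : g = (g * k⁻¹) * k := by group
  rw [h2]
  exact Subgroup.mul_mem_sup h1 hk

end Cfsg.Agent.Lib.Helper5
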