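import Cfsg.Agent.Lib.Helper5.SL2b
import Cfsg.Agent.Lib.Helper5.DK1

set_option autoImplicit false
set_option linter.style.haveILetI false

namespace Cfsg.Agent.Lib.Helper5

open MulAction OnePoint

local notation "SL2" => Matrix.SpecialLinearGroup (Fin 2)

variable {K : Type*} [Field K] [DecidableEq K]

/-- `SL₂(K)` acts on the projective line. -/
noncomputable instance sl2OnePoint : MulAction (SL2 K) (OnePoint K) :=
  MulAction.compHom _ (Matrix.SpecialLinearGroup.toGL (n := Fin 2) (R := K))

theorem act_inf (g : SL2 K) : g • (∞ : OnePoint K) =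
    if g.1 1 0 = 0 then ∞ else ((g.1 0 0 / g.1 1 0 : K) : OnePoint K) :=
  OnePoint.smul_infty_eq_ite (Matrix.SpecialLinearGroup.toGL g)

theorem act_coe (g : SL2 K) (c : K) : g • (c : OnePoint K) =
    if g.1 1 0 * c + g.1 1 1 = 0 then ∞ else
      (((g.1 0 0 * c + g.1 0 1) / (g.1 1 0 * c + g.1 1 1) : K) : OnePoint K) :=
  OnePoint.smul_some_eq_ite (g := Matrix.SpecialLinearGroup.toGL g)

theorem fix_inf (g : SL2 K) : g • (∞ : OnePoint K) = ∞ ↔ g.1 1 0 = 0 := by
  rw [act_inf]
  split_ifs with h
  · simp [h]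
  · simp [h]

theorem fix_coe (g : SL2 K) (c : K) : g • (c : OnePoint K) = c ↔
    g.1 1 0 * c * c + (g.1 1 1 - g.1 0 0) * c - g.1 0 1 = 0 := by
  have hd := det_eq g
  rw [act_coe]
  split_ifs with h
  · constructor
    · intro h1
      exact absurd h1 (OnePoint.infty_ne_coe _)
    · intro h1
      exfalso
      have h2 : g.1 0 0 * c + g.1 0 1 = 0 := by linear_combination c * h - h1
      have : (1 : K) = 0 := by
        linear_combination (-1 : K) * hd + g.1 0 0 * h - g.1 1 0 * h2
      exact one_ne_zero this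
  · rw [OnePoint.coe_eq_coe, div_eq_iff h]
    constructor
    · intro h1; linear_combination -h1
    · intro h1; linear_combination -h1

theorem fixedBy_par (h2 : (2 : K) ≠ 0) (g : SL2 K) (hs : ¬ IsSc g.1)
    (ht : (g.1 0 0 + g.1 1 1) ^ 2 = 4) : (fixedBy (OnePoint K) g).ncard = 1 := by
  have hd := det_eq g
  by_cases hc : g.1 1 0 = 0
  · have h1 : (g.1 0 0 - g.1 1 1) ^ 2 = 0 := by
      linear_combination ht - 4 * hd - 4 * g.1 0 1 * hc
    have h3 : g.1 0 0 = g.1 1 1 := sub_eq_zero.mp (pow_eq_zero_iff (two_ne_zero) |>.mp h1)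
    have h4 : g.1 0 1 ≠ 0 := fun h => hs ⟨h, hc, h3⟩
    have : fixedBy (OnePoint K) g = {∞} := by
      ext x
      rw [mem_fixedBy, Set.mem_singleton_iff]
      cases x with
      | infty => simp [fix_inf, hc]
      | coe c =>
        rw [fix_coe, hc, h3]
        simp [h4]
    rw [this, Set.ncard_singleton]
  · have : fixedBy (OnePoint K) g = {(((g.1 0 0 - g.1 1 1) / (2 * g.1 1 0) : K) : OnePoint K)} := by
      ext x
      rw [mem_fixedBy, Set.mem_singleton_iff]
      cases x with
      | infty => simp [fix_inf, hc]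
      | coe c =>
        rw [fix_coe, OnePoint.coe_eq_coe, eq_div_iff (mul_ne_zero h2 hc)]
        constructor
        · intro h
          have h5 : (2 * g.1 1 0 * c - (g.1 0 0 - g.1 1 1)) ^ 2 = 0 := by
            linear_combination 4 * g.1 1 0 * h + ht - 4 * hd
          have := sub_eq_zero.mp (pow_eq_zero_iff (two_ne_zero) |>.mp h5)
          linear_combination this
        · intro h
          have h5 : (4 * g.1 1 0) * (g.1 1 0 * c * c + (g.1 1 1 - g.1 0 0) * c - g.1 0 1) = 0 := by
            linear_combination (2 * g.1 1 0 * c - (g.1 0 0 - g.1 1 1)) * h - ht + 4 * hd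
          have h4 : (4 : K) ≠ 0 := by
            have : (4 : K) = 2 * 2 := by norm_num
            rw [this]; exact mul_ne_zero h2 h2
          exact (mul_eq_zero.mp h5).resolve_left (mul_ne_zero h4 hc)
    rw [this, Set.ncard_singleton]

theorem fixedBy_ss (h2 : (2 : K) ≠ 0) (g : SL2 K) (s : K)
    (hs : s * s = (g.1 0 0 + g.1 1 1) ^ 2 - 4) (hs0 : s ≠ 0) :
    (fixedBy (OnePoint K) g).ncard = 2 := by
  have hd := det_eq g
  by_cases hc : g.1 1 0 = 0
  · have h1 : (g.1 1 1 - g.1 0 0) ^ 2 = s * s := by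
      linear_combination - hs - 4 * hd - 4 * g.1 0 1 * hc
    have h3 : g.1 1 1 - g.1 0 0 ≠ 0 := by
      intro h
      rw [h] at h1
      have : s * s = 0 := by rw [← h1]; ring
      exact hs0 (mul_self_eq_zero.mp this)
    have : fixedBy (OnePoint K) g = {∞, ((g.1 0 1 / (g.1 1 1 - g.1 0 0) : K) : OnePoint K)} := by
      ext x
      rw [mem_fixedBy, Set.mem_insert_iff, Set.mem_singleton_iff]
      cases x with
      | infty => simp [fix_inf, hc]
      | coe c =>
        rw [fix_coe, hc, OnePoint.coe_eq_coe, eq_div_iff h3]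
        simp only [OnePoint.coe_ne_infty, false_or]
        constructor
        · intro h; linear_combination h
        · intro h; linear_combination h
    rw [this, Set.ncard_pair (OnePoint.infty_ne_coe _)]
  · have h20 : 2 * g.1 1 0 ≠ 0 := mul_ne_zero h2 hc
    have : fixedBy (OnePoint K) g = {(((g.1 0 0 - g.1 1 1 + s) / (2 * g.1 1 0) : K) : OnePoint K),
        (((g.1 0 0 - g.1 1 1 - s) / (2 * g.1 1 0) : K) : OnePoint K)} := by
      ext x
      rw [mem_fixedBy, Set.mem_insert_iff, Set.mem_singleton_iff]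
      cases x with
      | infty => simp [fix_inf, hc]
      | coe c =>
        rw [fix_coe, OnePoint.coe_eq_coe, OnePoint.coe_eq_coe, eq_div_iff h20, eq_div_iff h20]
        have h4 : (4 : K) ≠ 0 := by
          have : (4 : K) = 2 * 2 := by norm_num
          rw [this]; exact mul_ne_zero h2 h2
        have key : (4 * g.1 1 0) * (g.1 1 0 * c * c + (g.1 1 1 - g.1 0 0) * c - g.1 0 1) =
            (c * (2 * g.1 1 0) - (g.1 0 0 - g.1 1 1 + s)) *
              (c * (2 * g.1 1 0) - (g.1 0 0 - g.1 1 1 - s)) := by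
          linear_combination hs + 4 * hd
        constructor
        · intro h
          rw [h, mul_zero] at key
          rcases mul_eq_zero.mp key.symm with h5 | h5
          · exact Or.inl (sub_eq_zero.mp h5)
          · exact Or.inr (sub_eq_zero.mp h5)
        · intro h
          have : (4 * g.1 1 0) * (g.1 1 0 * c * c + (g.1 1 1 - g.1 0 0) * c - g.1 0 1) = 0 := by
            rw [key]
            rcases h with h | h
            · rw [h, sub_self, zero_mul]
            · rw [h, sub_self, mul_zero]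
          exact (mul_eq_zero.mp this).resolve_left (mul_ne_zero h4 hc)
    rw [this, Set.ncard_pair]
    intro h
    rw [OnePoint.coe_eq_coe, div_left_inj' h20] at h
    have : 2 * s = 0 := by linear_combination h
    exact hs0 ((mul_eq_zero.mp this).resolve_left h2)

theorem tU_act_coe (x c : K) : tU x • (c : OnePoint K) = ((c + x : K) : OnePoint K) := by
  rw [act_coe]
  simp [tU]

theorem tU_act_inf (x : K) : tU x • (∞ : OnePoint K) = ∞ := by
  rw [fix_inf]
  simp [tU]

theorem sL_act_inf (c : K) (hc : c ≠ 0) : sL c • (∞ : OnePoint K) = ((c⁻¹ : K) : OnePoint K) := by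
  rw [act_inf]
  simp [sL, hc]

theorem sL_act_zero (c : K) : sL c • ((0 : K) : OnePoint K) = ((0 : K) : OnePoint K) := by
  rw [fix_coe]
  simp [sL]

/-- the Weyl element -/
def wW : SL2 K := ⟨!![0, 1; -1, 0], by simp [Matrix.det_fin_two]⟩

theorem wW_act_zero : (wW : SL2 K) • ((0 : K) : OnePoint K) = ∞ := by
  rw [act_coe]
  simp [wW]

theorem exists_act_inf (x : OnePoint K) : ∃ g : SL2 K, g • x = ∞ := by
  cases x with
  | infty => exact ⟨1, one_smul _ _⟩
  | coe c =>
    refine ⟨wW * tU (-c), ?_⟩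
    rw [mul_smul, tU_act_coe, add_neg_cancel, wW_act_zero]

theorem two_trans (x y : OnePoint K) (hxy : x ≠ y) :
    ∃ g : SL2 K, g • x = ∞ ∧ g • y = ((0 : K) : OnePoint K) := by
  obtain ⟨g₁, hg₁⟩ := exists_act_inf x
  have h1 : g₁ • y ≠ ∞ := by
    intro h
    apply hxy
    rw [← hg₁] at h
    exact (MulAction.injective g₁ h).symm
  obtain ⟨c, hc⟩ := OnePoint.ne_infty_iff_exists.mp h1
  refine ⟨tU (-c) * g₁, ?_, ?_⟩
  · rw [mul_smul, hg₁, tU_act_inf]
  · rw [mul_smul, ← hc, tU_act_coe, add_neg_cancel]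

end Cfsg.Agent.Lib.Helper5
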