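import Cfsg.Agent.Lib.Helper5.DK2

set_option autoImplicit false
set_option linter.style.haveILetI false

namespace Cfsg.Agent.Lib.Helper5

open MulAction OnePoint

local notation "SL2" => Matrix.SpecialLinearGroup (Fin 2)

variable {K : Type*} [Field K] [DecidableEq K]

/-- the central involution -/
def negOne : SL2 K := ⟨!![-1, 0; 0, -1], by simp [Matrix.det_fin_two]⟩

theorem sc_iff (g : SL2 K) : IsSc g.1 ↔ g = 1 ∨ g = negOne := by
  have hd := det_eq g
  constructor
  · rintro ⟨h1, h2, h3⟩
    have h4 : (g.1 1 1 - 1) * (g.1 1 1 + 1) = 0 := by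
      rw [h1, h3] at hd
      linear_combination hd
    rcases mul_eq_zero.mp h4 with h5 | h5
    · left
      apply Subtype.ext
      apply ext2 <;> simp [h1, h2, h3, sub_eq_zero.mp h5]
    · right
      apply Subtype.ext
      apply ext2 <;> simp [negOne, h1, h2, h3, eq_neg_of_add_eq_zero_left h5]
  · rintro (rfl | rfl)
    · simp [IsSc]
    · simp [IsSc, negOne]

theorem negOne_mul_self : (negOne : SL2 K) * negOne = 1 := sc_sq _ ((sc_iff _).mpr (Or.inr rfl))

theorem negOne_ne_one (h2 : (2 : K) ≠ 0) : (negOne : SL2 K) ≠ 1 := by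
  intro h
  have := congrFun (congrFun (congrArg Subtype.val h) 0) 0
  simp [negOne] at this
  apply h2
  linear_combination -this

theorem sc_act (g : SL2 K) (hg : IsSc g.1) (x : OnePoint K) : g • x = x := by
  obtain ⟨h1, h2, h3⟩ := hg
  cases x with
  | infty => exact (fix_inf g).mpr h2
  | coe c => rw [fix_coe, h1, h2, h3]; ring

/-- the scalar subgroup of `H` -/
def scSub (H : Subgroup (SL2 K)) : Subgroup H where
  carrier := {h | IsSc h.1.1}
  one_mem' := by simp [IsSc]
  mul_mem' := by
    intro a b ha hb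
    rw [Set.mem_ofPred_eq, sc_iff] at ha hb ⊢
    rcases ha with ha | ha <;> rcases hb with hb | hb <;>
      simp [ha, hb, negOne_mul_self]
  inv_mem' := by
    intro a ha
    rw [Set.mem_ofPred_eq, sc_iff] at ha ⊢
    rcases ha with ha | ha
    · left; simp [ha]
    · right
      rw [Subgroup.coe_inv, ha]
      exact inv_eq_of_mul_eq_one_left negOne_mul_self

theorem mem_scSub (H : Subgroup (SL2 K)) (h : H) : h ∈ scSub H ↔ IsSc h.1.1 := Iff.rfl

instance scSub_normal (H : Subgroup (SL2 K)) : (scSub H).Normal := by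
  constructor
  intro n hn g
  have : g * n * g⁻¹ = n := by
    apply Subtype.ext
    have := sc_comm n.1 g.1 hn
    show g.1 * n.1 * g.1⁻¹ = n.1
    rw [this]; group
  rw [this]; exact hn

theorem card_scSub (h2 : (2 : K) ≠ 0) (H : Subgroup (SL2 K)) (hneg : negOne ∈ H) :
    Nat.card (scSub H) = 2 := by
  have : ((scSub H : Subgroup H) : Set H) = {1, ⟨negOne, hneg⟩} := by
    ext h
    rw [SetLike.mem_coe, mem_scSub, sc_iff, Set.mem_insert_iff, Set.mem_singleton_iff,
      Subtype.ext_iff, Subtype.ext_iff]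
    rfl
  rw [← SetLike.coe_sort_coe, Nat.card_coe_set_eq, this, Set.ncard_pair]
  intro h
  exact negOne_ne_one h2 (congrArg Subtype.val h).symm

/-- the translations in `H` -/
def trM (H : Subgroup (SL2 K)) : AddSubgroup K where
  carrier := {x | tU x ∈ H}
  zero_mem' := by
    show tU 0 ∈ H
    rw [tU_zero]; exact H.one_mem
  add_mem' := by
    intro a b ha hb
    show tU (a + b) ∈ H
    rw [← tU_mul]; exact H.mul_mem ha hb
  neg_mem' := by
    intro a ha
    show tU (-a) ∈ H
    have : tU (-a) = (tU a)⁻¹ := by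
      apply eq_inv_of_mul_eq_one_left
      rw [tU_mul, neg_add_cancel, tU_zero]
    rw [this]; exact H.inv_mem ha

theorem mem_trM (H : Subgroup (SL2 K)) (x : K) : x ∈ trM H ↔ tU x ∈ H := Iff.rfl

theorem tU_injective : Function.Injective (tU : K → SL2 K) := by
  intro a b h
  have := congrFun (congrFun (congrArg Subtype.val h) 0) 1
  simpa [tU] using this

instance trM_finite (H : Subgroup (SL2 K)) [Finite H] : Finite (trM H) :=
  Finite.of_injective (fun x : trM H => (⟨tU x.1, x.2⟩ : H)) (by
    intro a b h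
    exact Subtype.ext (tU_injective (congrArg Subtype.val h)))

/-- upper triangular with diagonal `1` -/
theorem eq_tU_of (g : SL2 K) (h10 : g.1 1 0 = 0) (h00 : g.1 0 0 = 1) : g = tU (g.1 0 1) := by
  have hd := det_eq g
  rw [h10, h00] at hd
  apply Subtype.ext
  apply ext2 <;> simp [tU, h10, h00]
  linear_combination hd

theorem eq_neg_tU_of (g : SL2 K) (h10 : g.1 1 0 = 0) (h00 : g.1 0 0 = -1) :
    g = negOne * tU (-g.1 0 1) := by
  have hd := det_eq g
  rw [h10, h00] at hd
  apply Subtype.ext
  rw [Matrix.SpecialLinearGroup.coe_mul]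
  apply ext2 <;> simp [tU, negOne, h10, h00, Matrix.mul_apply, Fin.sum_univ_two]
  linear_combination -hd

/-- the elements `± tU x` of `H` -/
def vSet (H : Subgroup (SL2 K)) : Set H := {h | h.1.1 1 0 = 0 ∧ h.1.1 0 0 ^ 2 = 1}

theorem negOne_mul_tU_entries (x : K) : (negOne * tU x : SL2 K).1 0 0 = -1 ∧
    (negOne * tU x : SL2 K).1 0 1 = -x ∧ (negOne * tU x : SL2 K).1 1 0 = 0 ∧
    (negOne * tU x : SL2 K).1 1 1 = -1 := by
  rw [Matrix.SpecialLinearGroup.coe_mul]
  simp [tU, negOne, Matrix.mul_apply, Fin.sum_univ_two]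

theorem ncard_vSet (h2 : (2 : K) ≠ 0) (H : Subgroup (SL2 K)) [Finite H] (hneg : negOne ∈ H) :
    (vSet H).ncard = 2 * Nat.card (trM H) := by
  have e : vSet H = Set.range (fun x : trM H => (⟨tU x.1, x.2⟩ : H)) ∪
      Set.range (fun x : trM H => (⟨negOne * tU x.1, H.mul_mem hneg x.2⟩ : H)) := by
    ext h
    constructor
    · rintro ⟨h10, h00⟩
      have h3 : (h.1.1 0 0 - 1) * (h.1.1 0 0 + 1) = 0 := by linear_combination h00
      rcases mul_eq_zero.mp h3 with h4 | h4
      · left
        have h5 := eq_tU_of h.1 h10 (sub_eq_zero.mp h4)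
        exact ⟨⟨h.1.1 0 1, by rw [mem_trM, ← h5]; exact h.2⟩, Subtype.ext h5.symm⟩
      · right
        have h5 := eq_neg_tU_of h.1 h10 (eq_neg_of_add_eq_zero_left h4)
        refine ⟨⟨-h.1.1 0 1, ?_⟩, Subtype.ext h5.symm⟩
        rw [mem_trM]
        have : tU (-h.1.1 0 1) = negOne * h.1 := by
          conv_rhs => rw [h5]
          rw [← mul_assoc, negOne_mul_self, one_mul]
        rw [this]; exact H.mul_mem hneg h.2
    · rintro (⟨x, rfl⟩ | ⟨x, rfl⟩)
      · simp [vSet, tU]
      · obtain ⟨a1, -, a3, -⟩ := negOne_mul_tU_entries x.1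
        exact ⟨a3, by rw [a1]; ring⟩
  rw [e, Set.ncard_union_eq, Set.ncard_range_of_injective, Set.ncard_range_of_injective]
  · ring
  · intro a b h
    have := congrArg Subtype.val h
    exact Subtype.ext (tU_injective (mul_left_cancel this))
  · intro a b h
    exact Subtype.ext (tU_injective (congrArg Subtype.val h))
  · rw [Set.disjoint_left]
    rintro _ ⟨x, rfl⟩ ⟨y, hy⟩
    have h3 := congrArg (fun t : H => t.1.1 0 0) hy
    simp only [(negOne_mul_tU_entries y.1).1] at h3
    simp [tU] at h3
    apply h2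
    linear_combination -h3

theorem stab_entry (H : Subgroup (SL2 K)) (b : stabilizer H (∞ : OnePoint K)) :
    b.1.1.1 1 0 = 0 := (fix_inf b.1.1).mp b.2

theorem stab_diag (H : Subgroup (SL2 K)) (b : stabilizer H (∞ : OnePoint K)) :
    b.1.1.1 0 0 * b.1.1.1 1 1 = 1 := by
  have hd := det_eq b.1.1
  rw [stab_entry H b] at hd
  linear_combination hd

/-- the diagonal character on the stabilizer of `∞` -/
noncomputable def chiB (H : Subgroup (SL2 K)) : stabilizer H (∞ : OnePoint K) →* Kˣ where
  toFun b := ⟨b.1.1.1 0 0, b.1.1.1 1 1, stab_diag H b, by rw [mul_comm]; exact stab_diag H b⟩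
  map_one' := Units.ext (by simp)
  map_mul' := by
    intro a b
    apply Units.ext
    show (a.1.1 * b.1.1 : SL2 K).1 0 0 = a.1.1.1 0 0 * b.1.1.1 0 0
    rw [Matrix.SpecialLinearGroup.coe_mul, (mul_entries _ _).1, stab_entry H b, mul_zero, add_zero]

theorem chiB_val (H : Subgroup (SL2 K)) (b : stabilizer H (∞ : OnePoint K)) :
    ((chiB H b : Kˣ) : K) = b.1.1.1 0 0 := rfl

/-- the square of the diagonal character -/
noncomputable def chi2 (H : Subgroup (SL2 K)) : stabilizer H (∞ : OnePoint K) →* Kˣ :=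
  (powMonoidHom 2).comp (chiB H)

theorem chi2_val (H : Subgroup (SL2 K)) (b : stabilizer H (∞ : OnePoint K)) :
    ((chi2 H b : Kˣ) : K) = b.1.1.1 0 0 ^ 2 := rfl

theorem card_ker_chi2 (h2 : (2 : K) ≠ 0) (H : Subgroup (SL2 K)) [Finite H] (hneg : negOne ∈ H) :
    Nat.card (chi2 H).ker = 2 * Nat.card (trM H) := by
  rw [← ncard_vSet h2 H hneg, ← SetLike.coe_sort_coe, Nat.card_coe_set_eq,
    ← Set.ncard_image_of_injective _ Subtype.val_injective]
  congr 1
  ext h
  constructor
  · rintro ⟨b, hb, rfl⟩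
    refine ⟨stab_entry H b, ?_⟩
    have := congrArg Units.val (MonoidHom.mem_ker.mp hb)
    rwa [chi2_val] at this
  · rintro ⟨h10, h00⟩
    refine ⟨⟨h, (fix_inf h.1).mpr h10⟩, ?_, rfl⟩
    apply MonoidHom.mem_ker.mpr
    apply Units.ext
    rw [chi2_val]
    exact h00

theorem conj_tU (g : SL2 K) (h10 : g.1 1 0 = 0) (x : K) :
    g * tU x * g⁻¹ = tU (g.1 0 0 ^ 2 * x) := by
  have hd := det_eq g
  rw [h10] at hd
  rw [mul_inv_eq_iff_eq_mul]
  apply Subtype.ext
  rw [Matrix.SpecialLinearGroup.coe_mul, Matrix.SpecialLinearGroup.coe_mul]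
  apply ext2 <;> simp [tU, Matrix.mul_apply, Fin.sum_univ_two, h10]
  linear_combination (- g.1 0 0 * x) * hd

theorem card_range_chi2_le (H : Subgroup (SL2 K)) [Finite H] (l : K) (hl : l ≠ 0) (hlH : tU l ∈ H) :
    Nat.card (chi2 H).range + 1 ≤ Nat.card (trM H) := by
  have hinj : Function.Injective (fun o : Option (chi2 H).range =>
      (o.elim (0 : trM H) (fun a => ⟨(a.1 : K) * l, by
        obtain ⟨b, hb⟩ := a.2
        rw [mem_trM, ← hb, chi2_val, ← conj_tU _ (stab_entry H b)]
        exact H.mul_mem (H.mul_mem b.1.2 hlH) (H.inv_mem b.1.2)⟩) : trM H)) := by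
    intro o₁ o₂ h
    cases o₁ with
    | none =>
      cases o₂ with
      | none => rfl
      | some a =>
        exfalso
        have := congrArg Subtype.val h
        simp only [Option.elim] at this
        exact (mul_ne_zero a.1.ne_zero hl) this.symm
    | some a =>
      cases o₂ with
      | none =>
        exfalso
        have := congrArg Subtype.val h
        simp only [Option.elim] at this
        exact (mul_ne_zero a.1.ne_zero hl) this
      | some a' =>
        have := congrArg Subtype.val h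
        simp only [Option.elim] at this
        have h3 := mul_right_cancel₀ hl this
        exact congrArg Option.some (Subtype.ext (Units.ext h3))
  haveI : Finite (chi2 H).range := Finite.of_surjective _ (chi2 H).rangeRestrict_surjective
  have := Nat.card_le_card_of_injective _ hinj
  rwa [Finite.card_option] at this

theorem card_stab (h2 : (2 : K) ≠ 0) (H : Subgroup (SL2 K)) [Finite H] (hneg : negOne ∈ H) :
    Nat.card (stabilizer H (∞ : OnePoint K)) =
      2 * Nat.card (trM H) * Nat.card (chi2 H).range := by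
  rw [← card_ker_chi2 h2 H hneg, ← Subgroup.index_ker]
  exact (Subgroup.card_mul_index _).symm

end Cfsg.Agent.Lib.Helper5
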