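import Cfsg.Agent.Lib.Helper5.DK3

set_option autoImplicit false
set_option linter.style.haveILetI false
set_option linter.unusedSectionVars false

namespace Cfsg.Agent.Lib.Helper5

open MulAction OnePoint

local notation "SL2" => Matrix.SpecialLinearGroup (Fin 2)

variable {K : Type*} [Field K] [DecidableEq K]

theorem dvd_ncard_of_closed (M : AddSubgroup K) [Finite M] : ∀ (m : ℕ) (S : Set K), S.Finite →
    S.ncard = m → (∀ c ∈ S, ∀ x ∈ M, c + x ∈ S) → Nat.card M ∣ m := by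
  intro m
  induction m using Nat.strong_induction_on with
  | _ m IH =>
    intro S hSf hSm hcl
    by_cases hS : S = ∅
    · rw [hS, Set.ncard_empty] at hSm
      rw [← hSm]; exact dvd_zero _
    obtain ⟨c, hc⟩ := Set.nonempty_iff_ne_empty.mpr hS
    have hCn : (Set.range (fun x : M => c + x.1)).ncard = Nat.card M :=
      Set.ncard_range_of_injective (fun a b h => Subtype.ext (add_left_cancel h))
    have hCS : Set.range (fun x : M => c + x.1) ⊆ S := by
      rintro _ ⟨x, rfl⟩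
      exact hcl c hc x.1 x.2
    have h1 := Set.ncard_diff hCS
    have h2 := Set.ncard_le_ncard hCS hSf
    have hpos : 0 < Nat.card M := Nat.card_pos
    rw [hCn, hSm] at h1 h2
    have h3 := IH (m - Nat.card M) (by omega) (S \ Set.range (fun x : M => c + x.1))
      (hSf.subset Set.diff_subset) h1 (by
        intro c' hc' x hx
        refine ⟨hcl c' hc'.1 x hx, ?_⟩
        rintro ⟨y, hy⟩
        apply hc'.2
        refine ⟨y - ⟨x, hx⟩, ?_⟩
        have hy' : c + y.1 = c' + x := hy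
        show c + (y.1 - x) = c'
        linear_combination hy')
    have : m = (m - Nat.card M) + Nat.card M := by omega
    rw [this]
    exact dvd_add h3 dvd_rfl

theorem dk_arith (r k d s : ℕ) (hr : 1 ≤ r) (hk : 1 ≤ k) (hd : 1 ≤ d) (hdr : d ≤ r + 1)
    (h : s * (1 + k * r) = (1 + k * (r + 2)) * d) :
    k = 1 ∨ (k = 3 ∧ r = 1 ∧ d = 2 ∧ s = 5) := by
  have hcop : Nat.Coprime (1 + k * r) k := by
    rw [Nat.coprime_add_mul_left_left]
    exact Nat.coprime_one_left _
  have h1 : (1 + k * r) ∣ k * (2 * d) := by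
    have : (1 + k * (r + 2)) * d = (1 + k * r) * d + k * (2 * d) := by ring
    rw [this] at h
    have h2 : (1 + k * r) ∣ (1 + k * r) * d + k * (2 * d) := h ▸ Dvd.intro_left s rfl
    exact (Nat.dvd_add_right (Dvd.intro d rfl)).mp h2
  have h2 : (1 + k * r) ∣ 2 * d := hcop.dvd_of_dvd_mul_left h1
  have h3 : 1 + k * r ≤ 2 * d := Nat.le_of_dvd (by omega) h2
  have h4 : k * r ≤ 2 * r + 1 := by omega
  by_cases hk1 : k = 1
  · exact Or.inl hk1
  right
  by_cases hk2 : k = 2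
  · exfalso
    subst hk2
    have hc2 : Nat.Coprime (1 + 2 * r) 2 := by
      rw [Nat.coprime_add_mul_left_left]
      exact Nat.coprime_one_left _
    have h5 : (1 + 2 * r) ∣ d := hc2.dvd_of_dvd_mul_left h2
    have := Nat.le_of_dvd (by omega) h5
    omega
  have hk3 : 3 ≤ k := by omega
  have hr1 : r = 1 := by
    by_contra hne
    have : 2 ≤ r := by omega
    nlinarith
  subst hr1
  have hk3' : k = 3 := by omega
  subst hk3'
  obtain ⟨e, he⟩ := h2
  have hd2 : d = 2 := by omega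
  subst hd2
  refine ⟨rfl, rfl, rfl, ?_⟩
  omega

theorem pow_char_of_trace_two {p : ℕ} [Fact p.Prime] [CharP K p] (u : SL2 K)
    (h : u.1 0 0 + u.1 1 1 = 2) : u ^ p = 1 := by
  have hp2 : 2 ≤ p := (Fact.out : p.Prime).two_le
  have hc := cayley u
  have hpow : ∀ N : Matrix (Fin 2) (Fin 2) K, N * N = 0 → N ^ p = 0 := by
    intro N hN
    obtain ⟨k, rfl⟩ := Nat.exists_eq_add_of_le hp2
    rw [pow_add, pow_two, hN, zero_mul]
  apply Subtype.ext
  rw [Matrix.SpecialLinearGroup.coe_pow, Matrix.SpecialLinearGroup.coe_one]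
  have hN : ((u : Matrix (Fin 2) (Fin 2) K) - 1) * ((u : Matrix (Fin 2) (Fin 2) K) - 1) = 0 := by
    rw [sub_mul, mul_sub, hc, h, two_smul]
    simp only [mul_one, one_mul]
    abel
  have := hpow _ hN
  rwa [sub_pow_char_of_commute _ (Commute.one_right _), one_pow, sub_eq_zero] at this

theorem negOne_mul_entry (g : SL2 K) (i j : Fin 2) : (negOne * g : SL2 K).1 i j = - g.1 i j := by
  rw [Matrix.SpecialLinearGroup.coe_mul]
  fin_cases i <;> fin_cases j <;> simp [negOne, Matrix.mul_apply, Fin.sum_univ_two]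

theorem tU_fix_only (l : K) (hl : l ≠ 0) (x : OnePoint K) (h : tU l • x = x) : x = ∞ := by
  cases x with
  | infty => rfl
  | coe c =>
    exfalso
    rw [tU_act_coe, OnePoint.coe_eq_coe] at h
    exact hl (by linear_combination h)

theorem ncard_fixedBy (h2 : (2 : K) ≠ 0) (hK : ∀ t : K, ∃ x : K, x * x - t * x + 1 = 0)
    (g : SL2 K) (hs : ¬ IsSc g.1) :
    ((g.1 0 0 + g.1 1 1) ^ 2 = 4 ∧ (fixedBy (OnePoint K) g).ncard = 1) ∨
      ((g.1 0 0 + g.1 1 1) ^ 2 ≠ 4 ∧ (fixedBy (OnePoint K) g).ncard = 2) := by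
  by_cases ht : (g.1 0 0 + g.1 1 1) ^ 2 = 4
  · exact Or.inl ⟨ht, fixedBy_par h2 g hs ht⟩
  · right
    refine ⟨ht, ?_⟩
    obtain ⟨x, hx⟩ := hK (g.1 0 0 + g.1 1 1)
    apply fixedBy_ss h2 g (2 * x - (g.1 0 0 + g.1 1 1))
    · linear_combination 4 * hx
    · intro h0
      apply ht
      have : (2 * x - (g.1 0 0 + g.1 1 1)) * (2 * x - (g.1 0 0 + g.1 1 1)) =
          (g.1 0 0 + g.1 1 1) ^ 2 - 4 := by linear_combination 4 * hx
      rw [h0, mul_zero] at this
      linear_combination -this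

theorem par_orbit {p : ℕ} [Fact p.Prime] [CharP K p] (hp2 : p ≠ 2)
    (H : Subgroup (SL2 K)) [Finite H] (hneg : negOne ∈ H) (l : K) (hl : l ≠ 0) (hlH : tU l ∈ H)
    (h : H) (hs : ¬ IsSc h.1.1) (ht : (h.1.1 0 0 + h.1.1 1 1) ^ 2 = 4) (x : OnePoint K)
    (hx : h • x = x) : x ∈ orbit H (∞ : OnePoint K) := by
  have h2 : (2 : K) ≠ 0 := two_ne_zero_of_char hp2
  -- a unipotent element
  obtain ⟨u, huH, hu2, hux, hus⟩ : ∃ u : SL2 K, u ∈ H ∧ u.1 0 0 + u.1 1 1 = 2 ∧ u • x = x ∧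
      ¬ IsSc u.1 := by
    have h3 : (h.1.1 0 0 + h.1.1 1 1 - 2) * (h.1.1 0 0 + h.1.1 1 1 + 2) = 0 := by
      linear_combination ht
    rcases mul_eq_zero.mp h3 with h4 | h4
    · exact ⟨h.1, h.2, by linear_combination h4, hx, hs⟩
    · refine ⟨negOne * h.1, H.mul_mem hneg h.2, ?_, ?_, ?_⟩
      · rw [negOne_mul_entry, negOne_mul_entry]; linear_combination -h4
      · rw [mul_smul]
        have : h.1 • x = x := hx
        rw [this]
        exact sc_act _ ((sc_iff _).mpr (Or.inr rfl)) x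
      · rintro ⟨a1, a2, a3⟩
        rw [negOne_mul_entry] at a1 a2
        rw [negOne_mul_entry, negOne_mul_entry] at a3
        exact hs ⟨neg_eq_zero.mp a1, neg_eq_zero.mp a2, neg_injective a3⟩
  have hup : u ^ p = 1 := pow_char_of_trace_two u hu2
  obtain ⟨S₂, hS₂⟩ := (isPGroup_zpowers_of_pow (q := p) (⟨u, huH⟩ : H) 1
    (by rw [pow_one]; exact Subtype.ext hup)).exists_le_sylow
  obtain ⟨S₁, hS₁⟩ := (isPGroup_zpowers_of_pow (q := p) (⟨tU l, hlH⟩ : H) 1
    (by rw [pow_one]; exact Subtype.ext (tU_pow_char l))).exists_le_sylow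
  obtain ⟨g, hg⟩ := MulAction.exists_smul_eq H S₂ S₁
  have hm1 : g * ⟨u, huH⟩ * g⁻¹ ∈ (S₁ : Subgroup H) := by
    rw [← hg]
    exact ⟨⟨u, huH⟩, hS₂ (Subgroup.mem_zpowers _), rfl⟩
  have hm2 : (⟨tU l, hlH⟩ : H) ∈ (S₁ : Subgroup H) := hS₁ (Subgroup.mem_zpowers _)
  have hodd : Odd (Nat.card ((S₁ : Subgroup H).map H.subtype)) := by
    rw [Subgroup.card_map_of_injective H.subtype_injective]
    obtain ⟨k, hk⟩ := IsPGroup.iff_card.mp S₁.2
    rw [hk]
    exact Odd.pow ((Fact.out : p.Prime).odd_of_ne_two hp2)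
  haveI : Finite ((S₁ : Subgroup H).map H.subtype) :=
    Finite.of_injective (fun t => (⟨t.1, Subgroup.map_subtype_le _ t.2⟩ : H))
      (fun a b hab => Subtype.ext (congrArg (fun t : H => t.1) hab))
  have hcomm := pelts_comm_of_odd (p := p) hp2 _ ((S₁ : Subgroup H).map H.subtype) rfl hodd
    (g.1 * u * g.1⁻¹) ⟨_, hm1, rfl⟩ (tU l) ⟨_, hm2, rfl⟩
    ⟨1, by rw [pow_one, conj_pow, hup]; group⟩ ⟨1, by rw [pow_one]; exact tU_pow_char l⟩
  have h5 : (g.1 * u * g.1⁻¹) • (∞ : OnePoint K) = ∞ := by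
    apply tU_fix_only l hl
    rw [← mul_smul, ← hcomm, mul_smul, tU_act_inf]
  have h6 : u • (g.1⁻¹ • (∞ : OnePoint K)) = g.1⁻¹ • (∞ : OnePoint K) := by
    rw [mul_smul, mul_smul] at h5
    exact (smul_eq_iff_eq_inv_smul g.1).mp h5
  have h7 := fixedBy_par h2 u hus (by rw [hu2]; norm_num)
  obtain ⟨a, ha⟩ := Set.ncard_eq_one.mp h7
  have e1 : x = a := by
    have : x ∈ fixedBy (OnePoint K) u := hux
    rwa [ha] at this
  have e2 : g.1⁻¹ • (∞ : OnePoint K) = a := by
    have : g.1⁻¹ • (∞ : OnePoint K) ∈ fixedBy (OnePoint K) u := h6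
    rwa [ha] at this
  exact ⟨g⁻¹, by rw [e1, ← e2]; rfl⟩

theorem par_count (h2 : (2 : K) ≠ 0) (hK : ∀ t : K, ∃ x : K, x * x - t * x + 1 = 0)
    (H : Subgroup (SL2 K)) [Finite H] (hneg : negOne ∈ H) :
    {h : H | h ∉ scSub H ∧ (fixedBy (OnePoint K) h).ncard = 1 ∧
      h • (∞ : OnePoint K) = ∞}.ncard + Nat.card (scSub H) =
      Nat.card (scSub H) * Nat.card (trM H) := by
  have e : {h : H | h ∉ scSub H ∧ (fixedBy (OnePoint K) h).ncard = 1 ∧
      h • (∞ : OnePoint K) = ∞} ∪ ((scSub H : Subgroup H) : Set H) = vSet H := by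
    ext h
    have hd := det_eq h.1
    constructor
    · rintro (⟨a1, a2, a3⟩ | a1)
      · have h10 : h.1.1 1 0 = 0 := (fix_inf h.1).mp a3
        refine ⟨h10, ?_⟩
        rcases ncard_fixedBy h2 hK h.1 a1 with ⟨b1, -⟩ | ⟨-, b2⟩
        · rw [h10] at hd
          have h3 : (h.1.1 0 0 - h.1.1 1 1) ^ 2 = 0 := by linear_combination b1 - 4 * hd
          have h4 : h.1.1 0 0 = h.1.1 1 1 := sub_eq_zero.mp (pow_eq_zero_iff two_ne_zero |>.mp h3)
          rw [← h4] at hd
          linear_combination hd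
        · exfalso
          have : (fixedBy (OnePoint K) h).ncard = 2 := b2
          omega
      · obtain ⟨b1, b2, b3⟩ := a1
        refine ⟨b2, ?_⟩
        rw [b1, ← b3] at hd
        linear_combination hd
    · rintro ⟨h10, h00⟩
      by_cases hs : IsSc h.1.1
      · exact Or.inr hs
      · left
        refine ⟨hs, ?_, (fix_inf h.1).mpr h10⟩
        apply fixedBy_par h2 h.1 hs
        rw [h10] at hd
        have h4 : h.1.1 1 1 = h.1.1 0 0 := by
          linear_combination h.1.1 0 0 * hd - h.1.1 1 1 * h00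
        rw [h4]
        linear_combination 4 * h00
  have hdisj : Disjoint {h : H | h ∉ scSub H ∧ (fixedBy (OnePoint K) h).ncard = 1 ∧
      h • (∞ : OnePoint K) = ∞} ((scSub H : Subgroup H) : Set H) := by
    rw [Set.disjoint_left]
    rintro h ⟨a1, -⟩ a2
    exact a1 a2
  have h3 := Set.ncard_union_eq hdisj
  rw [e, ncard_vSet h2 H hneg] at h3
  have h4 : ((scSub H : Subgroup H) : Set H).ncard = Nat.card (scSub H) := by
    rw [← Nat.card_coe_set_eq]
    rfl
  rw [h4] at h3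
  rw [← h3, card_scSub h2 H hneg]

end Cfsg.Agent.Lib.Helper5
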