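import Cfsg.Agent.Lib.Helper5.DK4

set_option autoImplicit false
set_option linter.style.haveILetI false
set_option linter.unusedSectionVars false

namespace Cfsg.Agent.Lib.Helper5

open MulAction OnePoint

local notation "SL2" => Matrix.SpecialLinearGroup (Fin 2)

variable {K : Type*} [Field K] [DecidableEq K]

theorem trace_of_stab (H : Subgroup (SL2 K)) (b : stabilizer H (∞ : OnePoint K))
    (hd2 : Nat.card (chi2 H).range = 2) :
    (b.1.1.1 0 0 + b.1.1.1 1 1) ^ 2 = 4 ∨ b.1.1.1 0 0 + b.1.1.1 1 1 = 0 := by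
  have h3 := pow_card_eq_one' (x := (⟨chi2 H b, ⟨_, rfl⟩⟩ : (chi2 H).range))
  rw [hd2] at h3
  have h4 : ((chi2 H b : Kˣ) : K) ^ 2 = 1 := by
    have := congrArg (fun t : (chi2 H).range => ((t.1 : Kˣ) : K)) h3
    simpa using this
  rw [chi2_val] at h4
  have h5 := stab_diag H b
  obtain ⟨α, hα⟩ : ∃ α, α = b.1.1.1 0 0 := ⟨_, rfl⟩
  obtain ⟨β, hβ⟩ : ∃ β, β = b.1.1.1 1 1 := ⟨_, rfl⟩
  rw [← hα] at h4 h5 ⊢
  rw [← hβ] at h5 ⊢
  have h7 : (α ^ 2 - 1) * (α ^ 2 + 1) = 0 := by linear_combination h4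
  rcases mul_eq_zero.mp h7 with h8 | h8
  · left
    have : β = α := by linear_combination α * h5 - β * h8
    rw [this]; linear_combination 4 * h8
  · right
    have : β = -α := by linear_combination (-α) * h5 + β * h8
    rw [this]; ring

theorem dk_exc (h2 : (2 : K) ≠ 0) (hK : ∀ t : K, ∃ x : K, x * x - t * x + 1 = 0)
    (H : Subgroup (SL2 K)) [Finite H] (x₀ : OnePoint K)
    (hd2 : Nat.card (chi2 H).range = 2) (hs : Nat.card (stabilizer H x₀) = 2 * 5)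
    (hall : ∀ h : H, h ∉ scSub H → ∀ x : OnePoint K, h • x = x →
      x ∈ orbit H (∞ : OnePoint K) ∨ x ∈ orbit H x₀) :
    ∀ h ∈ H, ¬ IsSc h.1 →
      (h.1 0 0 + h.1 1 1) ^ 2 = 4 ∨ h.1 0 0 + h.1 1 1 = 0 ∨ h ^ 10 = 1 := by
  intro h hh hsc
  have hne : (fixedBy (OnePoint K) h).Nonempty := by
    rw [← Set.ncard_pos (Set.finite_of_ncard_ne_zero (by
      rcases ncard_fixedBy h2 hK h hsc with a | a <;> omega))]
    rcases ncard_fixedBy h2 hK h hsc with a | a <;> omega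
  obtain ⟨x, hx⟩ := hne
  rcases hall ⟨h, hh⟩ hsc x hx with hxo | hxo
  · obtain ⟨g, hg⟩ := hxo
    have hg' : g • (∞ : OnePoint K) = x := hg
    obtain ⟨b, hbdef⟩ : ∃ b : H, b = g⁻¹ * ⟨h, hh⟩ * g := ⟨_, rfl⟩
    have hb : b ∈ stabilizer H (∞ : OnePoint K) := by
      rw [hbdef, mem_stabilizer_iff, mul_smul, mul_smul, hg']
      have : (⟨h, hh⟩ : H) • x = x := hx
      rw [this, ← hg', inv_smul_smul]
    have h3 : (b.1.1 0 0 + b.1.1 1 1) ^ 2 = 4 ∨ b.1.1 0 0 + b.1.1 1 1 = 0 :=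
      trace_of_stab H ⟨b, hb⟩ hd2
    have h6 := trace_conj g.1⁻¹ h
    rw [inv_inv] at h6
    have e : b.1 = g.1⁻¹ * h * g.1 := by rw [hbdef]; rfl
    rw [e, h6] at h3
    rcases h3 with h3 | h3
    · exact Or.inl h3
    · exact Or.inr (Or.inl h3)
  · right; right
    have h3 := dk_card_stab_orbit x₀ x hxo
    rw [hs] at h3
    have h4 := pow_card_eq_one' (x := (⟨⟨h, hh⟩, hx⟩ : stabilizer H x))
    rw [h3] at h4
    exact congrArg (fun t : stabilizer H x => (t.1.1 : SL2 K)) h4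

set_option maxHeartbeats 1000000 in
theorem dk_main {p : ℕ} [Fact p.Prime] [CharP K p] (hp2 : p ≠ 2)
    (hK : ∀ t : K, ∃ x : K, x * x - t * x + 1 = 0)
    (H : Subgroup (SL2 K)) [Finite H] (hneg : negOne ∈ H) (l c : K) (hl : l ≠ 0) (hc : c ≠ 0)
    (hlH : tU l ∈ H) (hcH : sL c ∈ H) :
    tU c⁻¹ ∈ H ∨ (p = 3 ∧ ∀ h ∈ H, ¬ IsSc h.1 →
      (h.1 0 0 + h.1 1 1) ^ 2 = 4 ∨ h.1 0 0 + h.1 1 1 = 0 ∨ h ^ 10 = 1) := by
  have h2 : (2 : K) ≠ 0 := two_ne_zero_of_char hp2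
  obtain ⟨q, hq⟩ : ∃ q, q = Nat.card (trM H) := ⟨_, rfl⟩
  obtain ⟨d, hd⟩ : ∃ d, d = Nat.card (chi2 H).range := ⟨_, rfl⟩
  obtain ⟨n, hn⟩ : ∃ n, n = (orbit H (∞ : OnePoint K)).ncard := ⟨_, rfl⟩
  haveI : Finite (chi2 H).range := Finite.of_surjective _ (chi2 H).rangeRestrict_surjective
  have hd1 : 1 ≤ d := hd ▸ Nat.card_pos
  have hdq : d + 1 ≤ q := by rw [hd, hq]; exact card_range_chi2_le H l hl hlH
  have hpq : p ∣ q := by
    have h3 : addOrderOf (⟨l, hlH⟩ : trM H) = p := by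
      apply addOrderOf_eq_prime
      · apply Subtype.ext
        simp [CharP.cast_eq_zero]
      · intro h
        exact hl (congrArg Subtype.val h)
    rw [← h3, hq]
    exact addOrderOf_dvd_natCard _
  have hp3 : 3 ≤ p := by
    have := (Fact.out : p.Prime).two_le
    omega
  have hq3 : 3 ≤ q := hp3.trans (Nat.le_of_dvd (by omega) hpq)
  have hstab : Nat.card (stabilizer H (∞ : OnePoint K)) = 2 * q * d := by
    rw [hq, hd]; exact card_stab h2 H hneg
  have hZ2 := card_scSub h2 H hneg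
  -- the finite part of the orbit
  obtain ⟨Ωf, hΩf⟩ : ∃ Ωf : Set K, Ωf = {c : K | (c : OnePoint K) ∈ orbit H (∞ : OnePoint K)} :=
    ⟨_, rfl⟩
  have hmΩ : ∀ c : K, c ∈ Ωf ↔ (c : OnePoint K) ∈ orbit H (∞ : OnePoint K) := by
    intro c; rw [hΩf]; rfl
  have horbfin : (orbit H (∞ : OnePoint K)).Finite := Set.finite_range _
  have hΩfin : Ωf.Finite := by
    have : Ωf = (fun c : K => (c : OnePoint K)) ⁻¹' (orbit H (∞ : OnePoint K)) := by
      rw [hΩf]; rfl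
    rw [this]
    exact horbfin.preimage (OnePoint.coe_injective.injOn)
  have horb : orbit H (∞ : OnePoint K) = insert ∞ ((fun c : K => (c : OnePoint K)) '' Ωf) := by
    ext x
    cases x with
    | infty => simp [mem_orbit_self]
    | coe c =>
      rw [Set.mem_insert_iff, ← hmΩ]
      simp
  have hnΩ : n = Ωf.ncard + 1 := by
    rw [hn, horb, Set.ncard_insert_of_notMem _ (hΩfin.image _),
      Set.ncard_image_of_injective _ OnePoint.coe_injective]
    simp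
  have hcl : ∀ c ∈ Ωf, ∀ x ∈ trM H, c + x ∈ Ωf := by
    intro c hc x hx
    rw [hmΩ] at hc ⊢
    obtain ⟨g, hg⟩ := hc
    have hg' : g • (∞ : OnePoint K) = c := hg
    refine ⟨⟨tU x, hx⟩ * g, ?_⟩
    show (⟨tU x, hx⟩ * g : H) • (∞ : OnePoint K) = _
    rw [mul_smul, hg']
    exact tU_act_coe x c
  obtain ⟨k, hk⟩ := dvd_ncard_of_closed (trM H) _ Ωf hΩfin rfl hcl
  rw [← hq] at hk
  have h0Ω : (0 : K) ∈ Ωf := by
    rw [hmΩ]
    apply par_orbit hp2 H hneg l hl hlH ⟨sL c, hcH⟩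
    · rintro ⟨-, a2, -⟩
      simp [sL] at a2
      exact hc a2
    · simp [sL]; norm_num
    · exact sL_act_zero c
  have hcΩ : c⁻¹ ∈ Ωf := by
    rw [hmΩ]
    exact ⟨⟨sL c, hcH⟩, sL_act_inf c hc⟩
  have hk1 : 1 ≤ k := by
    have : 0 < Ωf.ncard := (Set.ncard_pos hΩfin).mpr ⟨0, h0Ω⟩
    rw [hk] at this
    exact Nat.pos_of_mul_pos_left this
  have hn2 : 2 ≤ n := by
    have : 0 < Ωf.ncard := (Set.ncard_pos hΩfin).mpr ⟨0, h0Ω⟩
    omega
  obtain ⟨x₀, hx₀, hO, hall⟩ := dk_poles (H := H) (X := OnePoint K) (scSub H)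
    (fun h hh x => sc_act h.1 hh x)
    (fun h hh => (ncard_fixedBy h2 hK h.1 hh).elim (fun a => Or.inl a.2) (fun a => Or.inr a.2))
    ∞ q hq3
    (fun h hh h1 x hx => par_orbit hp2 H hneg l hl hlH h hh
      ((ncard_fixedBy h2 hK h.1 hh).elim (fun a => a.1) (fun a => by
        exfalso
        have : (fixedBy (OnePoint K) h).ncard = 2 := a.2
        omega)) x hx)
    (hq ▸ par_count h2 hK H hneg)
    (by rw [hZ2, hstab]; nlinarith)
    (hn ▸ hn2)
  rw [← hn] at hO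
  obtain ⟨s, hs⟩ : ∃ s, Nat.card (stabilizer H x₀) = 2 * s := by
    have hle : scSub H ≤ stabilizer H x₀ := fun h hh => sc_act h.1 hh x₀
    have := Subgroup.card_dvd_of_le hle
    rw [hZ2] at this
    exact this
  have m1 := dk_orbit_mul (H := H) x₀
  have m2 := dk_orbit_mul (H := H) (∞ : OnePoint K)
  rw [← hn, hstab] at m2
  rw [hs] at m1
  obtain ⟨r, rfl⟩ : ∃ r, q = r + 2 := ⟨q - 2, by omega⟩
  have hnk : n = 1 + k * (r + 2) := by rw [hnΩ, hk]; ring
  have hOeq : (orbit H x₀).ncard = (r + 2) * (1 + k * r) := by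
    have e : (r + 2) * (1 + k * r) + 2 * (1 + k * (r + 2)) = 2 + (1 + k * (r + 2)) * (r + 2) := by
      ring
    rw [hnk] at hO
    linarith
  have harith : s * (1 + k * r) = (1 + k * (r + 2)) * d := by
    rw [hOeq, ← m2, hnk] at m1
    have e : (2 * (r + 2)) * (s * (1 + k * r)) = (2 * (r + 2)) * ((1 + k * (r + 2)) * d) := by
      linarith
    exact Nat.eq_of_mul_eq_mul_left (by omega) e
  rcases dk_arith r k d s (by omega) hk1 hd1 (by omega) harith with hk1' | ⟨-, hr, hd2, hs5⟩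
  · left
    rw [hk1', mul_one] at hk
    have hsub : ((trM H : AddSubgroup K) : Set K) ⊆ Ωf := by
      intro x hx
      have := hcl 0 h0Ω x hx
      rwa [zero_add] at this
    have hcardM : ((trM H : AddSubgroup K) : Set K).ncard = r + 2 := by
      rw [hq, ← Nat.card_coe_set_eq]; rfl
    have := Set.eq_of_subset_of_ncard_le hsub (by rw [hk, hcardM]) hΩfin
    rw [← this] at hcΩ
    exact hcΩ
  · right
    subst hr
    refine ⟨((Nat.prime_dvd_prime_iff_eq Fact.out Nat.prime_three).mp hpq), ?_⟩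
    exact dk_exc h2 hK H x₀ (by rw [← hd, hd2]) (by rw [hs, hs5]) hall

end Cfsg.Agent.Lib.Helper5
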