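import Cfsg.Agent.Lib.Helper5.DK5

set_option autoImplicit false
set_option linter.style.haveILetI false
set_option linter.unusedSectionVars false

namespace Cfsg.Agent.Lib.Helper5

open MulAction OnePoint

local notation "SL2" => Matrix.SpecialLinearGroup (Fin 2)

variable {K : Type*} [Field K]

/-- the fifth power via Cayley-Hamilton -/
theorem pow_five (h : SL2 K) : (h.1) ^ 5 =
    ((h.1 0 0 + h.1 1 1) ^ 4 - 3 * (h.1 0 0 + h.1 1 1) ^ 2 + 1) • h.1 -
      ((h.1 0 0 + h.1 1 1) ^ 3 - 2 * (h.1 0 0 + h.1 1 1)) • (1 : Matrix (Fin 2) (Fin 2) K) := by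
  have hc := cayley h
  obtain ⟨τ, hτ⟩ : ∃ τ, τ = h.1 0 0 + h.1 1 1 := ⟨_, rfl⟩
  obtain ⟨A, hA⟩ : ∃ A, A = h.1 := ⟨_, rfl⟩
  rw [← hτ, ← hA] at hc ⊢
  have h2 : A ^ 2 = τ • A - 1 := by rw [pow_two, hc]
  have h3 : A ^ 3 = (τ ^ 2 - 1) • A - τ • (1 : Matrix (Fin 2) (Fin 2) K) := by
    rw [pow_succ, h2, sub_mul, smul_mul_assoc, hc, one_mul]
    module
  have h4 : A ^ 4 = (τ ^ 3 - 2 * τ) • A - (τ ^ 2 - 1) • (1 : Matrix (Fin 2) (Fin 2) K) := by
    rw [pow_succ, h3, sub_mul, smul_mul_assoc, smul_mul_assoc, hc, one_mul]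
    module
  rw [pow_succ, h4, sub_mul, smul_mul_assoc, smul_mul_assoc, hc, one_mul]
  module

theorem quartic_of_pow_ten (h2 : (2 : K) ≠ 0) (h : SL2 K) (hs : ¬ IsSc h.1) (h10 : h ^ 10 = 1) :
    (h.1 0 0 + h.1 1 1) ^ 4 - 3 * (h.1 0 0 + h.1 1 1) ^ 2 + 1 = 0 := by
  have h5 : IsSc (h ^ 5).1 := by
    apply sc_of_sq h2
    rw [← pow_add]; exact h10
  rw [Matrix.SpecialLinearGroup.coe_pow, pow_five] at h5
  obtain ⟨a1, a2, a3⟩ := h5
  by_contra hA
  apply hs
  simp only [Matrix.sub_apply, Matrix.smul_apply, Matrix.one_apply_ne (show (0 : Fin 2) ≠ 1 by decide),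
    Matrix.one_apply_ne (show (1 : Fin 2) ≠ 0 by decide), Matrix.one_apply_eq, smul_eq_mul, mul_zero,
    sub_zero, mul_one] at a1 a2 a3
  refine ⟨(mul_eq_zero.mp a1).resolve_left hA, (mul_eq_zero.mp a2).resolve_left hA, ?_⟩
  have : ((h.1 0 0 + h.1 1 1) ^ 4 - 3 * (h.1 0 0 + h.1 1 1) ^ 2 + 1) * (h.1 0 0 - h.1 1 1) = 0 := by
    linear_combination a3
  exact sub_eq_zero.mp ((mul_eq_zero.mp this).resolve_left hA)

theorem tU_sL_entries (l c : K) : (tU l * sL c : SL2 K).1 0 0 = 1 + l * c ∧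
    (tU l * sL c : SL2 K).1 0 1 = l ∧ (tU l * sL c : SL2 K).1 1 0 = c ∧
    (tU l * sL c : SL2 K).1 1 1 = 1 := by
  rw [Matrix.SpecialLinearGroup.coe_mul]
  simp [tU, sL, Matrix.mul_apply, Fin.sum_univ_two]

theorem tU_inv (l : K) : (tU l)⁻¹ = tU (-l) := by
  apply inv_eq_of_mul_eq_one_left
  rw [tU_mul, neg_add_cancel, tU_zero]

theorem sL_inv (l : K) : (sL l)⁻¹ = sL (-l) := by
  apply inv_eq_of_mul_eq_one_left
  rw [sL_mul, neg_add_cancel, sL_zero]

theorem conj_sL_formula (l c : K) (hl : l ≠ 0) :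
    (sL (-l⁻¹) * tU l) * sL c * (sL (-l⁻¹) * tU l)⁻¹ = tU (-(l ^ 2 * c)) := by
  rw [mul_inv_eq_iff_eq_mul]
  apply Subtype.ext
  simp only [Matrix.SpecialLinearGroup.coe_mul]
  have h1 : l⁻¹ * l = 1 := inv_mul_cancel₀ hl
  apply ext2
  · simp [tU, sL, Matrix.mul_apply, Fin.sum_univ_two]
    linear_combination (-(l * c)) * h1
  · simp [tU, sL, Matrix.mul_apply, Fin.sum_univ_two]
    right; linear_combination (-1 : K) * h1
  · simp [tU, sL, Matrix.mul_apply, Fin.sum_univ_two]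
    left; linear_combination (-1 : K) * h1
  · simp [tU, sL, Matrix.mul_apply, Fin.sum_univ_two]

theorem not_sc_tU_sL (l c : K) (hl : l ≠ 0) : ¬ IsSc (tU l * sL c : SL2 K).1 := by
  intro h
  exact hl ((tU_sL_entries l c).2.1 ▸ h.1)

theorem dk_pair [DecidableEq K] {p : ℕ} [Fact p.Prime] [CharP K p] (hp2 : p ≠ 2)
    (hK : ∀ t : K, ∃ x : K, x * x - t * x + 1 = 0)
    (H : Subgroup (SL2 K)) [Finite H] (hneg : negOne ∈ H) (l c : K) (hl : l ≠ 0) (hc : c ≠ 0)
    (hlH : tU l ∈ H) (hcH : sL c ∈ H) :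
    ∃ g : SL2 K, g⁻¹ * tU c⁻¹ * g ∈ H ∧ g⁻¹ * sL c * g ∈ H := by
  have h2 : (2 : K) ≠ 0 := two_ne_zero_of_char hp2
  rcases dk_main hp2 hK H hneg l c hl hc hlH hcH with h | ⟨hp3, htri⟩
  · exact ⟨1, by simpa using h, by simpa using hcH⟩
  subst hp3
  have h3 : (3 : K) = 0 := by
    have := CharP.cast_eq_zero K 3
    exact_mod_cast this
  have hx0 : l * c ≠ 0 := mul_ne_zero hl hc
  have hlH' : tU (-l) ∈ H := by rw [← tU_inv]; exact H.inv_mem hlH
  -- if lc = ±1 we are done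
  have hone : l * c = 1 → tU c⁻¹ ∈ H := by
    intro h
    have : c⁻¹ = l := by field_simp; linear_combination -h
    rw [this]; exact hlH
  have hmone : l * c = -1 → tU c⁻¹ ∈ H := by
    intro h
    have : c⁻¹ = -l := by field_simp; linear_combination h
    rw [this]; exact hlH'
  by_cases hdone : tU c⁻¹ ∈ H
  · exact ⟨1, by simpa using hdone, by simpa using hcH⟩
  have hn1 : l * c ≠ 1 := fun h => hdone (hone h)
  have hn2 : l * c ≠ -1 := fun h => hdone (hmone h)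
  have hq1 : (2 + l * c) ^ 4 + 1 = 0 := by
    obtain ⟨e00, -, -, e11⟩ := tU_sL_entries l c
    have ht := htri _ (H.mul_mem hlH hcH) (not_sc_tU_sL l c hl)
    have hq := quartic_of_pow_ten h2 (tU l * sL c) (not_sc_tU_sL l c hl)
    rw [e00, e11] at ht hq
    rcases ht with ht | ht | ht
    · exfalso
      have : (l * c) * (l * c + 1) = 0 := by linear_combination ht - (l * c) * h3
      rcases mul_eq_zero.mp this with h | h
      · exact hx0 h
      · exact hn2 (by linear_combination h)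
    · exfalso
      exact hn1 (by linear_combination ht - h3)
    · linear_combination hq ht + (1 + l * c + 1) ^ 2 * h3
  have hq2 : (2 - l * c) ^ 4 + 1 = 0 := by
    obtain ⟨e00, -, -, e11⟩ := tU_sL_entries (-l) c
    have hl' : -l ≠ 0 := neg_ne_zero.mpr hl
    have ht := htri _ (H.mul_mem hlH' hcH) (not_sc_tU_sL (-l) c hl')
    have hq := quartic_of_pow_ten h2 (tU (-l) * sL c) (not_sc_tU_sL (-l) c hl')
    rw [e00, e11] at ht hq
    rcases ht with ht | ht | ht
    · exfalso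
      have : (l * c) * (l * c - 1) = 0 := by linear_combination ht + (l * c) * h3
      rcases mul_eq_zero.mp this with h | h
      · exact hx0 h
      · exact hn1 (by linear_combination h)
    · exfalso
      exact hn2 (by linear_combination -ht + h3)
    · linear_combination hq ht + (1 + -l * c + 1) ^ 2 * h3
  have hsq : (l * c) ^ 2 = -1 := by
    have : (l * c) * ((l * c) ^ 2 + 1) = 0 := by
      linear_combination hq1 - hq2 - (21 * (l * c) + 5 * (l * c) ^ 3) * h3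
    rcases mul_eq_zero.mp this with h | h
    · exact absurd h hx0
    · linear_combination h
  refine ⟨sL (-l⁻¹), ?_, ?_⟩
  · have hf := conj_sL_formula l c hl
    have hcc : -(l ^ 2 * c) = c⁻¹ := by
      field_simp
      linear_combination -hsq
    rw [hcc] at hf
    rw [← hf]
    have : (sL (-l⁻¹))⁻¹ * (sL (-l⁻¹) * tU l * sL c * (sL (-l⁻¹) * tU l)⁻¹) * sL (-l⁻¹) =
        tU l * sL c * (tU l)⁻¹ := by
      rw [mul_inv_rev]
      simp only [mul_assoc, inv_mul_cancel_left, inv_mul_cancel, mul_one]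
    rw [this]
    exact H.mul_mem (H.mul_mem hlH hcH) (H.inv_mem hlH)
  · rw [sL_inv, sL_mul, sL_mul]
    have : - -l⁻¹ + c + -l⁻¹ = c := by ring
    rw [this]; exact hcH

end Cfsg.Agent.Lib.Helper5
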