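import Cfsg.Agent.Lib.Helper5.DK6

set_option autoImplicit false
set_option linter.style.haveILetI false
set_option linter.unusedSectionVars false

namespace Cfsg.Agent.Lib.Helper5

open MulAction OnePoint

local notation "SL2" => Matrix.SpecialLinearGroup (Fin 2)

variable {K : Type*} [Field K]

theorem negOne_mem_of {p : ℕ} [Fact p.Prime] [CharP K p] (hp2 : p ≠ 2)
    (H : Subgroup (SL2 K)) [Finite H] (l c : K) (hl : l ≠ 0) (hc : c ≠ 0)
    (hlH : tU l ∈ H) (hcH : sL c ∈ H) : negOne ∈ H := by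
  classical
  have h2 : (2 : K) ≠ 0 := two_ne_zero_of_char hp2
  rcases Nat.even_or_odd (Nat.card H) with he | ho
  · obtain ⟨u, hu⟩ := exists_prime_orderOf_dvd_card' (G := H) 2 he.two_dvd
    have hu2 : u.1 * u.1 = 1 := by
      have : u ^ 2 = 1 := by
        have h := pow_orderOf_eq_one u
        rwa [hu] at h
      have h3 := congrArg Subtype.val this
      rwa [pow_two] at h3
    have hu1 : u.1 ≠ 1 := by
      intro h
      have : u = 1 := Subtype.ext h
      rw [this, orderOf_one] at hu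
      omega
    rcases (sc_iff u.1).mp (sc_of_sq h2 u.1 hu2) with h | h
    · exact absurd h hu1
    · rw [← h]; exact u.2
  · exfalso
    exact tU_sL_not_comm l c hl hc
      (pelts_comm_of_odd hp2 _ H rfl ho _ hlH _ hcH ⟨1, by rw [pow_one]; exact tU_pow_char l⟩
        ⟨1, by rw [pow_one]; exact sL_pow_char c⟩)

/-- generation of `SL2` of a prime field -/
theorem tU_mem_closure {p : ℕ} [Fact p.Prime] (x : ZMod p) :
    tU x ∈ Subgroup.closure {tU (1 : ZMod p), sL (1 : ZMod p)} := by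
  have : tU x = tU (1 : ZMod p) ^ x.val := by
    rw [tU_pow, mul_one, ZMod.natCast_zmod_val]
  rw [this]
  exact Subgroup.pow_mem _ (Subgroup.subset_closure (by simp)) _

theorem sL_mem_closure {p : ℕ} [Fact p.Prime] (x : ZMod p) :
    sL x ∈ Subgroup.closure {tU (1 : ZMod p), sL (1 : ZMod p)} := by
  have : sL x = sL (1 : ZMod p) ^ x.val := by
    rw [sL_pow, mul_one, ZMod.natCast_zmod_val]
  rw [this]
  exact Subgroup.pow_mem _ (Subgroup.subset_closure (by simp)) _

theorem bruhat_form (g : SL2 K) (h : g.1 1 0 ≠ 0) :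
    g = tU ((g.1 0 0 - 1) / g.1 1 0) * sL (g.1 1 0) * tU ((g.1 1 1 - 1) / g.1 1 0) := by
  have hd := det_eq g
  apply Subtype.ext
  obtain ⟨e00, e01, e10, e11⟩ := tU_sL_entries ((g.1 0 0 - 1) / g.1 1 0) (g.1 1 0)
  rw [Matrix.SpecialLinearGroup.coe_mul]
  obtain ⟨a1, a2, a3, a4⟩ := mul_entries (tU ((g.1 0 0 - 1) / g.1 1 0) * sL (g.1 1 0) : SL2 K).1
    (tU ((g.1 1 1 - 1) / g.1 1 0) : SL2 K).1
  apply ext2
  · rw [a1, e00, e01]; simp [tU]; field_simp; ring
  · rw [a2, e00, e01]; simp [tU]; field_simp; linear_combination -hd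
  · rw [a3, e10, e11]; simp [tU]
  · rw [a4, e10, e11]; simp [tU]; field_simp; ring

theorem closure_tU_sL {p : ℕ} [Fact p.Prime] :
    Subgroup.closure {tU (1 : ZMod p), sL (1 : ZMod p)} = ⊤ := by
  rw [eq_top_iff]
  intro g _
  have key : ∀ g : SL2 (ZMod p), g.1 1 0 ≠ 0 →
      g ∈ Subgroup.closure {tU (1 : ZMod p), sL (1 : ZMod p)} := by
    intro g h
    rw [bruhat_form g h]
    exact Subgroup.mul_mem _ (Subgroup.mul_mem _ (tU_mem_closure _) (sL_mem_closure _))
      (tU_mem_closure _)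
  by_cases h : g.1 1 0 = 0
  · have hd := det_eq g
    have h00 : g.1 0 0 ≠ 0 := by
      intro h0
      rw [h, h0] at hd
      simp at hd
    have h1 : (sL 1 * g : SL2 (ZMod p)).1 1 0 ≠ 0 := by
      rw [Matrix.SpecialLinearGroup.coe_mul, (mul_entries _ _).2.2.1]
      simp [sL, h, h00]
    have h2 := key _ h1
    have h3 := Subgroup.mul_mem _ (Subgroup.inv_mem _ (sL_mem_closure (1 : ZMod p))) h2
    rwa [inv_mul_cancel_left] at h3
  · exact key g h

/-- the twisted embedding of `SL2 (ZMod p)`, on matrices -/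
def embMat {R : Type*} [CommRing R] (f : R →+* K) (c : K) (m : Matrix (Fin 2) (Fin 2) R) :
    Matrix (Fin 2) (Fin 2) K :=
  !![f (m 0 0), f (m 0 1) * c⁻¹; f (m 1 0) * c, f (m 1 1)]

theorem embMat_mul {R : Type*} [CommRing R] (f : R →+* K) (c : K) (hc : c ≠ 0)
    (a b : Matrix (Fin 2) (Fin 2) R) : embMat f c (a * b) = embMat f c a * embMat f c b := by
  have a1 : (a * b) 0 0 = a 0 0 * b 0 0 + a 0 1 * b 1 0 := by
    simp [Matrix.mul_apply, Fin.sum_univ_two]
  have a2 : (a * b) 0 1 = a 0 0 * b 0 1 + a 0 1 * b 1 1 := by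
    simp [Matrix.mul_apply, Fin.sum_univ_two]
  have a3 : (a * b) 1 0 = a 1 0 * b 0 0 + a 1 1 * b 1 0 := by
    simp [Matrix.mul_apply, Fin.sum_univ_two]
  have a4 : (a * b) 1 1 = a 1 0 * b 0 1 + a 1 1 * b 1 1 := by
    simp [Matrix.mul_apply, Fin.sum_univ_two]
  apply ext2
  · rw [(mul_entries _ _).1]
    simp [embMat, a1]
    field_simp
  · rw [(mul_entries _ _).2.1]
    simp [embMat, a2]
    ring
  · rw [(mul_entries _ _).2.2.1]
    simp [embMat, a3]
    ring
  · rw [(mul_entries _ _).2.2.2]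
    simp [embMat, a4]
    field_simp

theorem embMat_det {R : Type*} [CommRing R] (f : R →+* K) (c : K) (hc : c ≠ 0)
    (a : Matrix (Fin 2) (Fin 2) R) (ha : a.det = 1) : (embMat f c a).det = 1 := by
  rw [Matrix.det_fin_two] at ha ⊢
  have hd := congrArg f ha
  rw [map_sub, map_mul, map_mul, map_one] at hd
  simp only [embMat, Matrix.of_apply, Matrix.cons_val', Matrix.cons_val_zero, Matrix.cons_val_one,
    Matrix.cons_val_fin_one]
  rw [← hd]
  field_simp

/-- the twisted embedding -/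
def embC {R : Type*} [CommRing R] (f : R →+* K) (c : K) (hc : c ≠ 0) : SL2 R →* SL2 K where
  toFun m := ⟨embMat f c m.1, embMat_det f c hc m.1 m.2⟩
  map_one' := by
    apply Subtype.ext
    apply ext2 <;> simp [embMat]
  map_mul' a b := by
    apply Subtype.ext
    exact embMat_mul f c hc a.1 b.1

theorem embC_coe {R : Type*} [CommRing R] (f : R →+* K) (c : K) (hc : c ≠ 0) (m : SL2 R) :
    (embC f c hc m).1 = embMat f c m.1 := rfl

theorem embC_injective {R : Type*} [CommRing R] (f : R →+* K) (hf : Function.Injective f)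
    (c : K) (hc : c ≠ 0) : Function.Injective (embC f c hc) := by
  intro a b hab
  have h := congrArg Subtype.val hab
  rw [embC_coe, embC_coe] at h
  have h00 := congrFun (congrFun h 0) 0
  have h01 := congrFun (congrFun h 0) 1
  have h10 := congrFun (congrFun h 1) 0
  have h11 := congrFun (congrFun h 1) 1
  simp only [embMat, Matrix.of_apply, Matrix.cons_val',
    Matrix.cons_val_zero, Matrix.cons_val_one, Matrix.cons_val_fin_one] at h00 h01 h10 h11
  apply Subtype.ext
  ext i j
  fin_cases i <;> fin_cases j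
  · exact hf h00
  · exact hf (mul_right_cancel₀ (inv_ne_zero hc) h01)
  · exact hf (mul_right_cancel₀ hc h10)
  · exact hf h11

theorem embC_tU {F : Type*} [Field F] (f : F →+* K) (c : K) (hc : c ≠ 0) :
    embC f c hc (tU 1) = tU c⁻¹ := by
  apply Subtype.ext
  rw [embC_coe]
  apply ext2 <;> simp [embMat, tU]

theorem embC_sL {F : Type*} [Field F] (f : F →+* K) (c : K) (hc : c ≠ 0) :
    embC f c hc (sL 1) = sL c := by
  apply Subtype.ext
  rw [embC_coe]
  apply ext2 <;> simp [embMat, sL]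

/-- **Dickson, normalized form** -/
theorem dickson_core [DecidableEq K] {p : ℕ} [Fact p.Prime] [CharP K p] (hp2 : p ≠ 2)
    (hK : ∀ t : K, ∃ x : K, x * x - t * x + 1 = 0)
    (H : Subgroup (SL2 K)) [Finite H] (l c : K) (hl : l ≠ 0) (hc : c ≠ 0)
    (hlH : tU l ∈ H) (hcH : sL c ∈ H) :
    ∃ φ : SL2 (ZMod p) →* SL2 K, Function.Injective φ ∧ φ.range ≤ H := by
  obtain ⟨g, hg1, hg2⟩ := dk_pair hp2 hK H (negOne_mem_of hp2 H l c hl hc hlH hcH) l c hl hc hlH hcH
  refine ⟨(MulAut.conj g⁻¹).toMonoidHom.comp (embC (ZMod.castHom (dvd_refl p) K) c hc), ?_, ?_⟩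
  · rw [MonoidHom.coe_comp]
    exact (MulAut.conj g⁻¹).injective.comp
      (embC_injective _ (ZMod.castHom (dvd_refl p) K).injective c hc)
  · rw [MonoidHom.range_eq_map, ← closure_tU_sL, MonoidHom.map_closure, Subgroup.closure_le]
    rintro _ ⟨x, hx, rfl⟩
    rcases hx with rfl | hx
    · simp only [MonoidHom.coe_comp, Function.comp_apply, embC_tU, MulEquiv.coe_toMonoidHom,
        MulAut.conj_apply, inv_inv]
      exact hg1
    · rw [Set.mem_singleton_iff] at hx
      subst hx
      simp only [MonoidHom.coe_comp, Function.comp_apply, embC_sL, MulEquiv.coe_toMonoidHom,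
        MulAut.conj_apply, inv_inv]
      exact hg2

end Cfsg.Agent.Lib.Helper5
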