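import Cfsg.Agent.Lib.Helper5.DK7

set_option autoImplicit false
set_option linter.style.haveILetI false
set_option linter.unusedSectionVars false

namespace Cfsg.Agent.Lib.Helper5

open MulAction OnePoint

local notation "SL2" => Matrix.SpecialLinearGroup (Fin 2)

variable {K : Type*} [Field K]

theorem trace_of_pelt {p : ℕ} [Fact p.Prime] [CharP K p] (a : SL2 K) (k : ℕ)
    (h : a ^ (p ^ k) = 1) : a.1 0 0 + a.1 1 1 = 2 := by
  have h1 : (a.1 - 1) ^ (p ^ k) = 0 := by
    rw [sub_pow_char_pow_of_commute (p := p) (h := Commute.one_right _), one_pow,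
      ← Matrix.SpecialLinearGroup.coe_pow, h, Matrix.SpecialLinearGroup.coe_one, sub_self]
  have h2 : IsNilpotent (a.1 - 1) := ⟨_, h1⟩
  have h3 := (Matrix.isNilpotent_trace_of_isNilpotent h2).eq_zero
  rw [Matrix.trace_sub, Matrix.trace_fin_two, Matrix.trace_one] at h3
  simp at h3
  linear_combination h3

theorem par_fix_inf (u : SL2 K) (ht : u.1 0 0 + u.1 1 1 = 2) (h10 : u.1 1 0 = 0) :
    u = tU (u.1 0 1) := by
  classical
  have hd := det_eq u
  rw [h10] at hd
  have h1 : (u.1 0 0 - 1) ^ 2 = 0 := by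
    have : u.1 1 1 = 2 - u.1 0 0 := by linear_combination ht
    rw [this] at hd
    linear_combination -hd
  exact eq_tU_of u h10 (by linear_combination pow_eq_zero_iff (two_ne_zero) |>.mp h1)

theorem par_fix_zero (u : SL2 K) (ht : u.1 0 0 + u.1 1 1 = 2) (h01 : u.1 0 1 = 0) :
    u = sL (u.1 1 0) := by
  have hd := det_eq u
  rw [h01] at hd
  have h1 : (u.1 0 0 - 1) ^ 2 = 0 := by
    have : u.1 1 1 = 2 - u.1 0 0 := by linear_combination ht
    rw [this] at hd
    linear_combination -hd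
  have h00 : u.1 0 0 = 1 := by linear_combination pow_eq_zero_iff (two_ne_zero) |>.mp h1
  have h11 : u.1 1 1 = 1 := by linear_combination ht - h00
  apply Subtype.ext
  apply ext2 <;> simp [sL, h01, h00, h11]

theorem conj_fix [DecidableEq K] (g a : SL2 K) (x y : OnePoint K) (hg : g • x = y) (ha : a • x = x) :
    (g * a * g⁻¹) • y = y := by
  rw [← hg, mul_smul, mul_smul, inv_smul_smul, ha]

theorem normalize_pair [DecidableEq K] {p : ℕ} [Fact p.Prime] [CharP K p] (hp2 : p ≠ 2)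
    (a b : SL2 K) (ha : ∃ k : ℕ, a ^ (p ^ k) = 1) (hb : ∃ k : ℕ, b ^ (p ^ k) = 1)
    (hab : a * b ≠ b * a) :
    ∃ (g : SL2 K) (l c : K), l ≠ 0 ∧ c ≠ 0 ∧ g * a * g⁻¹ = tU l ∧ g * b * g⁻¹ = sL c := by
  have h2 : (2 : K) ≠ 0 := two_ne_zero_of_char hp2
  obtain ⟨ka, hka⟩ := ha
  obtain ⟨kb, hkb⟩ := hb
  have hta := trace_of_pelt a ka hka
  have htb := trace_of_pelt b kb hkb
  have hsa : ¬ IsSc a.1 := fun h => hab (sc_comm a b h).symm
  have hsb : ¬ IsSc b.1 := fun h => hab (sc_comm b a h)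
  obtain ⟨P, hP⟩ := Set.ncard_eq_one.mp (fixedBy_par h2 a hsa (by rw [hta]; norm_num))
  obtain ⟨Q, hQ⟩ := Set.ncard_eq_one.mp (fixedBy_par h2 b hsb (by rw [htb]; norm_num))
  have haP : a • P = P := by
    have : P ∈ fixedBy (OnePoint K) a := by rw [hP]; rfl
    exact this
  have hbQ : b • Q = Q := by
    have : Q ∈ fixedBy (OnePoint K) b := by rw [hQ]; rfl
    exact this
  by_cases hPQ : P = Q
  · exfalso
    subst hPQ
    obtain ⟨g, hg⟩ := exists_act_inf P
    have h1 := par_fix_inf (g * a * g⁻¹) (by rw [trace_conj, hta])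
      ((fix_inf _).mp (conj_fix g a P _ hg haP))
    have h3 := par_fix_inf (g * b * g⁻¹) (by rw [trace_conj, htb])
      ((fix_inf _).mp (conj_fix g b P _ hg hbQ))
    apply hab
    have h4 : (g * a * g⁻¹) * (g * b * g⁻¹) = (g * b * g⁻¹) * (g * a * g⁻¹) := by
      rw [h1, h3, tU_mul, tU_mul, add_comm]
    have h5 : g * (a * b) * g⁻¹ = g * (b * a) * g⁻¹ := by
      simpa [mul_assoc] using h4
    exact mul_left_cancel (mul_right_cancel h5)
  · obtain ⟨g, hg1, hg2⟩ := two_trans P Q hPQ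
    have h1 := par_fix_inf (g * a * g⁻¹) (by rw [trace_conj, hta])
      ((fix_inf _).mp (conj_fix g a P _ hg1 haP))
    have h3 := par_fix_zero (g * b * g⁻¹) (by rw [trace_conj, htb]) (by
      have := (fix_coe _ _).mp (conj_fix g b Q _ hg2 hbQ)
      simpa using this)
    refine ⟨g, _, _, ?_, ?_, h1, h3⟩
    · intro h0
      rw [h0, tU_zero] at h1
      apply hab
      have : a = 1 := by
        have := mul_inv_eq_one.mp h1
        exact mul_left_cancel (this.trans (mul_one g).symm)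
      rw [this]; simp
    · intro h0
      rw [h0, sL_zero] at h3
      apply hab
      have : b = 1 := by
        have := mul_inv_eq_one.mp h3
        exact mul_left_cancel (this.trans (mul_one g).symm)
      rw [this]; simp

/-- **Dickson** over a field with enough roots. -/
theorem dickson_alg [DecidableEq K] {p : ℕ} [Fact p.Prime] [CharP K p] (hp2 : p ≠ 2)
    (hK : ∀ t : K, ∃ x : K, x * x - t * x + 1 = 0)
    (H : Subgroup (SL2 K)) [Finite H] (a b : SL2 K) (haH : a ∈ H) (hbH : b ∈ H)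
    (ha : ∃ k : ℕ, a ^ (p ^ k) = 1) (hb : ∃ k : ℕ, b ^ (p ^ k) = 1) (hab : a * b ≠ b * a) :
    ∃ φ : SL2 (ZMod p) →* SL2 K, Function.Injective φ ∧ φ.range ≤ H := by
  obtain ⟨g, l, c, hl, hc, h1, h2⟩ := normalize_pair hp2 a b ha hb hab
  obtain ⟨H', hH'⟩ : ∃ H' : Subgroup (SL2 K), H' = H.map (MulAut.conj g).toMonoidHom := ⟨_, rfl⟩
  haveI : Finite H' := by
    rw [hH']
    exact Finite.of_surjective _ (H.equivMapOfInjective _ (MulAut.conj g).injective).surjective
  have hl' : tU l ∈ H' := by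
    rw [hH', ← h1]; exact ⟨a, haH, rfl⟩
  have hc' : sL c ∈ H' := by
    rw [hH', ← h2]; exact ⟨b, hbH, rfl⟩
  obtain ⟨φ, hφ, hr⟩ := dickson_core hp2 hK H' l c hl hc hl' hc'
  refine ⟨(MulAut.conj g⁻¹).toMonoidHom.comp φ, ?_, ?_⟩
  · rw [MonoidHom.coe_comp]
    exact (MulAut.conj g⁻¹).injective.comp hφ
  · rintro _ ⟨x, rfl⟩
    have := hr ⟨x, rfl⟩
    rw [hH'] at this
    obtain ⟨y, hy, hyx⟩ := this
    rw [MonoidHom.comp_apply, ← hyx]
    simpa [mul_assoc] using hy

end Cfsg.Agent.Lib.Helper5
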