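import Cfsg.Agent.Lib.Helper5.DK8

set_option autoImplicit false
set_option linter.style.haveILetI false
set_option linter.unusedSectionVars false

namespace Cfsg.Agent.Lib.Helper5

local notation "SL2" => Matrix.SpecialLinearGroup (Fin 2)

theorem slmap_injective {F K : Type*} [Field F] [Field K] (f : F →+* K) :
    Function.Injective (Matrix.SpecialLinearGroup.map (n := Fin 2) f) := by
  intro a b h
  apply Subtype.ext
  ext i j
  have := congrFun (congrFun (congrArg Subtype.val h) i) j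
  simp only [Matrix.SpecialLinearGroup.map_apply_coe, RingHom.mapMatrix_apply, Matrix.map_apply]
    at this
  exact f.injective this

/-- **Dickson's theorem** (the part on non-commuting `p`-elements): a finite subgroup of `SL₂(F)`,
`char F = p` odd, with two non-commuting `p`-elements contains a copy of `SL₂(p)`. -/
theorem dickson_general {F : Type*} [Field F] {p : ℕ} [Fact p.Prime] [CharP F p] (hp2 : p ≠ 2)
    (H : Subgroup (SL2 F)) [Finite H] (a b : SL2 F) (haH : a ∈ H) (hbH : b ∈ H)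
    (ha : ∃ k : ℕ, a ^ (p ^ k) = 1) (hb : ∃ k : ℕ, b ^ (p ^ k) = 1) (hab : a * b ≠ b * a) :
    ∃ φ : SL2 (ZMod p) →* SL2 F, Function.Injective φ ∧ φ.range ≤ H := by
  classical
  obtain ⟨ι, hι⟩ : ∃ ι : SL2 F →* SL2 (AlgebraicClosure F),
    ι = Matrix.SpecialLinearGroup.map (algebraMap F (AlgebraicClosure F)) := ⟨_, rfl⟩
  have hinj : Function.Injective ι := hι ▸ slmap_injective _
  haveI : CharP (AlgebraicClosure F) p := charP_of_injective_algebraMap
    (algebraMap F (AlgebraicClosure F)).injective p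
  have hK : ∀ t : AlgebraicClosure F, ∃ x : AlgebraicClosure F, x * x - t * x + 1 = 0 := by
    intro t
    obtain ⟨x, hx⟩ := IsAlgClosed.exists_root
      (Polynomial.X ^ 2 - Polynomial.C t * Polynomial.X + 1 : Polynomial (AlgebraicClosure F)) (by
        have : (Polynomial.X ^ 2 - Polynomial.C t * Polynomial.X + 1 :
            Polynomial (AlgebraicClosure F)).degree = 2 := by compute_degree!
        rw [this]; norm_num)
    refine ⟨x, ?_⟩
    simp only [Polynomial.IsRoot.def, Polynomial.eval_add, Polynomial.eval_sub, Polynomial.eval_pow,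
      Polynomial.eval_X, Polynomial.eval_mul, Polynomial.eval_C, Polynomial.eval_one] at hx
    linear_combination hx
  haveI : Finite (H.map ι) :=
    Finite.of_surjective _ (H.equivMapOfInjective _ hinj).surjective
  obtain ⟨φ, hφ, hr⟩ := dickson_alg hp2 hK (H.map ι) (ι a) (ι b) ⟨a, haH, rfl⟩ ⟨b, hbH, rfl⟩
    (by obtain ⟨k, hk⟩ := ha; exact ⟨k, by rw [← map_pow, hk, map_one]⟩)
    (by obtain ⟨k, hk⟩ := hb; exact ⟨k, by rw [← map_pow, hk, map_one]⟩)
    (by
      intro h
      rw [← map_mul, ← map_mul] at h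
      exact hab (hinj h))
  obtain ⟨e, he⟩ : ∃ e : H ≃* H.map ι, e = H.equivMapOfInjective _ hinj := ⟨_, rfl⟩
  refine ⟨H.subtype.comp (e.symm.toMonoidHom.comp
    (φ.codRestrict (H.map ι) (fun x => hr ⟨x, rfl⟩))), ?_, ?_⟩
  · intro x y hxy
    have h1 := H.subtype_injective hxy
    have h2 := e.symm.injective h1
    exact hφ (congrArg Subtype.val h2)
  · rintro _ ⟨x, rfl⟩
    exact Subtype.property _

/-- sections from surjections -/
theorem section_of_surj {X Y : Type*} [Group X] [Group Y] (H : Subgroup X) (f : H →* Y)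
    (hf : Function.Surjective f) :
    ∃ (L : Subgroup X) (_ : (L.subgroupOf H).Normal), Nonempty (H ⧸ L.subgroupOf H ≃* Y) := by
  have h1 : (f.ker.map H.subtype).subgroupOf H = f.ker := by
    ext x
    rw [Subgroup.mem_subgroupOf, Subgroup.mem_map]
    constructor
    · rintro ⟨y, hy, hyx⟩
      rwa [← H.subtype_injective hyx]
    · intro hx
      exact ⟨x, hx, rfl⟩
  have hn : ((f.ker.map H.subtype).subgroupOf H).Normal := by
    rw [h1]; infer_instance
  refine ⟨f.ker.map H.subtype, hn, ?_⟩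
  exact ⟨(QuotientGroup.quotientMulEquivOfEq h1).trans
    (QuotientGroup.quotientKerEquivOfSurjective f hf)⟩

/-- a homomorphism from a subgroup whose range contains a copy of `Y` gives a section `≅ Y`. -/
theorem section_of_range {X Y Z : Type*} [Group X] [Group Y] [Group Z] (H : Subgroup X)
    (π : H →* Z) (φ : Y →* Z) (hφ : Function.Injective φ) (hr : φ.range ≤ π.range) :
    ∃ (K L : Subgroup X) (_ : (L.subgroupOf K).Normal), K ≤ H ∧
      Nonempty (K ⧸ L.subgroupOf K ≃* Y) := by
  obtain ⟨H₁, hH₁⟩ : ∃ H₁ : Subgroup H, H₁ = φ.range.comap π := ⟨_, rfl⟩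
  obtain ⟨e, he⟩ : ∃ e : H₁ ≃* H₁.map H.subtype,
    e = H₁.equivMapOfInjective _ H.subtype_injective := ⟨_, rfl⟩
  obtain ⟨eφ, heφ⟩ : ∃ eφ : Y ≃* φ.range, eφ = MonoidHom.ofInjective hφ := ⟨_, rfl⟩
  have hmem : ∀ x : H₁, π x.1 ∈ φ.range := by
    intro x
    have h1 : x.1 ∈ φ.range.comap π := hH₁ ▸ x.2
    exact h1
  obtain ⟨f, hf⟩ : ∃ f : H₁.map H.subtype →* Y, f = eφ.symm.toMonoidHom.comp
    (((π.comp H₁.subtype).codRestrict φ.range hmem).comp e.symm.toMonoidHom) := ⟨_, rfl⟩
  have hsurj : Function.Surjective f := by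
    intro y
    obtain ⟨x, hx⟩ := hr ⟨y, rfl⟩
    have hx1 : x ∈ H₁ := by
      rw [hH₁]; show π x ∈ φ.range
      rw [hx]; exact ⟨y, rfl⟩
    refine ⟨e ⟨x, hx1⟩, ?_⟩
    rw [hf]
    simp only [MonoidHom.comp_apply, MulEquiv.coe_toMonoidHom, MulEquiv.symm_apply_apply]
    rw [MulEquiv.symm_apply_eq]
    apply Subtype.ext
    rw [heφ]
    exact hx
  obtain ⟨L, hL, hN⟩ := section_of_surj (H₁.map H.subtype) f hsurj
  refine ⟨H₁.map H.subtype, L, hL, ?_, hN⟩
  rintro _ ⟨x, -, rfl⟩
  exact x.2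

theorem exists_noncomm_of_sylow {G : Type*} [Group G] {p : ℕ} [Fact p.Prime] (P Q : Sylow p G)
    (hPQ : P ≠ Q) : ∃ a ∈ P, ∃ b ∈ Q, a * b ≠ b * a := by
  by_contra h
  push Not at h
  apply hPQ
  have hle : (P : Subgroup G) ≤ Subgroup.normalizer (Q : Set G) := by
    refine le_trans ?_ (Subgroup.centralizer_le_normalizer _)
    intro a ha
    rw [Subgroup.mem_centralizer_iff]
    intro b hb
    exact (h a ha b hb).symm
  have hp : IsPGroup p ((P : Subgroup G) ⊔ Q : Subgroup G) :=
    IsPGroup.to_sup_of_normal_right' P.2 Q.2 hle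
  have h1 := P.is_maximal' hp le_sup_left
  have h2 := Q.is_maximal' hp le_sup_right
  exact Sylow.ext (h1.symm.trans h2)

end Cfsg.Agent.Lib.Helper5
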