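import Cfsg.Agent.Lib.Helper5.QD5

set_option autoImplicit false
set_option linter.style.haveILetI false
set_option linter.unusedSectionVars false

namespace Cfsg.Agent.Lib.Helper5

open MulAction OnePoint

local notation "SL2" => Matrix.SpecialLinearGroup (Fin 2)

section
variable {K : Type*} [Field K] [DecidableEq K]

set_option maxHeartbeats 1000000 in
theorem dk_main_card {p : ℕ} [Fact p.Prime] [CharP K p] (hp2 : p ≠ 2)
    (hK : ∀ t : K, ∃ x : K, x * x - t * x + 1 = 0)
    (H : Subgroup (SL2 K)) [Finite H] (hneg : negOne ∈ H) (l c : K) (hl : l ≠ 0) (hc : c ≠ 0)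
    (hlH : tU l ∈ H) (hcH : sL c ∈ H) :
    tU c⁻¹ ∈ H ∨ Nat.card H = 120 := by
  have h2 : (2 : K) ≠ 0 := two_ne_zero_of_char hp2
  obtain ⟨q, hq⟩ : ∃ q, q = Nat.card (trM H) := ⟨_, rfl⟩
  obtain ⟨d, hd⟩ : ∃ d, d = Nat.card (chi2 H).range := ⟨_, rfl⟩
  obtain ⟨n, hn⟩ : ∃ n, n = (orbit H (∞ : OnePoint K)).ncard := ⟨_, rfl⟩
  haveI : Finite (chi2 H).range := Finite.of_surjective _ (chi2 H).rangeRestrict_surjective
  have hd1 : 1 ≤ d := hd ▸ Nat.card_pos
  have hdq : d + 1 ≤ q := by rw [hd, hq]; exact card_range_chi2_le H l hl hlH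
  have hpq : p ∣ q := by
    have h3 : addOrderOf (⟨l, hlH⟩ : trM H) = p := by
      apply addOrderOf_eq_prime
      · apply Subtype.ext
        simp [CharP.cast_eq_zero]
      · intro h
        exact hl (congrArg Subtype.val h)
    rw [← h3, hq]
    exact addOrderOf_dvd_natCard _
  have hp3 : 3 ≤ p := by
    have := (Fact.out : p.Prime).two_le
    omega
  have hq3 : 3 ≤ q := hp3.trans (Nat.le_of_dvd (by omega) hpq)
  have hstab : Nat.card (stabilizer H (∞ : OnePoint K)) = 2 * q * d := by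
    rw [hq, hd]; exact card_stab h2 H hneg
  have hZ2 := card_scSub h2 H hneg
  -- the finite part of the orbit
  obtain ⟨Ωf, hΩf⟩ : ∃ Ωf : Set K, Ωf = {c : K | (c : OnePoint K) ∈ orbit H (∞ : OnePoint K)} :=
    ⟨_, rfl⟩
  have hmΩ : ∀ c : K, c ∈ Ωf ↔ (c : OnePoint K) ∈ orbit H (∞ : OnePoint K) := by
    intro c; rw [hΩf]; rfl
  have horbfin : (orbit H (∞ : OnePoint K)).Finite := Set.finite_range _
  have hΩfin : Ωf.Finite := by
    have : Ωf = (fun c : K => (c : OnePoint K)) ⁻¹' (orbit H (∞ : OnePoint K)) := by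
      rw [hΩf]; rfl
    rw [this]
    exact horbfin.preimage (OnePoint.coe_injective.injOn)
  have horb : orbit H (∞ : OnePoint K) = insert ∞ ((fun c : K => (c : OnePoint K)) '' Ωf) := by
    ext x
    cases x with
    | infty => simp [mem_orbit_self]
    | coe c =>
      rw [Set.mem_insert_iff, ← hmΩ]
      simp
  have hnΩ : n = Ωf.ncard + 1 := by
    rw [hn, horb, Set.ncard_insert_of_notMem _ (hΩfin.image _),
      Set.ncard_image_of_injective _ OnePoint.coe_injective]
    simp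
  have hcl : ∀ c ∈ Ωf, ∀ x ∈ trM H, c + x ∈ Ωf := by
    intro c hc x hx
    rw [hmΩ] at hc ⊢
    obtain ⟨g, hg⟩ := hc
    have hg' : g • (∞ : OnePoint K) = c := hg
    refine ⟨⟨tU x, hx⟩ * g, ?_⟩
    show (⟨tU x, hx⟩ * g : H) • (∞ : OnePoint K) = _
    rw [mul_smul, hg']
    exact tU_act_coe x c
  obtain ⟨k, hk⟩ := dvd_ncard_of_closed (trM H) _ Ωf hΩfin rfl hcl
  rw [← hq] at hk
  have h0Ω : (0 : K) ∈ Ωf := by
    rw [hmΩ]
    apply par_orbit hp2 H hneg l hl hlH ⟨sL c, hcH⟩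
    · rintro ⟨-, a2, -⟩
      simp [sL] at a2
      exact hc a2
    · simp [sL]; norm_num
    · exact sL_act_zero c
  have hcΩ : c⁻¹ ∈ Ωf := by
    rw [hmΩ]
    exact ⟨⟨sL c, hcH⟩, sL_act_inf c hc⟩
  have hk1 : 1 ≤ k := by
    have : 0 < Ωf.ncard := (Set.ncard_pos hΩfin).mpr ⟨0, h0Ω⟩
    rw [hk] at this
    exact Nat.pos_of_mul_pos_left this
  have hn2 : 2 ≤ n := by
    have : 0 < Ωf.ncard := (Set.ncard_pos hΩfin).mpr ⟨0, h0Ω⟩
    omega
  obtain ⟨x₀, hx₀, hO, hall⟩ := dk_poles (H := H) (X := OnePoint K) (scSub H)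
    (fun h hh x => sc_act h.1 hh x)
    (fun h hh => (ncard_fixedBy h2 hK h.1 hh).elim (fun a => Or.inl a.2) (fun a => Or.inr a.2))
    ∞ q hq3
    (fun h hh h1 x hx => par_orbit hp2 H hneg l hl hlH h hh
      ((ncard_fixedBy h2 hK h.1 hh).elim (fun a => a.1) (fun a => by
        exfalso
        have : (fixedBy (OnePoint K) h).ncard = 2 := a.2
        omega)) x hx)
    (hq ▸ par_count h2 hK H hneg)
    (by rw [hZ2, hstab]; nlinarith)
    (hn ▸ hn2)
  rw [← hn] at hO
  obtain ⟨s, hs⟩ : ∃ s, Nat.card (stabilizer H x₀) = 2 * s := by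
    have hle : scSub H ≤ stabilizer H x₀ := fun h hh => sc_act h.1 hh x₀
    have := Subgroup.card_dvd_of_le hle
    rw [hZ2] at this
    exact this
  have m1 := dk_orbit_mul (H := H) x₀
  have m2 := dk_orbit_mul (H := H) (∞ : OnePoint K)
  rw [← hn, hstab] at m2
  rw [hs] at m1
  obtain ⟨r, rfl⟩ : ∃ r, q = r + 2 := ⟨q - 2, by omega⟩
  have hnk : n = 1 + k * (r + 2) := by rw [hnΩ, hk]; ring
  have hOeq : (orbit H x₀).ncard = (r + 2) * (1 + k * r) := by
    have e : (r + 2) * (1 + k * r) + 2 * (1 + k * (r + 2)) = 2 + (1 + k * (r + 2)) * (r + 2) := by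
      ring
    rw [hnk] at hO
    linarith
  have harith : s * (1 + k * r) = (1 + k * (r + 2)) * d := by
    rw [hOeq, ← m2, hnk] at m1
    have e : (2 * (r + 2)) * (s * (1 + k * r)) = (2 * (r + 2)) * ((1 + k * (r + 2)) * d) := by
      linarith
    exact Nat.eq_of_mul_eq_mul_left (by omega) e
  rcases dk_arith r k d s (by omega) hk1 hd1 (by omega) harith with hk1' | ⟨hk3, hr, hd2, hs5⟩
  · left
    rw [hk1', mul_one] at hk
    have hsub : ((trM H : AddSubgroup K) : Set K) ⊆ Ωf := by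
      intro x hx
      have := hcl 0 h0Ω x hx
      rwa [zero_add] at this
    have hcardM : ((trM H : AddSubgroup K) : Set K).ncard = r + 2 := by
      rw [hq, ← Nat.card_coe_set_eq]; rfl
    have := Set.eq_of_subset_of_ncard_le hsub (by rw [hk, hcardM]) hΩfin
    rw [← this] at hcΩ
    exact hcΩ
  · right
    subst hr
    rw [← m2, hnk, hk3, hd2]

end

/-- **Dickson's dichotomy** for a normalized pair of transvections, over any field. -/
theorem dickson_card {F : Type*} [Field F] {p : ℕ} [Fact p.Prime] [CharP F p] (hp2 : p ≠ 2)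
    (H : Subgroup (SL2 F)) [Finite H] (l c : F) (hl : l ≠ 0) (hc : c ≠ 0)
    (hlH : tU l ∈ H) (hcH : sL c ∈ H) :
    tU c⁻¹ ∈ H ∨ Nat.card H = 120 := by
  classical
  obtain ⟨f, hf⟩ : ∃ f : F →+* AlgebraicClosure F, f = algebraMap F (AlgebraicClosure F) := ⟨_, rfl⟩
  obtain ⟨ι, hι⟩ : ∃ ι : SL2 F →* SL2 (AlgebraicClosure F),
    ι = Matrix.SpecialLinearGroup.map f := ⟨_, rfl⟩
  have hinj : Function.Injective ι := hι ▸ slmap_injective _
  haveI : CharP (AlgebraicClosure F) p := charP_of_injective_algebraMap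
    (algebraMap F (AlgebraicClosure F)).injective p
  have hK : ∀ t : AlgebraicClosure F, ∃ x : AlgebraicClosure F, x * x - t * x + 1 = 0 := by
    intro t
    obtain ⟨x, hx⟩ := IsAlgClosed.exists_root
      (Polynomial.X ^ 2 - Polynomial.C t * Polynomial.X + 1 : Polynomial (AlgebraicClosure F)) (by
        have : (Polynomial.X ^ 2 - Polynomial.C t * Polynomial.X + 1 :
            Polynomial (AlgebraicClosure F)).degree = 2 := by compute_degree!
        rw [this]; norm_num)
    refine ⟨x, ?_⟩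
    simp only [Polynomial.IsRoot.def, Polynomial.eval_add, Polynomial.eval_sub, Polynomial.eval_pow,
      Polynomial.eval_X, Polynomial.eval_mul, Polynomial.eval_C, Polynomial.eval_one] at hx
    linear_combination hx
  haveI : Finite (H.map ι) :=
    Finite.of_surjective _ (H.equivMapOfInjective _ hinj).surjective
  have hl' : f l ≠ 0 := (map_ne_zero f).mpr hl
  have hc' : f c ≠ 0 := (map_ne_zero f).mpr hc
  have h1 : tU (f l) ∈ H.map ι := ⟨tU l, hlH, by rw [hι, slmap_tU]⟩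
  have h2 : sL (f c) ∈ H.map ι := ⟨sL c, hcH, by rw [hι, slmap_sL]⟩
  rcases dk_main_card hp2 hK (H.map ι) (negOne_mem_of hp2 _ _ _ hl' hc' h1 h2) (f l) (f c) hl' hc' h1 h2
    with h | h3
  · left
    obtain ⟨r, hr, hr2⟩ := h
    have : ι r = ι (tU c⁻¹) := by rw [hr2, hι, slmap_tU, map_inv₀]
    rw [← hinj this]; exact hr
  · right
    rw [← h3]
    exact (Subgroup.card_map_of_injective hinj).symm

end Cfsg.Agent.Lib.Helper5
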