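import Cfsg.Agent.Lib.Helper5.DKX1

set_option autoImplicit false
set_option linter.style.haveILetI false
set_option linter.unusedSectionVars false

namespace Cfsg.Agent.Lib.Helper5

local notation "SL2" => Matrix.SpecialLinearGroup (Fin 2)

/-- coordinates of a `2 × 2` matrix over `F₃[λ]` -/
abbrev T8 : Type := ZMod 3 × ZMod 3 × ZMod 3 × ZMod 3 × ZMod 3 × ZMod 3 × ZMod 3 × ZMod 3

def l120 : List T8 := [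
  (0, 0, 1, 1, 1, 2, 0, 0),
  (0, 0, 1, 1, 1, 2, 1, 1),
  (0, 0, 1, 1, 1, 2, 2, 2),
  (0, 0, 1, 2, 1, 1, 0, 0),
  (0, 0, 1, 2, 1, 1, 1, 2),
  (0, 0, 1, 2, 1, 1, 2, 1),
  (0, 0, 2, 1, 2, 2, 0, 0),
  (0, 0, 2, 1, 2, 2, 1, 2),
  (0, 0, 2, 1, 2, 2, 2, 1),
  (0, 0, 2, 2, 2, 1, 0, 0),
  (0, 0, 2, 2, 2, 1, 1, 1),
  (0, 0, 2, 2, 2, 1, 2, 2),
  (0, 1, 0, 0, 0, 0, 0, 2),
  (0, 1, 0, 0, 0, 1, 0, 2),
  (0, 1, 0, 0, 0, 2, 0, 2),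
  (0, 1, 1, 0, 0, 0, 0, 2),
  (0, 1, 1, 0, 0, 1, 1, 2),
  (0, 1, 1, 0, 0, 2, 2, 2),
  (0, 1, 2, 0, 0, 0, 0, 2),
  (0, 1, 2, 0, 0, 1, 2, 2),
  (0, 1, 2, 0, 0, 2, 1, 2),
  (0, 2, 0, 0, 0, 0, 0, 1),
  (0, 2, 0, 0, 0, 1, 0, 1),
  (0, 2, 0, 0, 0, 2, 0, 1),
  (0, 2, 1, 0, 0, 0, 0, 1),
  (0, 2, 1, 0, 0, 1, 2, 1),
  (0, 2, 1, 0, 0, 2, 1, 1),
  (0, 2, 2, 0, 0, 0, 0, 1),
  (0, 2, 2, 0, 0, 1, 1, 1),
  (0, 2, 2, 0, 0, 2, 2, 1),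
  (1, 0, 0, 0, 0, 0, 1, 0),
  (1, 0, 0, 0, 1, 0, 1, 0),
  (1, 0, 0, 0, 2, 0, 1, 0),
  (1, 0, 0, 1, 0, 0, 1, 0),
  (1, 0, 0, 1, 1, 0, 1, 1),
  (1, 0, 0, 1, 2, 0, 1, 2),
  (1, 0, 0, 2, 0, 0, 1, 0),
  (1, 0, 0, 2, 1, 0, 1, 2),
  (1, 0, 0, 2, 2, 0, 1, 1),
  (1, 1, 0, 1, 0, 2, 1, 2),
  (1, 1, 0, 1, 1, 0, 1, 0),
  (1, 1, 0, 1, 2, 1, 1, 1),
  (1, 1, 0, 2, 0, 1, 1, 2),
  (1, 1, 0, 2, 1, 2, 1, 1),
  (1, 1, 0, 2, 2, 0, 1, 0),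
  (1, 1, 1, 0, 0, 2, 0, 2),
  (1, 1, 1, 0, 1, 0, 1, 2),
  (1, 1, 1, 0, 2, 1, 2, 2),
  (1, 1, 1, 1, 0, 1, 2, 2),
  (1, 1, 1, 1, 1, 2, 0, 0),
  (1, 1, 1, 1, 2, 0, 1, 1),
  (1, 1, 2, 0, 0, 1, 0, 2),
  (1, 1, 2, 0, 1, 2, 2, 2),
  (1, 1, 2, 0, 2, 0, 1, 2),
  (1, 1, 2, 2, 0, 2, 2, 2),
  (1, 1, 2, 2, 1, 0, 1, 1),
  (1, 1, 2, 2, 2, 1, 0, 0),
  (1, 2, 0, 1, 0, 2, 1, 1),
  (1, 2, 0, 1, 1, 1, 1, 2),
  (1, 2, 0, 1, 2, 0, 1, 0),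
  (1, 2, 0, 2, 0, 1, 1, 1),
  (1, 2, 0, 2, 1, 0, 1, 0),
  (1, 2, 0, 2, 2, 2, 1, 2),
  (1, 2, 1, 0, 0, 1, 0, 1),
  (1, 2, 1, 0, 1, 0, 1, 1),
  (1, 2, 1, 0, 2, 2, 2, 1),
  (1, 2, 1, 2, 0, 2, 2, 1),
  (1, 2, 1, 2, 1, 1, 0, 0),
  (1, 2, 1, 2, 2, 0, 1, 2),
  (1, 2, 2, 0, 0, 2, 0, 1),
  (1, 2, 2, 0, 1, 1, 2, 1),
  (1, 2, 2, 0, 2, 0, 1, 1),
  (1, 2, 2, 1, 0, 1, 2, 1),
  (1, 2, 2, 1, 1, 0, 1, 2),
  (1, 2, 2, 1, 2, 2, 0, 0),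
  (2, 0, 0, 0, 0, 0, 2, 0),
  (2, 0, 0, 0, 1, 0, 2, 0),
  (2, 0, 0, 0, 2, 0, 2, 0),
  (2, 0, 0, 1, 0, 0, 2, 0),
  (2, 0, 0, 1, 1, 0, 2, 2),
  (2, 0, 0, 1, 2, 0, 2, 1),
  (2, 0, 0, 2, 0, 0, 2, 0),
  (2, 0, 0, 2, 1, 0, 2, 1),
  (2, 0, 0, 2, 2, 0, 2, 2),
  (2, 1, 0, 1, 0, 2, 2, 2),
  (2, 1, 0, 1, 1, 1, 2, 1),
  (2, 1, 0, 1, 2, 0, 2, 0),
  (2, 1, 0, 2, 0, 1, 2, 2),
  (2, 1, 0, 2, 1, 0, 2, 0),
  (2, 1, 0, 2, 2, 2, 2, 1),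
  (2, 1, 1, 0, 0, 1, 0, 2),
  (2, 1, 1, 0, 1, 0, 2, 2),
  (2, 1, 1, 0, 2, 2, 1, 2),
  (2, 1, 1, 2, 0, 2, 1, 2),
  (2, 1, 1, 2, 1, 1, 0, 0),
  (2, 1, 1, 2, 2, 0, 2, 1),
  (2, 1, 2, 0, 0, 2, 0, 2),
  (2, 1, 2, 0, 1, 1, 1, 2),
  (2, 1, 2, 0, 2, 0, 2, 2),
  (2, 1, 2, 1, 0, 1, 1, 2),
  (2, 1, 2, 1, 1, 0, 2, 1),
  (2, 1, 2, 1, 2, 2, 0, 0),
  (2, 2, 0, 1, 0, 2, 2, 1),
  (2, 2, 0, 1, 1, 0, 2, 0),
  (2, 2, 0, 1, 2, 1, 2, 2),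
  (2, 2, 0, 2, 0, 1, 2, 1),
  (2, 2, 0, 2, 1, 2, 2, 2),
  (2, 2, 0, 2, 2, 0, 2, 0),
  (2, 2, 1, 0, 0, 2, 0, 1),
  (2, 2, 1, 0, 1, 0, 2, 1),
  (2, 2, 1, 0, 2, 1, 1, 1),
  (2, 2, 1, 1, 0, 1, 1, 1),
  (2, 2, 1, 1, 1, 2, 0, 0),
  (2, 2, 1, 1, 2, 0, 2, 2),
  (2, 2, 2, 0, 0, 1, 0, 1),
  (2, 2, 2, 0, 1, 2, 1, 1),
  (2, 2, 2, 0, 2, 0, 2, 1),
  (2, 2, 2, 2, 0, 2, 1, 1),
  (2, 2, 2, 2, 1, 0, 2, 2),
  (2, 2, 2, 2, 2, 1, 0, 0)]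

def op1 : T8 → T8 := fun ⟨a0, a1, b0, b1, c0, c1, d0, d1⟩ =>
  (a0 + b0, a1 + b1, b0, b1, c0 + d0, c1 + d1, d0, d1)
def op2 : T8 → T8 := fun ⟨a0, a1, b0, b1, c0, c1, d0, d1⟩ =>
  (a0 - b0, a1 - b1, b0, b1, c0 - d0, c1 - d1, d0, d1)
def op3 : T8 → T8 := fun ⟨a0, a1, b0, b1, c0, c1, d0, d1⟩ =>
  (a0, a1, b0 - a1, b1 + a0, c0, c1, d0 - c1, d1 + c0)
def op4 : T8 → T8 := fun ⟨a0, a1, b0, b1, c0, c1, d0, d1⟩ =>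
  (a0, a1, b0 + a1, b1 - a0, c0, c1, d0 + c1, d1 - c0)

theorem l120_closed_aux : l120.all (fun t => l120.contains (op1 t) && l120.contains (op2 t) &&
    l120.contains (op3 t) && l120.contains (op4 t)) = true := by
  decide +kernel

theorem l120_closed : ∀ t ∈ l120, op1 t ∈ l120 ∧ op2 t ∈ l120 ∧ op3 t ∈ l120 ∧ op4 t ∈ l120 := by
  intro t ht
  have h := List.all_eq_true.mp l120_closed_aux t ht
  simp only [Bool.and_eq_true, List.contains_iff_mem] at h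
  exact ⟨h.1.1.1, h.1.1.2, h.1.2, h.2⟩

theorem l120_one : ((1, 0, 0, 0, 0, 0, 1, 0) : T8) ∈ l120 := by decide +kernel

theorem l120_not : ((1, 0, 1, 0, 0, 0, 1, 0) : T8) ∉ l120 := by decide +kernel

theorem zmod3_sq_ne : ∀ z : ZMod 3, z ^ 2 ≠ -1 := by decide

section
variable {F : Type*} [Field F] [CharP F 3]

/-- the matrix with given coordinates -/
def toMat8 (lam : F) : T8 → Matrix (Fin 2) (Fin 2) F := fun ⟨a0, a1, b0, b1, c0, c1, d0, d1⟩ =>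
  !![ZMod.castHom (dvd_refl 3) F a0 + ZMod.castHom (dvd_refl 3) F a1 * lam,
     ZMod.castHom (dvd_refl 3) F b0 + ZMod.castHom (dvd_refl 3) F b1 * lam;
     ZMod.castHom (dvd_refl 3) F c0 + ZMod.castHom (dvd_refl 3) F c1 * lam,
     ZMod.castHom (dvd_refl 3) F d0 + ZMod.castHom (dvd_refl 3) F d1 * lam]

theorem toMat8_op1 (lam : F) (t : T8) : toMat8 lam (op1 t) = toMat8 lam t * (sL (1 : F)).1 := by
  obtain ⟨a0, a1, b0, b1, c0, c1, d0, d1⟩ := t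
  simp only [toMat8, op1, coe_sL, Matrix.mul_fin_two, map_add]
  congr 1
  ext i j
  fin_cases i <;> fin_cases j <;> simp <;> ring

theorem toMat8_op2 (lam : F) (t : T8) : toMat8 lam (op2 t) = toMat8 lam t * (sL (-1 : F)).1 := by
  obtain ⟨a0, a1, b0, b1, c0, c1, d0, d1⟩ := t
  simp only [toMat8, op2, coe_sL, Matrix.mul_fin_two, map_sub]
  congr 1
  ext i j
  fin_cases i <;> fin_cases j <;> simp <;> ring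

theorem toMat8_op3 (lam : F) (hsq : lam ^ 2 = -1) (t : T8) :
    toMat8 lam (op3 t) = toMat8 lam t * (tU lam).1 := by
  obtain ⟨a0, a1, b0, b1, c0, c1, d0, d1⟩ := t
  simp only [toMat8, op3, coe_tU, Matrix.mul_fin_two, map_sub, map_add]
  congr 1
  ext i j
  fin_cases i <;> fin_cases j <;> simp
  · linear_combination (-(ZMod.cast a1 : F)) * hsq
  · linear_combination (-(ZMod.cast c1 : F)) * hsq

theorem toMat8_op4 (lam : F) (hsq : lam ^ 2 = -1) (t : T8) :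
    toMat8 lam (op4 t) = toMat8 lam t * (tU (-lam)).1 := by
  obtain ⟨a0, a1, b0, b1, c0, c1, d0, d1⟩ := t
  simp only [toMat8, op4, coe_tU, Matrix.mul_fin_two, map_sub, map_add]
  congr 1
  ext i j
  fin_cases i <;> fin_cases j <;> simp
  · linear_combination ((ZMod.cast a1 : F)) * hsq
  · linear_combination ((ZMod.cast c1 : F)) * hsq

theorem inj9 (lam : F) (hsq : lam ^ 2 = -1) (x y x' y' : ZMod 3)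
    (h : ZMod.castHom (dvd_refl 3) F x + ZMod.castHom (dvd_refl 3) F y * lam =
      ZMod.castHom (dvd_refl 3) F x' + ZMod.castHom (dvd_refl 3) F y' * lam) : x = x' ∧ y = y' := by
  haveI : Fact (Nat.Prime 3) := ⟨Nat.prime_three⟩
  obtain ⟨φ, hφ⟩ : ∃ φ : ZMod 3 →+* F, φ = ZMod.castHom (dvd_refl 3) F := ⟨_, rfl⟩
  rw [← hφ] at h
  by_cases hy : y = y'
  · subst hy
    exact ⟨φ.injective (add_right_cancel h), rfl⟩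
  · exfalso
    have hne : y - y' ≠ 0 := sub_ne_zero.mpr hy
    have hne' : φ (y - y') ≠ 0 := (map_ne_zero φ).mpr hne
    have h1 : φ (y - y') * lam = φ (x' - x) := by
      rw [map_sub, map_sub]; linear_combination h
    have h2 : lam = φ ((x' - x) * (y - y')⁻¹) := by
      rw [map_mul, map_inv₀, ← h1]
      field_simp
    have h3 : φ (((x' - x) * (y - y')⁻¹) ^ 2) = φ (-1) := by
      rw [map_pow, ← h2, hsq, map_neg, map_one]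
    have h4 := φ.injective h3
    exact zmod3_sq_ne _ h4

theorem exists_l120 (lam : F) (hsq : lam ^ 2 = -1) (g : SL2 F)
    (hg : g ∈ Subgroup.closure {sL (1 : F), tU lam}) : ∃ t ∈ l120, g.1 = toMat8 lam t := by
  induction hg using Subgroup.closure_induction_right with
  | one =>
    refine ⟨_, l120_one, ?_⟩
    simp [toMat8, Matrix.one_fin_two]
  | mul_right x hx y hy ih =>
    obtain ⟨t, ht, hxt⟩ := ih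
    obtain ⟨h1, h2, h3, h4⟩ := l120_closed t ht
    rcases hy with rfl | hy
    · exact ⟨_, h1, by rw [toMat8_op1, Matrix.SpecialLinearGroup.coe_mul, hxt]⟩
    · rw [Set.mem_singleton_iff.mp hy]
      exact ⟨_, h3, by rw [toMat8_op3 lam hsq, Matrix.SpecialLinearGroup.coe_mul, hxt]⟩
  | mul_inv_cancel x hx y hy ih =>
    obtain ⟨t, ht, hxt⟩ := ih
    obtain ⟨h1, h2, h3, h4⟩ := l120_closed t ht
    rcases hy with rfl | hy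
    · exact ⟨_, h2, by rw [toMat8_op2, sL_inv, Matrix.SpecialLinearGroup.coe_mul, hxt]⟩
    · rw [Set.mem_singleton_iff.mp hy]
      exact ⟨_, h4, by rw [toMat8_op4 lam hsq, tU_inv, Matrix.SpecialLinearGroup.coe_mul, hxt]⟩

theorem tU_one_not_mem (lam : F) (hsq : lam ^ 2 = -1) :
    tU (1 : F) ∉ Subgroup.closure {sL (1 : F), tU lam} := by
  intro h
  obtain ⟨⟨a0, a1, b0, b1, c0, c1, d0, d1⟩, ht, he⟩ := exists_l120 lam hsq _ h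
  have e00 := congrFun (congrFun he 0) 0
  have e01 := congrFun (congrFun he 0) 1
  have e10 := congrFun (congrFun he 1) 0
  have e11 := congrFun (congrFun he 1) 1
  simp only [coe_tU, toMat8, Matrix.of_apply, Matrix.cons_val', Matrix.cons_val_zero,
    Matrix.cons_val_one, Matrix.cons_val_fin_one] at e00 e01 e10 e11
  obtain ⟨r1, r2⟩ := inj9 lam hsq 1 0 a0 a1 (by rw [map_one, map_zero, zero_mul, add_zero]; exact e00)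
  obtain ⟨r3, r4⟩ := inj9 lam hsq 1 0 b0 b1 (by rw [map_one, map_zero, zero_mul, add_zero]; exact e01)
  obtain ⟨r5, r6⟩ := inj9 lam hsq 0 0 c0 c1 (by rw [map_zero, zero_mul, add_zero]; exact e10)
  obtain ⟨r7, r8⟩ := inj9 lam hsq 1 0 d0 d1 (by rw [map_one, map_zero, zero_mul, add_zero]; exact e11)
  subst r1 r2 r3 r4 r5 r6 r7 r8
  exact l120_not ht

end

end Cfsg.Agent.Lib.Helper5
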