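import Cfsg.Agent.Lib.Helper5.DKX2

set_option autoImplicit false
set_option linter.style.haveILetI false
set_option linter.unusedSectionVars false

namespace Cfsg.Agent.Lib.Helper5

local notation "SL2" => Matrix.SpecialLinearGroup (Fin 2)

theorem sl2_top_of_all {K : Type*} [Field K] (H : Subgroup (SL2 K)) (hU : ∀ x, tU x ∈ H)
    (hL : ∀ x, sL x ∈ H) : H = ⊤ := by
  rw [eq_top_iff]
  intro g _
  have key : ∀ g : SL2 K, g.1 1 0 ≠ 0 → g ∈ H := by
    intro g h
    rw [bruhat_form g h]
    exact H.mul_mem (H.mul_mem (hU _) (hL _)) (hU _)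
  by_cases h : g.1 1 0 = 0
  · have hd := det_eq g
    have h00 : g.1 0 0 ≠ 0 := by
      intro h0
      rw [h, h0] at hd
      simp at hd
    have h1 : (sL 1 * g : SL2 K).1 1 0 ≠ 0 := by
      rw [Matrix.SpecialLinearGroup.coe_mul, (mul_entries _ _).2.2.1]
      simp [sL, h, h00]
    have h2 := key _ h1
    have h3 := H.mul_mem (H.inv_mem (hL 1)) h2
    rwa [inv_mul_cancel_left] at h3
  · exact key g h

theorem wW_eq {K : Type*} [Field K] : (wW : SL2 K) = tU 1 * sL (-1) * tU 1 := by
  apply Subtype.ext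
  simp only [wW, Matrix.SpecialLinearGroup.coe_mul, coe_tU, coe_sL, Matrix.mul_fin_two]
  congr 1
  ext i j
  fin_cases i <;> fin_cases j <;> simp

theorem wW_mul_tU {K : Type*} [Field K] (x : K) : (wW : SL2 K) * tU x = sL (-x) * wW := by
  apply Subtype.ext
  have e : (wW : SL2 K).1 = !![0, 1; -1, 0] := rfl
  rw [Matrix.SpecialLinearGroup.coe_mul, Matrix.SpecialLinearGroup.coe_mul, coe_tU, coe_sL, e,
    Matrix.mul_fin_two, Matrix.mul_fin_two]
  congr 1
  ext i j
  fin_cases i <;> fin_cases j <;> simp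

theorem dickson_gen_top {F : Type*} [Field F] [Finite F] {p : ℕ} [Fact p.Prime] [CharP F p]
    (hp2 : p ≠ 2) (H : Subgroup (SL2 F)) (lam : F)
    (hgen : Subfield.closure ({lam} : Set F) = ⊤) (h1 : tU 1 ∈ H) (hl : tU lam ∈ H)
    (hs : sL 1 ∈ H) : H = ⊤ := by
  classical
  have h2 : (2 : F) ≠ 0 := two_ne_zero_of_char hp2
  have hw : wW ∈ H := by
    rw [wW_eq]
    exact H.mul_mem (H.mul_mem h1 (by rw [← sL_inv]; exact H.inv_mem hs)) h1
  have hneg : ∀ x, tU x ∈ H → tU (-x) ∈ H := fun x hx => by rw [← tU_inv]; exact H.inv_mem hx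
  have hLU : ∀ x, tU x ∈ H → sL x ∈ H := by
    intro x hx
    have e : sL x = wW * tU (-x) * wW⁻¹ := by rw [wW_mul_tU, neg_neg]; group
    rw [e]
    exact H.mul_mem (H.mul_mem hw (hneg x hx)) (H.inv_mem hw)
  have hadd : ∀ x y, tU x ∈ H → tU y ∈ H → tU (x + y) ∈ H :=
    fun x y hx hy => by rw [← tU_mul]; exact H.mul_mem hx hy
  have hsub : ∀ x y, tU x ∈ H → tU y ∈ H → tU (x - y) ∈ H :=
    fun x y hx hy => by rw [sub_eq_add_neg]; exact hadd _ _ hx (hneg _ hy)
  have hnsmul : ∀ (n : ℕ) x, tU x ∈ H → tU (n * x) ∈ H :=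
    fun n x hx => by rw [← tU_pow]; exact H.pow_mem hx n
  have hinv : ∀ c, c ≠ 0 → tU c ∈ H → tU c⁻¹ ∈ H := by
    intro c hc hcH
    rcases dickson_dich hp2 H 1 c one_ne_zero hc h1 (hLU c hcH) with h | ⟨h3, h4⟩
    · exact h
    · rcases dickson_dich hp2 H c c hc hc hcH (hLU c hcH) with h | ⟨-, h5⟩
      · exact h
      · exfalso
        rw [one_mul] at h4
        have : (2 : F) = 0 := by
          have e : (c * c) ^ 2 = (c ^ 2) ^ 2 := by ring
          rw [e, h4] at h5
          linear_combination h5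
        exact h2 this
  have hsq : ∀ a, tU a ∈ H → tU (a * a) ∈ H := by
    intro a ha
    by_cases ha0 : a = 0
    · rw [ha0, mul_zero, tU_zero]; exact H.one_mem
    by_cases ha1 : 1 - a = 0
    · have : a = 1 := by linear_combination -ha1
      rw [this, mul_one]; exact h1
    have h3 : tU (a⁻¹ + (1 - a)⁻¹) ∈ H := hadd _ _ (hinv a ha0 ha) (hinv _ ha1 (hsub 1 a h1 ha))
    have e0 : a⁻¹ + (1 - a)⁻¹ = (a * (1 - a))⁻¹ := by
      field_simp
      ring
    have hne : a⁻¹ + (1 - a)⁻¹ ≠ 0 := by
      rw [e0]; exact inv_ne_zero (mul_ne_zero ha0 ha1)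
    have h4 := hinv _ hne h3
    rw [e0, inv_inv] at h4
    have : a * a = a - a * (1 - a) := by ring
    rw [this]; exact hsub _ _ ha h4
  have hmul : ∀ a b, tU a ∈ H → tU b ∈ H → tU (a * b) ∈ H := by
    intro a b ha hb
    have h3 : tU (2 * (a * b)) ∈ H := by
      have : 2 * (a * b) = (a + b) * (a + b) - a * a - b * b := by ring
      rw [this]
      exact hsub _ _ (hsub _ _ (hsq _ (hadd _ _ ha hb)) (hsq _ ha)) (hsq _ hb)
    have h4 := hnsmul ((p + 1) / 2) _ h3
    have e : (((p + 1) / 2 : ℕ) : F) * (2 * (a * b)) = a * b := by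
      have hodd : p % 2 = 1 := (Fact.out : p.Prime).eq_two_or_odd.resolve_left hp2
      have h5 : ((p + 1) / 2) * 2 = p + 1 := by omega
      have h6 : (((p + 1) / 2 : ℕ) : F) * 2 = 1 := by
        have := congrArg (Nat.cast : ℕ → F) h5
        rw [Nat.cast_mul, Nat.cast_add, CharP.cast_eq_zero F p, zero_add, Nat.cast_one] at this
        exact_mod_cast this
      linear_combination (a * b) * h6
    rwa [e] at h4
  obtain ⟨M, hM⟩ : ∃ M : Subfield F, ∀ x, x ∈ M ↔ tU x ∈ H := by
    refine ⟨{ carrier := {x | tU x ∈ H}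
              mul_mem' := fun {a b} ha hb => hmul a b ha hb
              one_mem' := h1
              add_mem' := fun {a b} ha hb => hadd a b ha hb
              zero_mem' := by show tU 0 ∈ H; rw [tU_zero]; exact H.one_mem
              neg_mem' := fun {a} ha => hneg a ha
              inv_mem' := fun a ha => by
                by_cases h0 : a = 0
                · rw [h0, inv_zero]; show tU 0 ∈ H; rw [tU_zero]; exact H.one_mem
                · exact hinv a h0 ha }, fun x => Iff.rfl⟩
  have hMtop : M = ⊤ := by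
    rw [eq_top_iff, ← hgen, Subfield.closure_le]
    intro x hx
    rw [Set.mem_singleton_iff.mp hx]
    exact (hM lam).mpr hl
  have hU : ∀ x, tU x ∈ H := fun x => (hM x).mp (hMtop ▸ Subfield.mem_top x)
  exact sl2_top_of_all H hU (fun x => hLU x (hU x))

theorem card_nine_of_sq {F : Type*} [Field F] [Fintype F] [CharP F 3] (lam : F)
    (hsq : lam ^ 2 = -1) (hgen : Subfield.closure ({lam} : Set F) = ⊤) : Fintype.card F = 9 := by
  classical
  haveI : Fact (Nat.Prime 3) := ⟨Nat.prime_three⟩
  obtain ⟨φ, hφ⟩ : ∃ φ : ZMod 3 →+* F, φ = ZMod.castHom (dvd_refl 3) F := ⟨_, rfl⟩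
  obtain ⟨R, hR⟩ : ∃ R : Subring F, ∀ x, x ∈ R ↔ ∃ a b : ZMod 3, x = φ a + φ b * lam := by
    refine ⟨{ carrier := {x | ∃ a b : ZMod 3, x = φ a + φ b * lam}
              mul_mem' := by
                rintro _ _ ⟨a, b, rfl⟩ ⟨c, d, rfl⟩
                refine ⟨a * c - b * d, a * d + b * c, ?_⟩
                rw [map_sub, map_add, map_mul, map_mul, map_mul, map_mul]
                linear_combination (φ b * φ d) * hsq
              one_mem' := ⟨1, 0, by simp⟩
              add_mem' := by
                rintro _ _ ⟨a, b, rfl⟩ ⟨c, d, rfl⟩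
                exact ⟨a + c, b + d, by rw [map_add, map_add]; ring⟩
              zero_mem' := ⟨0, 0, by simp⟩
              neg_mem' := by
                rintro _ ⟨a, b, rfl⟩
                exact ⟨-a, -b, by rw [map_neg, map_neg]; ring⟩ }, fun x => Iff.rfl⟩
  have hq2 : 2 ≤ Fintype.card F := Fintype.one_lt_card
  obtain ⟨M, hM⟩ : ∃ M : Subfield F, ∀ x, x ∈ M ↔ x ∈ R := by
    refine ⟨{ R with
              inv_mem' := fun x hx => by
                by_cases h0 : x = 0
                · rw [h0, inv_zero]; exact R.zero_mem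
                · have h1 := FiniteField.pow_card_sub_one_eq_one x h0
                  have h3 : x ^ (Fintype.card F - 2) * x = 1 := by
                    rw [← pow_succ, ← h1]
                    congr 1
                    omega
                  rw [← eq_inv_of_mul_eq_one_left h3]
                  exact R.pow_mem hx _ }, fun x => Iff.rfl⟩
  have hMtop : M = ⊤ := by
    rw [eq_top_iff, ← hgen, Subfield.closure_le]
    intro x hx
    rw [Set.mem_singleton_iff.mp hx]
    exact (hM lam).mpr ((hR lam).mpr ⟨0, 1, by simp⟩)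
  have hsurj : Function.Surjective (fun ab : ZMod 3 × ZMod 3 => φ ab.1 + φ ab.2 * lam) := by
    intro x
    obtain ⟨a, b, h⟩ := (hR x).mp ((hM x).mp (hMtop ▸ Subfield.mem_top x))
    exact ⟨(a, b), h.symm⟩
  have hle : Fintype.card F ≤ 9 := by
    have := Fintype.card_le_of_surjective _ hsurj
    rwa [Fintype.card_prod, ZMod.card] at this
  obtain ⟨n, -, hn⟩ := FiniteField.card F 3
  have hn1 : (n : ℕ) ≠ 1 := by
    intro h
    rw [h, pow_one] at hn
    have h3 := FiniteField.pow_card lam
    rw [hn] at h3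
    have h4 : (2 : F) * lam = 0 := by
      have : lam ^ 3 = lam * lam ^ 2 := by ring
      rw [this, hsq] at h3
      linear_combination -h3
    have h2 : (2 : F) ≠ 0 := two_ne_zero_of_char (p := 3) (by norm_num)
    have h5 : lam = 0 := (mul_eq_zero.mp h4).resolve_left h2
    rw [h5] at hsq
    simp at hsq
  have hn0 : 0 < (n : ℕ) := n.pos
  have hn2 : (n : ℕ) ≤ 2 := by
    by_contra h
    push Not at h
    have : 3 ^ 3 ≤ 3 ^ (n : ℕ) := Nat.pow_le_pow_right (by norm_num) h
    omega
  have : (n : ℕ) = 2 := by omega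
  rw [hn, this]
  norm_num

end Cfsg.Agent.Lib.Helper5
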