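import Cfsg.Agent.Lib.Helper5.ZJ3
import Cfsg.Prelude.Def_DStar

set_option autoImplicit false

namespace Cfsg.Agent.Lib.Helper5

open Cfsg
open scoped commutatorElement

variable {G : Type*} [Group G]

/-- The family behind `D*(P)`, for a subgroup `P` of an ambient group. -/
def dFam (P : Subgroup G) : Set (Subgroup G) :=
  {A | A ≤ P ∧ IsMulCommutative A ∧ ∀ x ∈ P,
    ⁅⁅A ⊔ Subgroup.zpowers x, A ⊔ Subgroup.zpowers x⁆, A ⊔ Subgroup.zpowers x⁆ = ⊥ →
      ∀ a ∈ A, a * x = x * a}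

theorem sup_zpowers_eq_closure (A : Subgroup G) (x : G) :
    A ⊔ Subgroup.zpowers x = Subgroup.closure ((A : Set G) ∪ {x}) := by
  rw [Subgroup.closure_union, Subgroup.closure_eq, Subgroup.zpowers_eq_closure]

theorem class2_of {A : Subgroup G} (hA : IsMulCommutative A) {x : G} (M : Subgroup G)
    (hMA : A ≤ Subgroup.centralizer (M : Set G)) (hMx : x ∈ Subgroup.centralizer (M : Set G))
    (hc : ∀ a ∈ A, a * x * a⁻¹ * x⁻¹ ∈ M) :
    ⁅⁅A ⊔ Subgroup.zpowers x, A ⊔ Subgroup.zpowers x⁆, A ⊔ Subgroup.zpowers x⁆ = ⊥ := by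
  have hH : A ⊔ Subgroup.zpowers x ≤ Subgroup.centralizer (M : Set G) :=
    sup_le hMA (Subgroup.zpowers_le.mpr hMx)
  have h1 : ⁅A ⊔ Subgroup.zpowers x, A ⊔ Subgroup.zpowers x⁆ ≤ M := by
    rw [sup_zpowers_eq_closure]
    apply commutator_closure_le
    · rw [← sup_zpowers_eq_closure]
      exact le_normalizer_of_le_centralizer hH
    · rintro s (hs | hs) t (ht | ht)
      · have : ⁅s, t⁆ = 1 := by
          rw [commutatorElement_eq_one_iff_mul_comm]; exact setLike_mul_comm hs ht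
        rw [this]; exact one_mem _
      · rw [Set.mem_singleton_iff.mp ht]; exact hc s hs
      · rw [Set.mem_singleton_iff.mp hs, ← commutatorElement_inv]
        exact inv_mem (hc t ht)
      · rw [Set.mem_singleton_iff.mp hs, Set.mem_singleton_iff.mp ht, commutatorElement_self]
        exact one_mem _
  rw [eq_bot_iff]
  refine (Subgroup.commutator_mono h1 le_rfl).trans ?_
  rw [le_bot_iff, Subgroup.commutator_eq_bot_iff_le_centralizer]
  exact Subgroup.le_centralizer_iff.mp hH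

/-- Members of the family centralize abelian subgroups normalized by `P`. -/
theorem dFam_centralizes [Finite G] {p : ℕ} [Fact p.Prime] {P : Subgroup G} (hP : IsPGroup p P)
    {A : Subgroup G} (hA : A ∈ dFam P) {B : Subgroup G} (hBP : B ≤ P) (hB : IsMulCommutative B) :
    ∀ n : ℕ, ∀ U : Subgroup G, U ≤ B → P ≤ Subgroup.normalizer (U : Set G) → Nat.card U = n →
      A ≤ Subgroup.centralizer (U : Set G) := by
  intro n
  induction n using Nat.strong_induction_on with
  | _ n ih =>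
  intro U hUB hPU hcard
  by_cases hU : U = ⊥
  · rw [hU, Subgroup.le_centralizer_iff]; exact bot_le
  have hlt := Cfsg.Agent.Lib.Helper1.commutator_lt_of_isPGroup (hP.to_le (hUB.trans hBP)) hP hPU hU
  have hn : P ≤ Subgroup.normalizer ((⁅U, P⁆ : Subgroup G) : Set G) :=
    right_le_normalizer_commutator U P
  have h1 := ih _ (hcard ▸ card_lt_of_lt hlt) _ (hlt.le.trans hUB) hn rfl
  rw [Subgroup.le_centralizer_iff]
  intro x hx
  rw [Subgroup.mem_centralizer_iff]
  intro a ha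
  apply hA.2.2 x (hBP (hUB hx)) _ a ha
  apply class2_of hA.2.1 ⁅U, P⁆ h1
  · rw [Subgroup.mem_centralizer_iff]
    intro y hy
    exact setLike_mul_comm (hUB (hlt.le hy)) (hUB hx)
  · intro a' ha'
    rw [Subgroup.commutator_comm]
    exact Subgroup.commutator_mem_commutator (hA.1 ha') hx

/-- A maximal abelian subgroup among those normalized by the `p`-group `P` is self-centralizing
in `P`. -/
theorem self_centralizing_of_max [Finite G] {p : ℕ} [Fact p.Prime] {P : Subgroup G}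
    (hP : IsPGroup p P) {B : Subgroup G} (hBP : B ≤ P) (hB : IsMulCommutative B)
    (hPB : P ≤ Subgroup.normalizer (B : Set G))
    (hmax : ∀ B' : Subgroup G, B' ≤ P → IsMulCommutative B' →
      P ≤ Subgroup.normalizer (B' : Set G) → B ≤ B' → B' = B) :
    ∀ n : ℕ, ∀ U : Subgroup G, U ≤ P ⊓ Subgroup.centralizer (B : Set G) →
      P ≤ Subgroup.normalizer (U : Set G) → Nat.card U = n → U ≤ B := by
  intro n
  induction n using Nat.strong_induction_on with
  | _ n ih =>
  intro U hUC hPU hcard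
  by_cases hU : U = ⊥
  · rw [hU]; exact bot_le
  have hUP : U ≤ P := hUC.trans inf_le_left
  have hlt := Cfsg.Agent.Lib.Helper1.commutator_lt_of_isPGroup (hP.to_le hUP) hP hPU hU
  have hn : P ≤ Subgroup.normalizer ((⁅U, P⁆ : Subgroup G) : Set G) :=
    right_le_normalizer_commutator U P
  have h1 := ih _ (hcard ▸ card_lt_of_lt hlt) _ (hlt.le.trans hUC) hn rfl
  intro x hx
  have hxC : x ∈ Subgroup.centralizer (B : Set G) := (hUC hx).2
  have h2 := hmax (B ⊔ Subgroup.zpowers x) (sup_le hBP (Subgroup.zpowers_le.mpr (hUP hx)))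
    (comm_sup_zpowers hB hxC) ?_ le_sup_left
  · rw [← h2]; exact Subgroup.mem_sup_right (Subgroup.mem_zpowers x)
  · rw [sup_zpowers_eq_closure]
    apply le_normalizer_closure
    rintro s hs y (hy | hy)
    · exact Subgroup.subset_closure (Or.inl (conj_mem_of_le_normalizer hPB hs hy))
    · rw [Set.mem_singleton_iff.mp hy]
      have e : s * x * s⁻¹ = (s * x * s⁻¹ * x⁻¹) * x := by group
      rw [e]
      refine mul_mem (Subgroup.subset_closure (Or.inl (h1 ?_)))
        (Subgroup.subset_closure (Or.inr rfl))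
      rw [Subgroup.commutator_comm]
      exact Subgroup.commutator_mem_commutator hs hx

theorem exists_max_normal_abelian [Finite G] (P : Subgroup G) :
    ∃ B : Subgroup G, B ≤ P ∧ IsMulCommutative B ∧ P ≤ Subgroup.normalizer (B : Set G) ∧
      ∀ B' : Subgroup G, B' ≤ P → IsMulCommutative B' →
        P ≤ Subgroup.normalizer (B' : Set G) → B ≤ B' → B' = B := by
  have hne : {B : Subgroup G | B ≤ P ∧ IsMulCommutative B ∧
      P ≤ Subgroup.normalizer (B : Set G)}.Nonempty :=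
    ⟨⊥, bot_le, (inferInstance : IsMulCommutative (⊥ : Subgroup G)),
      Subgroup.le_normalizer_of_normal⟩
  obtain ⟨B, hB, hmax⟩ := (Set.toFinite _).exists_maximal hne
  exact ⟨B, hB.1, hB.2.1, hB.2.2, fun B' h1 h2 h3 h4 => le_antisymm (hmax ⟨h1, h2, h3⟩ h4) h4⟩

theorem dFam_le_of_max [Finite G] {p : ℕ} [Fact p.Prime] {P : Subgroup G}
    (hP : IsPGroup p P) {B : Subgroup G} (hBP : B ≤ P) (hB : IsMulCommutative B)
    (hPB : P ≤ Subgroup.normalizer (B : Set G))
    (hmax : ∀ B' : Subgroup G, B' ≤ P → IsMulCommutative B' →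
      P ≤ Subgroup.normalizer (B' : Set G) → B ≤ B' → B' = B) : sSup (dFam P) ≤ B := by
  apply sSup_le
  intro A hA
  have h1 : A ≤ P ⊓ Subgroup.centralizer (B : Set G) :=
    le_inf hA.1 (dFam_centralizes hP hA hBP hB _ B le_rfl hPB rfl)
  refine h1.trans (self_centralizing_of_max hP hBP hB hPB hmax _ _ le_rfl ?_ rfl)
  intro s hs
  apply mem_normalizer_of_conj_le
  intro y hy
  refine Subgroup.mem_inf.mpr ⟨mul_mem (mul_mem hs hy.1) (inv_mem hs), ?_⟩
  rw [Subgroup.mem_centralizer_iff]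
  intro b hb
  have hb' : s⁻¹ * b * s⁻¹⁻¹ ∈ B := conj_mem_of_le_normalizer hPB (inv_mem hs) hb
  have h2 := hy.2 _ hb'
  calc b * (s * y * s⁻¹) = s * ((s⁻¹ * b * s⁻¹⁻¹) * y) * s⁻¹ := by group
    _ = s * (y * (s⁻¹ * b * s⁻¹⁻¹)) * s⁻¹ := by rw [h2]
    _ = s * y * s⁻¹ * b := by group

theorem sSup_dFam_mem [Finite G] {p : ℕ} [Fact p.Prime] {P : Subgroup G} (hP : IsPGroup p P) :
    sSup (dFam P) ∈ dFam P := by
  obtain ⟨B, hBP, hB, hPB, hmax⟩ := exists_max_normal_abelian P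
  have hle := dFam_le_of_max hP hBP hB hPB hmax
  refine ⟨hle.trans hBP, comm_of_le hle hB, ?_⟩
  intro x hx hcl
  have h1 : sSup (dFam P) ≤ Subgroup.centralizer (Subgroup.zpowers x : Set G) := by
    apply sSup_le
    intro A hA
    have hAle : A ⊔ Subgroup.zpowers x ≤ sSup (dFam P) ⊔ Subgroup.zpowers x :=
      sup_le_sup_right (le_sSup hA) _
    have h2 : ⁅⁅A ⊔ Subgroup.zpowers x, A ⊔ Subgroup.zpowers x⁆, A ⊔ Subgroup.zpowers x⁆ = ⊥ := by
      rw [eq_bot_iff, ← hcl]
      exact Subgroup.commutator_mono (Subgroup.commutator_mono hAle hAle) hAle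
    have h3 := hA.2.2 x hx h2
    rw [Subgroup.le_centralizer_iff, Subgroup.zpowers_le, Subgroup.mem_centralizer_iff]
    exact h3
  intro a ha
  exact ((h1 ha) x (Subgroup.mem_zpowers x)).symm

theorem dFam_top {S : Type*} [Group S] : dFam (⊤ : Subgroup S) = dStarFamily S := by
  ext A
  constructor
  · rintro ⟨-, h1, h2⟩
    exact ⟨h1, fun x => h2 x trivial⟩
  · rintro ⟨h1, h2⟩
    exact ⟨le_top, h1, fun x _ => h2 x⟩

theorem dFam_eq_image (P : Subgroup G) :
    dFam P = Set.image (fun A : Subgroup ↥P => A.map P.subtype) (dStarFamily ↥P) := by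
  have hinj : Function.Injective P.subtype := P.subtype_injective
  have key : ∀ (A₀ : Subgroup ↥P) (x : ↥P),
      ⁅⁅A₀.map P.subtype ⊔ Subgroup.zpowers (x : G), A₀.map P.subtype ⊔ Subgroup.zpowers (x : G)⁆,
        A₀.map P.subtype ⊔ Subgroup.zpowers (x : G)⁆ = ⊥ ↔
      ⁅⁅A₀ ⊔ Subgroup.zpowers x, A₀ ⊔ Subgroup.zpowers x⁆, A₀ ⊔ Subgroup.zpowers x⁆ = ⊥ := by
    intro A₀ x
    have e : A₀.map P.subtype ⊔ Subgroup.zpowers (x : G) =
        (A₀ ⊔ Subgroup.zpowers x).map P.subtype := by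
      rw [Subgroup.map_sup, MonoidHom.map_zpowers]; rfl
    rw [e, ← Subgroup.map_commutator, ← Subgroup.map_commutator,
      Subgroup.map_eq_bot_iff_of_injective _ hinj]
  ext A
  constructor
  · rintro ⟨h1, h2, h3⟩
    refine ⟨A.subgroupOf P, ⟨comm_subgroupOf P h2, ?_⟩, Subgroup.map_subgroupOf_eq_of_le h1⟩
    intro x hx a ha
    apply Subtype.ext
    apply h3 x x.2 _ a (Subgroup.mem_subgroupOf.mp ha)
    have := (key (A.subgroupOf P) x).mpr hx
    rwa [Subgroup.map_subgroupOf_eq_of_le h1] at this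
  · rintro ⟨A₀, ⟨h1, h2⟩, rfl⟩
    refine ⟨Subgroup.map_subtype_le _, comm_map _ h1, ?_⟩
    rintro x hx hcl _ ⟨a, ha, rfl⟩
    exact congrArg Subtype.val (h2 ⟨x, hx⟩ ((key A₀ ⟨x, hx⟩).mp hcl) a ha)

theorem dStarOf_eq (P : Subgroup G) : dStarOf P = sSup (dFam P) := by
  rw [dFam_eq_image, sSup_image]
  exact (Subgroup.gc_map_comap P.subtype).l_sSup

theorem dFam_map (σ : G ≃* G) {P A : Subgroup G} (hA : A ∈ dFam P) :
    A.map σ.toMonoidHom ∈ dFam (P.map σ.toMonoidHom) := by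
  refine ⟨Subgroup.map_mono hA.1, comm_map _ hA.2.1, ?_⟩
  rintro _ ⟨x, hx, rfl⟩ hcl _ ⟨a, ha, rfl⟩
  have e : A.map σ.toMonoidHom ⊔ Subgroup.zpowers (σ.toMonoidHom x) =
      (A ⊔ Subgroup.zpowers x).map σ.toMonoidHom := by
    rw [Subgroup.map_sup, MonoidHom.map_zpowers]
  rw [e, ← Subgroup.map_commutator, ← Subgroup.map_commutator,
    Subgroup.map_eq_bot_iff_of_injective _ σ.injective] at hcl
  rw [← map_mul, ← map_mul, hA.2.2 x hx hcl a ha]

theorem sSup_dFam_map_le (σ : G ≃* G) (P : Subgroup G) :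
    (sSup (dFam P)).map σ.toMonoidHom ≤ sSup (dFam (P.map σ.toMonoidHom)) := by
  rw [Subgroup.map_le_iff_le_comap]
  apply sSup_le
  intro A hA
  rw [← Subgroup.map_le_iff_le_comap]
  exact le_sSup (dFam_map σ hA)

theorem dFam_of_le {P R A : Subgroup G} (hA : A ∈ dFam P) (hAR : A ≤ R) (hRP : R ≤ P) :
    A ∈ dFam R :=
  ⟨hAR, hA.2.1, fun x hx => hA.2.2 x (hRP hx)⟩

end Cfsg.Agent.Lib.Helper5
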