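import Cfsg.Agent.Lib.Helper5.QD8
import Cfsg.Agent.Lib.Helper5.QP5

set_option autoImplicit false
set_option linter.style.haveILetI false
set_option linter.unusedSectionVars false
set_option linter.unusedSimpArgs false

namespace Cfsg.Agent.Lib.Helper5

open Cfsg
open scoped commutatorElement

universe u v w

local notation "SL2" => Matrix.SpecialLinearGroup (Fin 2)

/-- Quadratic pairs on a normal elementary abelian subgroup produce `Qd(p)`. -/
theorem quad_pair_qd {p : ℕ} [Fact p.Prime] (hp2 : p ≠ 2) {G : Type u} [Group G] [Finite G]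
    (V : Subgroup G)
    [hVn : V.Normal] (hVc : IsMulCommutative V) (hVp : ∀ v ∈ V, v ^ p = 1)
    (H : Subgroup G) (a b : G) (hH : H = Subgroup.closure {a, b})
    (ha : ⁅⁅V, Subgroup.zpowers a⁆, Subgroup.zpowers a⁆ = ⊥)
    (hb : ⁅⁅V, Subgroup.zpowers b⁆, Subgroup.zpowers b⁆ = ⊥)
    (hnp : ¬ ∀ g ∈ H, ∃ n : ℕ, g ^ p ^ n ∈ Subgroup.centralizer (V : Set G)) :
    Inv (qd p) G := by
  have haH : a ∈ H := hH ▸ Subgroup.subset_closure (by simp)
  have hbH : b ∈ H := hH ▸ Subgroup.subset_closure (by simp)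
  have hcomm : ∀ s ∈ V, ∀ t ∈ V, s * t = t * s := by
    intro s hs t ht
    exact congrArg Subtype.val (hVc.is_comm.comm ⟨s, hs⟩ ⟨t, ht⟩)
  letI : CommGroup V := { (inferInstance : Group V) with mul_comm := hVc.is_comm.comm }
  obtain ⟨x', y', u', w', N, h1, h2, h3, h4, h5, h6, h7⟩ := star_mulAut (p := p) hp2 (A := V)
    (fun v => Subtype.ext (by simpa using hVp v v.2))
    ((MulAut.conjNormal (H := V)).comp H.subtype) ⟨a, haH⟩ ⟨b, hbH⟩
    (closure_pair_top H a b hH haH hbH)
    (by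
      intro v
      apply Subtype.ext
      simpa [div_eq_mul_inv, mul_assoc] using quad_elem V a ha v v.2)
    (by
      intro v
      apply Subtype.ext
      simpa [div_eq_mul_inv, mul_assoc] using quad_elem V b hb v v.2)
    (by
      intro h
      apply hnp
      intro g hg
      obtain ⟨n, hn⟩ := h ⟨g, hg⟩
      refine ⟨n, ?_⟩
      rw [Subgroup.mem_centralizer_iff]
      intro v hv
      have := congrArg Subtype.val (hn ⟨v, hv⟩)
      simp only [MonoidHom.comp_apply, Subgroup.subtype_apply, MulAut.conjNormal_apply,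
        Subgroup.coe_pow] at this
      calc v * g ^ p ^ n = (g ^ p ^ n * v * (g ^ p ^ n)⁻¹) * g ^ p ^ n := by rw [this]
        _ = g ^ p ^ n * v := by group)
  have hNV : ∀ n ∈ N.map V.subtype, n ∈ V := by
    rintro _ ⟨n, -, rfl⟩
    exact n.2
  have hmem : ∀ t : V, t ∈ N → (t : G) ∈ N.map V.subtype := fun t ht => ⟨t, ht, rfl⟩
  have hcen : ∀ s ∈ V, ∀ n ∈ N.map V.subtype, s * n * s⁻¹ ∈ N.map V.subtype := by
    intro s hs n hn
    rw [hcomm s hs n (hNV n hn), mul_inv_cancel_right]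
    exact hn
  have hinv : ∀ s t : V, s / t ∈ N → ((s : G))⁻¹ * (t : G) ∈ N.map V.subtype := by
    intro s t hst
    have := hmem _ (N.inv_mem hst)
    have e : ((s / t)⁻¹ : V) = s⁻¹ * t := by
      rw [inv_div, div_eq_mul_inv, mul_comm]
    rw [e] at this
    exact this
  refine qd_of_elements_mod hp2 (N.map V.subtype) (u' : G) (w' : G) (x' : G) (y' : G)
    ?_ ?_ (hcen _ u'.2) (hcen _ w'.2) ?_ ?_ ?_ ?_ ?_ ?_ ?_ ?_
  · rintro _ ⟨n, hn, rfl⟩
    exact hmem _ (h1 n hn)
  · rintro _ ⟨n, hn, rfl⟩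
    exact hmem _ (h2 n hn)
  · rintro ⟨t, ht, hte⟩
    have : t = u' := Subtype.ext hte
    exact h3 (this ▸ ht)
  · rw [hVp _ u'.2]; exact one_mem _
  · rw [hVp _ w'.2]; exact one_mem _
  · rw [hcomm _ u'.2 _ w'.2, inv_mul_cancel]; exact one_mem _
  · exact hinv _ _ h4
  · exact hinv _ _ h5
  · exact hinv _ _ h6
  · exact hinv _ _ h7

/-- `Qd(p)` is not involved. -/
def QdFree (p : ℕ) [Fact p.Prime] (X : Type*) [Group X] : Prop := ¬ Inv (qd p) X

variable {p : ℕ}

theorem QdFree.subgroup [Fact p.Prime] {X : Type*} [Group X] (M : Subgroup X) (h : QdFree p X) :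
    QdFree p M := fun h' => h (h'.of_subgroup M)

theorem QdFree.of_surjective [Fact p.Prime] {X Y : Type*} [Group X] [Group Y] (f : X →* Y)
    (hf : Function.Surjective f) (h : QdFree p X) : QdFree p Y :=
  fun h' => h (h'.of_surjective f hf)

theorem QdFree.of_injective [Fact p.Prime] {X Y : Type*} [Group X] [Group Y] (f : Y →* X)
    (hf : Function.Injective f) (h : QdFree p X) : QdFree p Y :=
  fun h' => h (h'.of_injective f hf)

theorem qdFree_of_not_involves [Fact p.Prime] {X : Type*} [Group X]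
    (h : ¬ Involves (qd p) X) : QdFree p X := fun h' => h h'.involves

/-- A pair of quadratically acting elements generates a group acting as a `p`-group. -/
theorem QdFree.pair_pAct [Fact p.Prime] (hp2 : p ≠ 2) : ∀ (n : ℕ) (G : Type u) [Group G] [Finite G]
    (V : Subgroup G) [V.Normal], Nat.card V = n → IsPGroup p V → QdFree p G → ∀ a b : G,
    ⁅⁅V, Subgroup.zpowers a⁆, Subgroup.zpowers a⁆ = ⊥ →
    ⁅⁅V, Subgroup.zpowers b⁆, Subgroup.zpowers b⁆ = ⊥ →
    ∀ g ∈ Subgroup.closure {a, b}, ∃ m : ℕ, g ^ p ^ m ∈ Subgroup.centralizer (V : Set G) := by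
  intro n
  induction n using Nat.strong_induction_on with
  | _ n IH =>
    intro G _ _ V hVn hn hVp hfree a b ha hb g hg
    by_cases hV1 : V = ⊥
    · refine ⟨0, ?_⟩
      rw [hV1, Subgroup.mem_centralizer_iff]
      intro v hv
      rw [Subgroup.mem_bot.mp hv]; simp
    obtain ⟨W, hW⟩ : ∃ W : Subgroup G, W = (frattini V).map V.subtype := ⟨_, rfl⟩
    haveI hWn : W.Normal := by rw [hW]; infer_instance
    have hWV : W < V := hW ▸ frattini_map_lt V hV1
    have hcomm : ∀ v₁ ∈ V, ∀ v₂ ∈ V, ⁅v₁, v₂⁆ ∈ W := by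
      intro v₁ h₁ v₂ h₂
      rw [hW]
      refine ⟨⁅(⟨v₁, h₁⟩ : V), ⟨v₂, h₂⟩⁆, ?_, rfl⟩
      exact Cfsg.Agent.Lib.Helper1.pgroup_commutator_le_frattini hVp
        (Subgroup.commutator_mem_commutator (Subgroup.mem_top _) (Subgroup.mem_top _))
    have hpow : ∀ v ∈ V, v ^ p ∈ W := by
      intro v hv
      rw [hW]
      exact ⟨(⟨v, hv⟩ : V) ^ p, Cfsg.Agent.Lib.Helper1.pgroup_pow_mem_frattini hVp _, rfl⟩
    -- induction on `W`
    obtain ⟨m₁, hm₁⟩ := IH (Nat.card W) (hn ▸ card_lt_of_lt hWV) G W rfl (hVp.to_le hWV.le) hfree a b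
      (le_bot_iff.mp (ha ▸ Subgroup.commutator_mono (Subgroup.commutator_mono hWV.le le_rfl) le_rfl))
      (le_bot_iff.mp (hb ▸ Subgroup.commutator_mono (Subgroup.commutator_mono hWV.le le_rfl) le_rfl))
      g hg
    -- the quotient
    have hs := QuotientGroup.mk'_surjective W
    haveI hVbn : (V.map (QuotientGroup.mk' W)).Normal := hVn.map _ hs
    have hquad : ∀ c : G, ⁅⁅V, Subgroup.zpowers c⁆, Subgroup.zpowers c⁆ = ⊥ →
        ⁅⁅V.map (QuotientGroup.mk' W), Subgroup.zpowers (QuotientGroup.mk' W c)⁆,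
          Subgroup.zpowers (QuotientGroup.mk' W c)⁆ = ⊥ := by
      intro c hc
      rw [← MonoidHom.map_zpowers, ← Subgroup.map_commutator, ← Subgroup.map_commutator, hc,
        Subgroup.map_bot]
    have h2 : ∀ t ∈ Subgroup.closure {QuotientGroup.mk' W a, QuotientGroup.mk' W b}, ∃ m : ℕ,
        t ^ p ^ m ∈ Subgroup.centralizer ((V.map (QuotientGroup.mk' W) : Subgroup (G ⧸ W)) : Set (G ⧸ W)) := by
      by_contra hcon
      have := quad_pair_qd (p := p) hp2
        (V.map (QuotientGroup.mk' W)) (by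
          refine ⟨⟨?_⟩⟩
          rintro ⟨_, v₁, h₁, rfl⟩ ⟨_, v₂, h₂, rfl⟩
          apply Subtype.ext
          show QuotientGroup.mk' W v₁ * QuotientGroup.mk' W v₂ =
            QuotientGroup.mk' W v₂ * QuotientGroup.mk' W v₁
          rw [← commutatorElement_eq_one_iff_mul_comm, ← map_commutatorElement]
          exact (QuotientGroup.eq_one_iff _).mpr (hcomm v₁ h₁ v₂ h₂)) (by
          rintro _ ⟨v, hv, rfl⟩
          rw [← map_pow]
          exact (QuotientGroup.eq_one_iff _).mpr (hpow v hv)) _ _ _ rfl (hquad a ha) (hquad b hb) hcon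
      exact (hfree.of_surjective _ hs) this
    obtain ⟨m₂, hm₂⟩ := h2 (QuotientGroup.mk' W g) (by
      have : ({QuotientGroup.mk' W a, QuotientGroup.mk' W b} : Set (G ⧸ W)) =
          (QuotientGroup.mk' W) '' {a, b} := by
        rw [Set.image_pair]
      rw [this, ← MonoidHom.map_closure]
      exact Subgroup.mem_map_of_mem _ hg)
    obtain ⟨j, hj⟩ := IsPGroup.iff_card.mp (hVp.to_le hWV.le)
    obtain ⟨h, hh⟩ : ∃ h, h = g ^ p ^ (m₁ + m₂) := ⟨_, rfl⟩
    have e1 : h = (g ^ p ^ m₁) ^ p ^ m₂ := by rw [hh, pow_add, pow_mul]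
    have e2 : h = (g ^ p ^ m₂) ^ p ^ m₁ := by rw [hh, pow_add, mul_comm, pow_mul]
    have f1 : h ∈ Subgroup.centralizer (W : Set G) := e1 ▸ pow_mem hm₁ _
    have f2 : QuotientGroup.mk' W h ∈
        Subgroup.centralizer ((V.map (QuotientGroup.mk' W) : Subgroup (G ⧸ W)) : Set (G ⧸ W)) := by
      rw [e2, map_pow, map_pow]
      exact pow_mem hm₂ _
    refine ⟨m₁ + m₂ + j, ?_⟩
    have e3 : g ^ p ^ (m₁ + m₂ + j) = h ^ p ^ j := by rw [hh, ← pow_mul, ← pow_add]
    rw [e3, Subgroup.mem_centralizer_iff]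
    intro v hv
    have hc : h * v * h⁻¹ * v⁻¹ ∈ W := by
      rw [← QuotientGroup.eq_one_iff, ← QuotientGroup.mk'_apply]
      have := (Subgroup.mem_centralizer_iff.mp f2) _ (Subgroup.mem_map_of_mem _ hv)
      rw [map_mul, map_mul, map_mul, map_inv, map_inv, ← this]
      group
    have h3 := pow_conj h v (h * v * h⁻¹ * v⁻¹) (by group) (by
      have := (Subgroup.mem_centralizer_iff.mp f1) _ hc
      rw [← this]; group) (p ^ j)
    have h4 : (h * v * h⁻¹ * v⁻¹) ^ p ^ j = 1 := by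
      have := pow_card_eq_one' (x := (⟨_, hc⟩ : W))
      rw [hj] at this
      exact congrArg Subtype.val this
    rw [h4, one_mul] at h3
    calc v * h ^ p ^ j = (h ^ p ^ j * v * (h ^ p ^ j)⁻¹) * h ^ p ^ j := by rw [h3]
      _ = h ^ p ^ j * v := by group

/-- `QdFree` groups act `p`-stably on their normal `p`-subgroups. -/
theorem QdFree.stable [Fact p.Prime] (hp2 : p ≠ 2) {X : Type u} [Group X] [Finite X]
    (h : QdFree p X) (V : Subgroup X) [hVn : V.Normal] (hV : IsPGroup p V) (a : X)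
    (hq : ⁅⁅V, Subgroup.zpowers a⁆, Subgroup.zpowers a⁆ = ⊥) :
    (QuotientGroup.mk a : X ⧸ Subgroup.centralizer (V : Set X)) ∈
      pCore p (X ⧸ Subgroup.centralizer (V : Set X)) := by
  obtain ⟨N, hN, hNp, hDN⟩ := Cfsg.Agent.Lib.Helper22.bs_normal (p := p)
    {d : X ⧸ Subgroup.centralizer (V : Set X) | ∃ g : X, d = QuotientGroup.mk (g * a * g⁻¹)}
    (by
      rintro g' _ ⟨g, rfl⟩
      obtain ⟨k, rfl⟩ := QuotientGroup.mk_surjective g'
      exact ⟨k * g, by
        rw [← QuotientGroup.mk_inv, ← QuotientGroup.mk_mul, ← QuotientGroup.mk_mul]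
        congr 1
        group⟩)
    (by
      rintro _ ⟨g₁, rfl⟩ _ ⟨g₂, rfl⟩
      have h1 := h.pair_pAct hp2 _ X V rfl hV (g₁ * a * g₁⁻¹) (g₂ * a * g₂⁻¹) (quad_conj V g₁ hq)
        (quad_conj V g₂ hq)
      have e : ({(QuotientGroup.mk (g₁ * a * g₁⁻¹) : X ⧸ Subgroup.centralizer (V : Set X)),
          QuotientGroup.mk (g₂ * a * g₂⁻¹)} : Set (X ⧸ Subgroup.centralizer (V : Set X))) =
          (QuotientGroup.mk' (Subgroup.centralizer (V : Set X))) ''
            {g₁ * a * g₁⁻¹, g₂ * a * g₂⁻¹} := by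
        rw [Set.image_pair]; rfl
      rw [e, ← MonoidHom.map_closure]
      rintro ⟨_, t, ht, rfl⟩
      obtain ⟨m, hm⟩ := h1 t ht
      refine ⟨m, Subtype.ext ?_⟩
      show (QuotientGroup.mk' (Subgroup.centralizer (V : Set X)) t) ^ p ^ m = 1
      rw [← map_pow]
      exact (QuotientGroup.eq_one_iff _).mpr hm)
  exact le_pCore hN hNp (hDN ⟨1, by simp⟩)

theorem QdFree.normalizerPStable [Fact p.Prime] (hp2 : p ≠ 2) {X : Type u} [Group X] [Finite X]
    (h : QdFree p X) : IsNormalizerPStable p X := by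
  intro P hP g hg hq
  obtain ⟨N, hN⟩ : ∃ N, N = Subgroup.normalizer (P : Set X) := ⟨_, rfl⟩
  subst hN
  haveI : (P.subgroupOf (Subgroup.normalizer (P : Set X))).Normal := Subgroup.normal_in_normalizer
  have h1 := (h.subgroup (Subgroup.normalizer (P : Set X))).stable hp2
    (P.subgroupOf (Subgroup.normalizer (P : Set X))) hP.comap_subtype ⟨g, hg⟩ (by
      apply Subgroup.map_injective (Subgroup.normalizer (P : Set X)).subtype_injective
      rw [Subgroup.map_commutator, Subgroup.map_commutator, MonoidHom.map_zpowers,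
        Subgroup.map_subgroupOf_eq_of_le Subgroup.le_normalizer, Subgroup.map_bot]
      exact hq)
  exact (quot_pCore_mem_iff (p := p) (MonoidHom.id _) Function.surjective_id
    ((Subgroup.centralizer (P : Set X)).subgroupOf (Subgroup.normalizer (P : Set X)))
    (Subgroup.centralizer ((P.subgroupOf (Subgroup.normalizer (P : Set X)) :
      Subgroup (Subgroup.normalizer (P : Set X))) : Set (Subgroup.normalizer (P : Set X))))
    (by
      rw [Subgroup.comap_id]
      ext x
      rw [Subgroup.mem_subgroupOf, Subgroup.mem_centralizer_iff, Subgroup.mem_centralizer_iff]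
      constructor
      · intro h u hu
        exact Subtype.ext (h u (Subgroup.mem_subgroupOf.mp hu))
      · intro h u hu
        exact congrArg Subtype.val (h ⟨u, Subgroup.le_normalizer hu⟩
          (Subgroup.mem_subgroupOf.mpr hu))) ⟨g, hg⟩).mpr h1

end Cfsg.Agent.Lib.Helper5
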