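import Cfsg.Agent.Lib.Helper5.QdU2
import Cfsg.Agent.Lib.Helper5.QD9
import Cfsg.Agent.Lib.Helper5.PPrimeQuot
import Cfsg.Agent.Lib.Helper17.Syl
import Cfsg.Agent.S0097
import Cfsg.Prelude.Def_TwoFusion

set_option autoImplicit false

namespace Cfsg.Agent.Lib.Helper5

open Cfsg Cfsg.Agent.Lib.Helper13 Cfsg.Agent.Lib.Helper17
open scoped commutatorElement

universe u
variable {G : Type u} [Group G] [Finite G] {p : ℕ} [Fact p.Prime]

/-- a group whose Sylow `p`-subgroups have order `p³` and exponent `≠ p` does not involve `Qd(p)` -/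
theorem qdFree_of_sylow_exp (hp : p ≠ 2) (P : Sylow p G) (hcard : Nat.card P = p ^ 3)
    (x : G) (hxP : x ∈ (P : Subgroup G)) (hx : x ^ p ≠ 1) : QdFree p G := by
  rintro ⟨K, f, hf⟩
  obtain ⟨Q⟩ : Nonempty (Sylow p K) := inferInstance
  obtain ⟨D, hD⟩ := aff_exists_U (qdData p) (Q.mapSurjective hf)
  obtain ⟨-, hc, he⟩ := sylow_struct D hp _ hD
  have hQG : IsSyl p ((Q : Subgroup K).map K.subtype) K := isSyl_of_sylow Q
  have hPtop := isSyl_top P
  have hle : Nat.card ((Q : Subgroup K).map K.subtype) ≤ p ^ 3 :=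
    hcard ▸ hPtop.card_le le_top hQG.isPGroup
  have hcQ : Nat.card ((Q : Subgroup K).map K.subtype) = Nat.card (Q : Subgroup K) :=
    Subgroup.card_map_of_injective K.subtype_injective
  have hmem : ∀ q : (Q : Subgroup K), f q ∈ ((Q.mapSurjective hf : Sylow p _) : Subgroup _) := by
    intro q
    rw [Sylow.coe_mapSurjective]; exact ⟨q, q.2, rfl⟩
  obtain ⟨φ, hφ⟩ : ∃ φ : ↥(Q : Subgroup K) → ↥((Q.mapSurjective hf : Sylow p _) : Subgroup _),
      ∀ q, ((φ q : _) : qd p) = f q := ⟨fun q => ⟨f q, hmem q⟩, fun q => rfl⟩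
  have hφs : Function.Surjective φ := by
    rintro ⟨y, hy⟩
    have hy' := hy
    rw [Sylow.coe_mapSurjective] at hy'
    obtain ⟨q, hq, rfl⟩ := hy'
    exact ⟨⟨q, hq⟩, Subtype.ext (hφ _)⟩
  have hφb : Function.Bijective φ := hφs.bijective_of_nat_card_le (by rw [hc]; omega)
  have hge : p ^ 3 ≤ Nat.card (Q : Subgroup K) := hc ▸ Nat.card_le_card_of_surjective φ hφs
  have hQtop : IsSyl p ((Q : Subgroup K).map K.subtype) ⊤ :=
    hPtop.of_card_le le_top hQG.isPGroup (by rw [hcQ]; exact hcard ▸ hge)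
  obtain ⟨m, -, hm⟩ := hPtop.conj hQtop
  have h1 : m * x * m⁻¹ ∈ (Q : Subgroup K).map K.subtype := by rw [hm]; exact ⟨x, hxP, rfl⟩
  obtain ⟨q, hq, hqx⟩ := h1
  have h2 : φ ⟨q, hq⟩ ^ p = 1 := by
    have := Monoid.pow_exponent_eq_one (φ ⟨q, hq⟩)
    rwa [he] at this
  have h3 : φ (⟨q, hq⟩ ^ p) = φ 1 := by
    apply Subtype.ext
    rw [hφ, hφ]
    have h4 := congrArg Subtype.val h2
    rw [Subgroup.coe_pow, hφ] at h4
    simpa using h4
  have h5 := congrArg (fun t : (Q : Subgroup K) => ((t : K) : G)) (hφb.1 h3)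
  simp only [Subgroup.coe_pow, Subgroup.coe_one] at h5
  have hqx' : (q : G) = m * x * m⁻¹ := hqx
  rw [hqx', conj_pow] at h5
  apply hx
  have : x ^ p = m⁻¹ * (m * x ^ p * m⁻¹) * m := by group
  rw [this, h5]; group

theorem center_stronglyClosed_of_exp (hp : p ≠ 2) (P : Sylow p G) (hE : Cfsg.IsExtraspecial p ↥P)
    (hcard : Nat.card P = p ^ 3) (hexp : Monoid.exponent ↥P = p ^ 2) :
    Cfsg.IsStronglyClosed ((Subgroup.center ↥P).map (P : Subgroup G).subtype) (P : Subgroup G) := by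
  have hpp : p.Prime := Fact.out
  have h97 := Cfsg.Agent.S0097.result hp hE
  obtain ⟨⟨hPp, hfr, hcm⟩, hZc⟩ := hE
  obtain ⟨E0, hE0⟩ : ∃ E0 : Subgroup ↥P, E0 = Subgroup.closure {x : ↥P | x ^ p = 1} := ⟨_, rfl⟩
  rw [← hE0] at h97
  have hE0mem : ∀ x : ↥P, x ∈ E0 ↔ x ^ p = 1 :=
    fun x => ⟨h97.2 x, fun h => hE0 ▸ Subgroup.subset_closure h⟩
  obtain ⟨x0, hx0⟩ : ∃ x0 : ↥P, x0 ^ p ≠ 1 := by
    by_contra hcon
    push Not at hcon
    have h1 : Monoid.exponent ↥P ∣ p := Monoid.exponent_dvd_of_forall_pow_eq_one hcon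
    rw [hexp] at h1
    have h2 := Nat.le_of_dvd hpp.pos h1
    nlinarith [hpp.two_le]
  have hE0card : Nat.card E0 = p ^ 2 := by
    have hidx : E0.index ≠ 1 := by
      intro h
      rw [Subgroup.index_eq_one] at h
      exact hx0 ((hE0mem x0).mp (h ▸ Subgroup.mem_top x0))
    have hmul := E0.card_mul_index
    have hcard' : Nat.card ↥P = p ^ 3 := hcard
    rw [hcard'] at hmul
    obtain ⟨k, hk3, hk⟩ := (Nat.dvd_prime_pow hpp).mp (Dvd.intro_left _ hmul)
    have hk0 : k ≠ 0 := by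
      rintro rfl
      exact hidx (by rw [hk, pow_zero])
    have hk1 : k ≤ 1 := by
      have h1 := h97.1
      rw [hk] at h1
      by_contra hcon
      have h2 : p ^ 2 ≤ p ^ k := Nat.pow_le_pow_right hpp.pos (by omega)
      nlinarith [hpp.two_le]
    have hk' : k = 1 := by omega
    rw [hk, hk', pow_one] at hmul
    apply Nat.eq_of_mul_eq_mul_right hpp.pos
    rw [hmul]; ring
  have hE0comm : ∀ a b : E0, a * b = b * a := by
    have := IsPGroup.isMulCommutative_of_card_eq_prime_sq hE0card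
    exact fun a b => mul_comm' a b
  obtain ⟨E, hEdef⟩ : ∃ E : Subgroup G, E = E0.map (P : Subgroup G).subtype := ⟨_, rfl⟩
  have mem_E : ∀ x : G, x ∈ E ↔ x ∈ (P : Subgroup G) ∧ x ^ p = 1 := by
    intro x
    rw [hEdef]
    constructor
    · rintro ⟨y, hy, rfl⟩
      refine ⟨y.2, ?_⟩
      have := congrArg Subtype.val ((hE0mem y).mp hy)
      simpa using this
    · rintro ⟨hxP, hx⟩
      exact ⟨⟨x, hxP⟩, (hE0mem _).mpr (Subtype.ext (by simpa using hx)), rfl⟩
  have hEcomm : ∀ a ∈ E, ∀ b ∈ E, a * b = b * a := by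
    intro a ha b hb
    rw [hEdef] at ha hb
    obtain ⟨a', ha', rfl⟩ := ha
    obtain ⟨b', hb', rfl⟩ := hb
    have := congrArg (fun t : E0 => ((t : ↥P) : G)) (hE0comm ⟨a', ha'⟩ ⟨b', hb'⟩)
    simpa using this
  have hEP : E ≤ (P : Subgroup G) := fun x hx => ((mem_E x).mp hx).1
  have hEp : IsPGroup p E := P.2.to_le hEP
  have hconj : ∀ (a e : G), (a * e * a⁻¹) ^ p = a * e ^ p * a⁻¹ := fun a e => conj_pow
  have hPH : (P : Subgroup G) ≤ Subgroup.normalizer (E : Set G) := by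
    intro a ha
    apply mem_normalizer_of_conj_le
    intro e he
    obtain ⟨h1, h2⟩ := (mem_E e).mp he
    refine (mem_E _).mpr ⟨(P : Subgroup G).mul_mem ((P : Subgroup G).mul_mem ha h1)
      ((P : Subgroup G).inv_mem ha), ?_⟩
    rw [hconj, h2]; group
  have hfree : QdFree p G := qdFree_of_sylow_exp hp P hcard x0 x0.2 (fun h => hx0 (Subtype.ext (by
    simpa using h)))
  have hstab := hfree.normalizerPStable hp E hEp
  refine ⟨Subgroup.map_subtype_le _, ?_⟩
  rintro _ ⟨z, hz, rfl⟩ g hy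
  have hzc : ∀ a ∈ (P : Subgroup G), a * (z : G) = z * a := by
    intro a ha
    have := congrArg Subtype.val (Subgroup.mem_center_iff.mp hz ⟨a, ha⟩)
    simpa using this
  have hzp : (z : G) ^ p = 1 := by
    have h1 : (⟨z, hz⟩ : Subgroup.center ↥P) ^ p = 1 := by
      have := pow_card_eq_one' (x := (⟨z, hz⟩ : Subgroup.center ↥P))
      rwa [hZc] at this
    have := congrArg (fun t : Subgroup.center ↥P => ((t : ↥P) : G)) h1
    simpa using this
  have hzE : (z : G) ∈ E := (mem_E _).mpr ⟨z.2, hzp⟩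
  obtain ⟨y, hydef⟩ : ∃ y : G, y = g * (z : G) * g⁻¹ := ⟨_, rfl⟩
  have hy' : y ∈ (P : Subgroup G) := hydef ▸ hy
  show g * (z : G) * g⁻¹ ∈ _
  rw [← hydef]
  have hyE : y ∈ E := (mem_E _).mpr ⟨hy', by rw [hydef, hconj, hzp]; group⟩
  -- Sylow argument in the centralizer of `y`
  obtain ⟨Cy, hCy⟩ : ∃ Cy : Subgroup G, Cy = Subgroup.centralizer {y} := ⟨_, rfl⟩
  have mem_Cy : ∀ t, t ∈ Cy ↔ t * y = y * t := by
    intro t
    rw [hCy, Subgroup.mem_centralizer_singleton_iff]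
  have hPg : (P : Subgroup G).map (MulAut.conj g).toMonoidHom ≤ Cy := by
    rintro _ ⟨a, ha, rfl⟩
    rw [mem_Cy]
    show g * a * g⁻¹ * y = y * (g * a * g⁻¹)
    rw [hydef]
    calc g * a * g⁻¹ * (g * z * g⁻¹) = g * (a * z) * g⁻¹ := by group
      _ = g * (z * a) * g⁻¹ := by rw [hzc a ha]
      _ = _ := by group
  have hECy : E ≤ Cy := fun e he => (mem_Cy e).mpr (hEcomm e he y hyE)
  have hSyl : IsSyl p ((P : Subgroup G).map (MulAut.conj g).toMonoidHom) Cy :=
    ((isSyl_top P).map_conj_of_mem (g := g) (by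
      rw [Subgroup.mem_normalizer_iff]
      exact fun _ => ⟨fun _ => Subgroup.mem_top _, fun _ => Subgroup.mem_top _⟩)).of_le hPg le_top
  obtain ⟨c, hc, hEc⟩ := hSyl.exists_conj_ge hECy hEp
  obtain ⟨h, hh⟩ : ∃ h : G, h = c * g := ⟨_, rfl⟩
  have hhz : h * z * h⁻¹ = y := by
    rw [hh]
    calc c * g * z * (c * g)⁻¹ = c * (g * z * g⁻¹) * c⁻¹ := by group
      _ = c * y * c⁻¹ := by rw [hydef]
      _ = y := by rw [(mem_Cy c).mp hc]; group
  have hhN' : h⁻¹ ∈ Subgroup.normalizer (E : Set G) := by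
    apply mem_normalizer_of_conj_le
    intro e he
    obtain ⟨_, ⟨a, ha, rfl⟩, hae⟩ := hEc he
    have hae' : c * (g * a * g⁻¹) * c⁻¹ = e := hae
    have e1 : h⁻¹ * e * h⁻¹⁻¹ = a := by rw [← hae', hh]; group
    rw [e1]
    refine (mem_E a).mpr ⟨ha, ?_⟩
    have h2 := ((mem_E e).mp he).2
    have e2 : e = h * a * h⁻¹ := by rw [← hae', hh]; group
    rw [e2, hconj] at h2
    have : a ^ p = h⁻¹ * (h * a ^ p * h⁻¹) * h := by group
    rw [this, h2]; group
  have hhN : h ∈ Subgroup.normalizer (E : Set G) := by simpa using Subgroup.inv_mem _ hhN'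
  -- quadratic action
  have hquad : ∀ a ∈ (P : Subgroup G), ⁅⁅E, Subgroup.zpowers a⁆, Subgroup.zpowers a⁆ = ⊥ := by
    intro a ha
    have hza : Subgroup.zpowers a ≤ (P : Subgroup G) := by rwa [Subgroup.zpowers_le]
    obtain ⟨Z, hZ⟩ : ∃ Z : Subgroup G, Z = (Subgroup.center ↥P).map (P : Subgroup G).subtype :=
      ⟨_, rfl⟩
    have h1 : ⁅E, Subgroup.zpowers a⁆ ≤ Z := by
      rw [Subgroup.commutator_le]
      intro e he b hb
      rw [hZ, ← hcm]
      exact ⟨⁅⟨e, hEP he⟩, ⟨b, hza hb⟩⁆,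
        Subgroup.commutator_mem_commutator (Subgroup.mem_top _) (Subgroup.mem_top _), rfl⟩
    rw [eq_bot_iff]
    refine (Subgroup.commutator_mono h1 le_rfl).trans ?_
    rw [Subgroup.commutator_le]
    intro w hw b hb
    rw [hZ] at hw
    obtain ⟨w', hw', rfl⟩ := hw
    rw [Subgroup.mem_bot, commutatorElement_eq_one_iff_mul_comm]
    have := congrArg Subtype.val (Subgroup.mem_center_iff.mp hw' ⟨b, hza hb⟩)
    exact this.symm
  -- the quotient
  have hπs : Function.Surjective (QuotientGroup.mk' ((Subgroup.centralizer (E : Set G)).subgroupOf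
    (Subgroup.normalizer (E : Set G)))) := QuotientGroup.mk'_surjective _
  have hO := pCore_le_sylow ((P.subtype hPH).mapSurjective hπs)
  have hyc : ∀ a ∈ (P : Subgroup G), a * y = y * a := by
    intro a ha
    have h1 := hstab a (hPH ha) (hquad a ha)
    have h2 := hO ((pCore_normal p _).conj_mem _ h1 (QuotientGroup.mk' _ ⟨h, hhN⟩)⁻¹)
    rw [Sylow.coe_mapSurjective] at h2
    obtain ⟨a', ha', hEq⟩ := h2
    have ha'P : (a' : G) ∈ (P : Subgroup G) := ha'
    have hEq' : QuotientGroup.mk' ((Subgroup.centralizer (E : Set G)).subgroupOf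
        (Subgroup.normalizer (E : Set G))) a' = QuotientGroup.mk' _
        ((⟨h, hhN⟩ : ↥(Subgroup.normalizer (E : Set G)))⁻¹ * ⟨a, hPH ha⟩ * ⟨h, hhN⟩) := by
      rw [hEq, map_mul, map_mul, map_inv, inv_inv]
      rfl
    have h4 := QuotientGroup.eq.mp hEq'
    have h5 : (a' : G)⁻¹ * (h⁻¹ * a * h) ∈ Subgroup.centralizer (E : Set G) := h4
    have h6 := Subgroup.mem_centralizer_iff.mp h5 z hzE
    have h7 := hzc a' ha'P
    have h8 : (h⁻¹ * a * h) * (z : G) = z * (h⁻¹ * a * h) := by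
      calc (h⁻¹ * a * h) * (z : G) = a' * (((a' : G)⁻¹ * (h⁻¹ * a * h)) * z) := by group
        _ = a' * (z * ((a' : G)⁻¹ * (h⁻¹ * a * h))) := by rw [h6]
        _ = (a' * z) * ((a' : G)⁻¹ * (h⁻¹ * a * h)) := by group
        _ = (z * a') * ((a' : G)⁻¹ * (h⁻¹ * a * h)) := by rw [h7]
        _ = _ := by group
    rw [← hhz]
    calc a * (h * z * h⁻¹) = h * ((h⁻¹ * a * h) * z) * h⁻¹ := by group
      _ = h * (z * (h⁻¹ * a * h)) * h⁻¹ := by rw [h8]
      _ = _ := by group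
  exact ⟨⟨y, hy'⟩, Subgroup.mem_center_iff.mpr (fun b => Subtype.ext (hyc b b.2)), rfl⟩

end Cfsg.Agent.Lib.Helper5
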