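import Cfsg.Agent.Lib.Helper5.ZJD
import Cfsg.Agent.Lib.Helper5.WS3
import Cfsg.Agent.S0120
import Cfsg.Agent.S0096

set_option autoImplicit false
set_option linter.style.haveILetI false

namespace Cfsg.Agent.Lib.Helper5

open Cfsg
open scoped commutatorElement

universe u

variable {G : Type u} [Group G]

theorem normalizer_le_normalizer_sSup_maxQ [Finite G] {Q : Subgroup G → Prop}
    (hmap : ∀ (σ : G ≃* G) (A : Subgroup G), Q A → Q (A.map σ.toMonoidHom)) (P : Subgroup G) :
    Subgroup.normalizer (P : Set G) ≤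
      Subgroup.normalizer ((sSup (maxQ Q P) : Subgroup G) : Set G) := by
  intro g hg
  apply mem_normalizer_of_conj_le
  have h1 : (sSup (maxQ Q P)).map (MulAut.conj g).toMonoidHom ≤ sSup (maxQ Q P) := by
    rw [Subgroup.map_le_iff_le_comap]
    apply sSup_le
    intro A hA
    rw [← Subgroup.map_le_iff_le_comap]
    have h2 := maxQ_map hmap (MulAut.conj g) hA
    rw [map_conj_eq_of_mem_normalizer hg] at h2
    exact le_sSup h2
  intro y hy
  exact h1 ⟨y, hy, rfl⟩

theorem normalizer_le_normalizer_inf_centralizer [Finite G] (H : Subgroup G) :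
    Subgroup.normalizer (H : Set G) ≤
      Subgroup.normalizer ((H ⊓ Subgroup.centralizer (H : Set G) : Subgroup G) : Set G) := by
  intro g hg
  apply mem_normalizer_of_conj_le
  intro y hy
  obtain ⟨h1, h2⟩ := Subgroup.mem_inf.mp hy
  refine Subgroup.mem_inf.mpr ⟨(Subgroup.mem_normalizer_iff.mp hg y).mp h1, ?_⟩
  rw [Subgroup.mem_centralizer_iff]
  intro h hh
  have h3 : g⁻¹ * h * g ∈ H := by
    have := (Subgroup.mem_normalizer_iff.mp (inv_mem hg) h).mp hh
    rwa [inv_inv] at this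
  have h4 := (Subgroup.mem_centralizer_iff.mp h2) _ h3
  calc h * (g * y * g⁻¹) = g * ((g⁻¹ * h * g) * y) * g⁻¹ := by group
    _ = g * (y * (g⁻¹ * h * g)) * g⁻¹ := by rw [h4]
    _ = g * y * g⁻¹ * h := by group

theorem mem_of_maxQ_elemAb [Finite G] {p : ℕ} {P A : Subgroup G}
    (hA : A ∈ maxQ (IsElementaryAbelian p) P) {x : G} (hxP : x ∈ P) (hxp : x ^ p = 1)
    (hxA : x ∈ Subgroup.centralizer (A : Set G)) : x ∈ A := by
  have h1 := hA.2.2 _ (sup_le hA.1 (Subgroup.zpowers_le.mpr hxP))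
    (elemAb_sup hA.2.1 (elemAb_zpowers hxp) (Subgroup.zpowers_le.mpr hxA))
  have h2 : A = A ⊔ Subgroup.zpowers x := Subgroup.eq_of_le_of_card_ge le_sup_left h1
  rw [h2]
  exact Subgroup.mem_sup_right (Subgroup.mem_zpowers x)

theorem omegaOne_exp_of_class_two [Finite G] {p : ℕ} [Fact p.Prime] (hp : p ≠ 2) (B : Subgroup G)
    (hB : IsPGroup p B) (hcl : ⁅⁅B, B⁆, B⁆ = ⊥) : ∀ x ∈ omegaOne p B, x ^ p = 1 := by
  have h1 : omegaOne p B ≤ (Subgroup.closure {x : ↥B | x ^ p = 1}).map B.subtype := by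
    unfold omegaOne
    rw [Subgroup.closure_le]
    intro x hx
    exact ⟨⟨x, hx.1⟩, Subgroup.subset_closure (Subtype.ext hx.2), rfl⟩
  have h2 : ⁅commutator ↥B, (⊤ : Subgroup ↥B)⁆ = ⊥ := by
    apply Subgroup.map_injective B.subtype_injective
    rw [commutator_def, Subgroup.map_commutator, Subgroup.map_commutator,
      ← MonoidHom.range_eq_map, Subgroup.range_subtype, hcl, Subgroup.map_bot]
  intro x hx
  obtain ⟨y, hy, rfl⟩ := h1 hx
  have := Cfsg.Agent.S0096.result hp hB h2 y hy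
  exact congrArg Subtype.val this

/-- For odd `p`, the centralizer of `Ω₁(B)` acts on `B` as a `p`-group. -/
theorem pow_mem_centralizer_of_centralizer_omegaOne [Finite G] {p : ℕ} [hpp : Fact p.Prime]
    (hp : p ≠ 2) (B : Subgroup G) [hBn : B.Normal] (hB : IsPGroup p B) (x : G)
    (hx : x ∈ Subgroup.centralizer (omegaOne p B : Set G)) :
    ∃ k : ℕ, x ^ p ^ k ∈ Subgroup.centralizer (B : Set G) := by
  obtain ⟨k, m, hm, hkm⟩ := Nat.exists_eq_pow_mul_and_not_dvd (orderOf_pos x).ne' p hpp.out.ne_one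
  refine ⟨k, ?_⟩
  obtain ⟨y, hy⟩ : ∃ y, y = x ^ p ^ k := ⟨_, rfl⟩
  rw [← hy]
  have hyc : y ∈ Subgroup.centralizer (omegaOne p B : Set G) := hy ▸ pow_mem hx _
  have hym : y ^ m = 1 := by rw [hy, ← pow_mul, ← hkm, pow_orderOf_eq_one]
  have h1 : MulAut.conjNormal (H := B) y = 1 := by
    apply Cfsg.Agent.S0120.result hp hB
    · have h2 : (MulAut.conjNormal (H := B) y) ^ m = 1 := by rw [← map_pow, hym, map_one]
      have h3 := orderOf_dvd_of_pow_eq_one h2
      exact Nat.Coprime.coprime_dvd_left h3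
        ((Nat.Prime.coprime_iff_not_dvd hpp.out).mpr hm).symm
    · intro u hu
      apply Subtype.ext
      rw [MulAut.conjNormal_apply]
      have hu' : (u : G) ∈ omegaOne p B := mem_omegaOne u.2 (congrArg Subtype.val hu)
      have := (Subgroup.mem_centralizer_iff.mp hyc) _ hu'
      rw [← this]; group
  rw [Subgroup.mem_centralizer_iff]
  intro u hu
  have h2 := congrArg (fun f => ((f ⟨u, hu⟩ : B) : G)) h1
  simp only [MulAut.conjNormal_apply, MulAut.one_apply] at h2
  calc u * y = (y * u * y⁻¹) * y := by rw [h2]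
    _ = y * u := by group

theorem le_stab_of_pow {p : ℕ} (C D : Subgroup G) [C.Normal] [hD : D.Normal]
    (h : ∀ x ∈ D, ∃ k : ℕ, x ^ p ^ k ∈ C) :
    D ≤ (pCore p (G ⧸ C)).comap (QuotientGroup.mk' C) := by
  rw [← Subgroup.map_le_iff_le_comap]
  apply le_pCore (hD.map _ (QuotientGroup.mk'_surjective C))
  rintro ⟨_, x, hx, rfl⟩
  obtain ⟨k, hk⟩ := h x hx
  refine ⟨k, Subtype.ext ?_⟩
  show (QuotientGroup.mk' C x) ^ p ^ k = 1
  rw [← map_pow]
  exact (QuotientGroup.eq_one_iff _).mpr hk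

theorem pow_mem_of_mem_stab [Finite G] {p : ℕ} [Fact p.Prime] (C : Subgroup G) [C.Normal] (x : G)
    (hx : x ∈ (pCore p (G ⧸ C)).comap (QuotientGroup.mk' C)) : ∃ k : ℕ, x ^ p ^ k ∈ C := by
  obtain ⟨k, hk⟩ := (pCore_isPGroup (p := p) (G := G ⧸ C)) ⟨_, hx⟩
  refine ⟨k, ?_⟩
  have := congrArg Subtype.val hk
  rw [← QuotientGroup.eq_one_iff]
  simpa using this

/-- Glauberman's `ZJ`-theorem for the full centre of the Thompson subgroup generated by the
elementary abelian subgroups of largest order. -/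
theorem zje_normal [Finite G] {p : ℕ} [Fact p.Prime] (hp : p ≠ 2)
    (hc : Subgroup.centralizer (pCore p G : Set G) ≤ pCore p G) (S : Sylow p G)
    (hst : ∀ (V : Subgroup G) [V.Normal], IsPGroup p V → ∀ a ∈ (S : Subgroup G),
      ⁅⁅V, Subgroup.zpowers a⁆, Subgroup.zpowers a⁆ = ⊥ →
        (QuotientGroup.mk a : G ⧸ Subgroup.centralizer (V : Set G)) ∈
          pCore p (G ⧸ Subgroup.centralizer (V : Set G))) :
    (centerThompsonOf p (S : Subgroup G)).Normal := by
  have hQmap : ∀ (σ : G ≃* G) (A : Subgroup G), IsElementaryAbelian p A →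
      IsElementaryAbelian p (A.map σ.toMonoidHom) := fun σ A hA => elemAb_map _ hA
  obtain ⟨J, hJ⟩ : ∃ J, J = sSup (maxQ (IsElementaryAbelian p) (S : Subgroup G)) := ⟨_, rfl⟩
  obtain ⟨Z, hZ⟩ : ∃ Z, Z = J ⊓ Subgroup.centralizer (J : Set G) := ⟨_, rfl⟩
  have hZdef : centerThompsonOf p (S : Subgroup G) = Z := by
    unfold centerThompsonOf
    rw [thompsonSubgroupOf_eq, ← hJ, hZ]
  rw [hZdef]
  obtain ⟨A₀, hA₀⟩ := maxQ_nonempty (Q := IsElementaryAbelian p) elemAb_bot (S : Subgroup G)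
  have hAJ : ∀ A ∈ maxQ (IsElementaryAbelian p) (S : Subgroup G), A ≤ J :=
    fun A hA => hJ ▸ le_sSup hA
  have hJS : J ≤ (S : Subgroup G) := hJ ▸ sSup_le fun A hA => hA.1
  have hZS : Z ≤ (S : Subgroup G) := hZ ▸ inf_le_left.trans hJS
  have hZJ : Z ≤ Subgroup.centralizer (J : Set G) := hZ ▸ inf_le_right
  have hZab : IsMulCommutative Z := hZ ▸ comm_inf_centralizer J
  have hSZ : (S : Subgroup G) ≤ Subgroup.normalizer (Z : Set G) := by
    rw [hZ]
    refine Subgroup.le_normalizer.trans (le_trans ?_ (normalizer_le_normalizer_inf_centralizer J))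
    rw [hJ]
    exact normalizer_le_normalizer_sSup_maxQ hQmap _
  have hZSc : ⁅Z, (S : Subgroup G)⁆ ≤ Z := commutator_le_of_le_normalizer hSZ le_rfl
  -- step (i)
  have hZR : Z ≤ pCore p G := by
    intro a ha
    have hRS : pCore p G ≤ (S : Subgroup G) := pCore_le_sylow S
    have hq : ⁅⁅pCore p G, Subgroup.zpowers a⁆, Subgroup.zpowers a⁆ = ⊥ := by
      have haZ : Subgroup.zpowers a ≤ Z := Subgroup.zpowers_le.mpr ha
      rw [eq_bot_iff, ← comm_bot hZab]
      refine Subgroup.commutator_mono ?_ haZ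
      rw [Subgroup.commutator_comm]
      exact (Subgroup.commutator_mono haZ hRS).trans hZSc
    have h1 := hst (pCore p G) pCore_isPGroup a (hZS ha) hq
    have h2 : (pCore p (G ⧸ Subgroup.centralizer (pCore p G : Set G))).comap
        (QuotientGroup.mk' (Subgroup.centralizer (pCore p G : Set G))) ≤ pCore p G := by
      apply le_pCore inferInstance
      apply IsPGroup.comap_of_ker_isPGroup pCore_isPGroup
      rw [QuotientGroup.ker_mk']
      exact pCore_isPGroup.to_le hc
    exact h2 h1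
  -- step (ii)
  have key : ∀ n : ℕ, ∀ B : Subgroup G, B.Normal → IsPGroup p B → Nat.card B = n →
      (Z ⊓ B).Normal := by
    intro n
    induction n using Nat.strong_induction_on with
    | _ n ih =>
    intro B hBn hBp hBcard
    haveI := hBn
    have hB₁ : Subgroup.normalClosure ((Z ⊓ B : Subgroup G) : Set G) ≤ B :=
      Subgroup.normalClosure_le_normal (fun x hx => (Subgroup.mem_inf.mp hx).2)
    have hXB₁ : Z ⊓ B ≤ Subgroup.normalClosure ((Z ⊓ B : Subgroup G) : Set G) :=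
      Subgroup.le_normalClosure
    by_cases hB₁B : Subgroup.normalClosure ((Z ⊓ B : Subgroup G) : Set G) = B
    swap
    · have hlt := card_lt_of_lt (lt_of_le_of_ne hB₁ hB₁B)
      rw [hBcard] at hlt
      have h1 := ih _ hlt _ Subgroup.normalClosure_normal (hBp.to_le hB₁) rfl
      have h2 : Z ⊓ Subgroup.normalClosure ((Z ⊓ B : Subgroup G) : Set G) = Z ⊓ B :=
        le_antisymm (inf_le_inf_left _ hB₁) (le_inf inf_le_left hXB₁)
      rwa [h2] at h1
    by_cases hBbot : B = ⊥
    · rw [hBbot, inf_bot_eq]; infer_instance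
    have hBS : B ≤ (S : Subgroup G) := normal_pgroup_le_sylow hBn hBp S
    have hB'lt : ⁅B, B⁆ < B :=
      Cfsg.Agent.Lib.Helper1.commutator_lt_of_isPGroup hBp hBp Subgroup.le_normalizer hBbot
    have hM : (Z ⊓ ⁅B, B⁆).Normal := by
      have hlt := card_lt_of_lt hB'lt
      rw [hBcard] at hlt
      exact ih _ hlt _ inferInstance (hBp.to_le hB'lt.le) rfl
    haveI := hM
    have hXB : ⁅Z ⊓ B, B⁆ ≤ Z ⊓ ⁅B, B⁆ :=
      le_inf ((Subgroup.commutator_mono inf_le_left hBS).trans hZSc)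
        (Subgroup.commutator_mono inf_le_right le_rfl)
    have hBB : ⁅B, B⁆ ≤ Z := by
      have h1 := commutator_normalClosure_le (Z ⊓ B) B (Z ⊓ ⁅B, B⁆) hXB
      rw [hB₁B] at h1
      exact h1.trans inf_le_left
    have hcl : ⁅⁅B, B⁆, B⁆ = ⊥ := by
      have h0 : ⁅Z ⊓ B, ⁅B, B⁆⁆ ≤ (⊥ : Subgroup G) := by
        rw [← comm_bot hZab]
        exact Subgroup.commutator_mono inf_le_left hBB
      have h1 := commutator_normalClosure_le (Z ⊓ B) ⁅B, B⁆ ⊥ h0
      rw [hB₁B] at h1
      rw [Subgroup.commutator_comm]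
      exact le_bot_iff.mp h1
    obtain ⟨B₁, hB₁def⟩ : ∃ B₁, B₁ = omegaOne p B := ⟨_, rfl⟩
    have hB₁le : B₁ ≤ B := hB₁def ▸ omegaOne_le B
    haveI hB₁n : B₁.Normal := hB₁def ▸ omegaOne_normal B
    have hB₁exp : ∀ x ∈ B₁, x ^ p = 1 := hB₁def ▸ omegaOne_exp_of_class_two hp B hBp hcl
    have hB₁p : IsPGroup p B₁ := hBp.to_le hB₁le
    obtain ⟨L, hL⟩ : ∃ L, L = (pCore p (G ⧸ Subgroup.centralizer (B : Set G))).comap
      (QuotientGroup.mk' (Subgroup.centralizer (B : Set G))) := ⟨_, rfl⟩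
    have hCL : Subgroup.centralizer (B₁ : Set G) ≤ L := by
      rw [hL]
      apply le_stab_of_pow
      intro x hx
      exact pow_mem_centralizer_of_centralizer_omegaOne hp B hBp x (hB₁def ▸ hx)
    have hL₁L : (pCore p (G ⧸ Subgroup.centralizer (B₁ : Set G))).comap
        (QuotientGroup.mk' (Subgroup.centralizer (B₁ : Set G))) ≤ L := by
      rw [hL]
      apply le_stab_of_pow
      intro x hx
      obtain ⟨k, hk⟩ := pow_mem_of_mem_stab _ x hx
      obtain ⟨k', hk'⟩ := pow_mem_centralizer_of_centralizer_omegaOne hp B hBp _ (hB₁def ▸ hk)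
      exact ⟨k + k', by rw [pow_add, pow_mul]; exact hk'⟩
    obtain ⟨f1, f2⟩ := stab_preimage_facts (Subgroup.centralizer (B : Set G)) S
    rw [← hL] at f1 f2
    have hnorm : ∀ Y : Subgroup G, Y ≤ B →
        Subgroup.normalizer ((((S : Subgroup G) ⊓ L : Subgroup G)) : Set G) ≤
          Subgroup.normalizer (Y : Set G) → Y.Normal := by
      intro Y hYB h1
      rw [← Subgroup.normalizer_eq_top_iff, eq_top_iff, ← f2]
      have h2 : Subgroup.centralizer (B : Set G) ≤ Subgroup.normalizer (Y : Set G) :=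
        le_normalizer_of_le_centralizer (Subgroup.centralizer_le
          (SetLike.coe_subset_coe.mpr hYB))
      exact sup_le h1 (f1.trans (sup_le h2 (Subgroup.le_normalizer.trans h1)))
    have hcommU : ∀ U ∈ maxQ (IsElementaryAbelian p) (S : Subgroup G), ⁅B₁, B₁⁆ ≤ U := by
      intro U hU x hx
      have hx1 : x ∈ B₁ := Subgroup.commutator_le_left B₁ B₁ hx
      have hx2 : x ∈ Z := hBB (Subgroup.commutator_mono hB₁le hB₁le hx)
      exact mem_of_maxQ_elemAb hU (hZS hx2) (hB₁exp x hx1)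
        (Subgroup.centralizer_le (SetLike.coe_subset_coe.mpr (hAJ U hU)) (hZJ hx2))
    have hall : ∀ U ∈ maxQ (IsElementaryAbelian p) (S : Subgroup G), B₁ ≤ U := by
      by_contra hall
      push Not at hall
      obtain ⟨U, hU, hBU⟩ := hall
      obtain ⟨A, hA, hBA, hnBA, hBNA⟩ := repl_ambient hp (Q := IsElementaryAbelian p)
        (fun _ h => h.1) (fun A _ hA hT h => ⟨hT, h p hA.2⟩) (S : Subgroup G) S.2 B₁
        (hB₁le.trans hBS) Subgroup.le_normalizer_of_normal ⟨U, hU, hcommU U hU, hBU⟩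
      have hAab := hA.2.1.1
      have hAL : A ≤ L := by
        intro a ha
        have haA : Subgroup.zpowers a ≤ A := Subgroup.zpowers_le.mpr ha
        have hq : ⁅⁅B₁, Subgroup.zpowers a⁆, Subgroup.zpowers a⁆ = ⊥ := by
          rw [eq_bot_iff, ← comm_bot hAab]
          refine Subgroup.commutator_mono ?_ haA
          rw [Subgroup.commutator_comm]
          exact commutator_le_of_le_normalizer hBNA haA
        exact hL₁L (hst B₁ hB₁p a (hA.1 ha) hq)
      obtain ⟨hAD, hsub⟩ := maxQ_of_le hA (le_inf hA.1 hAL)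
        (inf_le_left : (S : Subgroup G) ⊓ L ≤ _)
      obtain ⟨J', hJ'⟩ : ∃ J', J' = sSup (maxQ (IsElementaryAbelian p) ((S : Subgroup G) ⊓ L)) :=
        ⟨_, rfl⟩
      have hJ'J : J' ≤ J := by
        rw [hJ', hJ]
        exact sSup_le fun A' hA' => le_sSup (hsub A' hA')
      obtain ⟨X, hX⟩ : ∃ X, X = B ⊓ Subgroup.centralizer (J' : Set G) := ⟨_, rfl⟩
      have hZX : Z ⊓ B ≤ X := by
        rw [hX]
        exact le_inf inf_le_right (inf_le_left.trans (hZJ.trans
          (Subgroup.centralizer_le (SetLike.coe_subset_coe.mpr hJ'J))))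
      haveI hXn : X.Normal := by
        apply hnorm X (hX ▸ inf_le_left)
        intro g hg
        have hgJ : g ∈ Subgroup.normalizer (J' : Set G) :=
          hJ' ▸ normalizer_le_normalizer_sSup_maxQ hQmap _ hg
        apply mem_normalizer_of_conj_le
        intro y hy
        rw [hX] at hy ⊢
        obtain ⟨h1, h2⟩ := Subgroup.mem_inf.mp hy
        refine Subgroup.mem_inf.mpr ⟨hBn.conj_mem y h1 g, ?_⟩
        rw [Subgroup.mem_centralizer_iff]
        intro h hh
        have h3 : g⁻¹ * h * g ∈ J' := by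
          have := (Subgroup.mem_normalizer_iff.mp (inv_mem hgJ) h).mp hh
          rwa [inv_inv] at this
        have h4 := (Subgroup.mem_centralizer_iff.mp h2) _ h3
        calc h * (g * y * g⁻¹) = g * ((g⁻¹ * h * g) * y) * g⁻¹ := by group
          _ = g * (y * (g⁻¹ * h * g)) * g⁻¹ := by rw [h4]
          _ = g * y * g⁻¹ * h := by group
      have hBX : B ≤ X := by
        rw [← hB₁B]
        exact Subgroup.normalClosure_le_normal (fun x hx => hZX hx)
      apply hnBA
      intro x hx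
      have hxX := hBX (hB₁le hx)
      rw [hX] at hxX
      exact mem_of_maxQ_elemAb hA (hBS (hB₁le hx)) (hB₁exp x hx)
        (Subgroup.centralizer_le (SetLike.coe_subset_coe.mpr (hJ' ▸ le_sSup hAD))
          (Subgroup.mem_inf.mp hxX).2)
    have hJL : J ≤ L := by
      refine le_trans ?_ hCL
      rw [hJ]
      apply sSup_le
      intro U hU u hu
      rw [Subgroup.mem_centralizer_iff]
      intro x hx
      haveI := hU.2.1.1
      exact setLike_mul_comm (hall U hU hx) hu
    have hJ'J : sSup (maxQ (IsElementaryAbelian p) ((S : Subgroup G) ⊓ L)) = J := by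
      have hle : J ≤ (S : Subgroup G) ⊓ L := le_inf hJS hJL
      apply le_antisymm
      · rw [hJ]
        exact sSup_le fun A' hA' => le_sSup ((maxQ_of_le hA₀ ((hAJ A₀ hA₀).trans hle)
          inf_le_left).2 A' hA')
      · rw [hJ]
        exact sSup_le fun A' hA' => le_sSup (maxQ_of_le hA' ((hAJ A' hA').trans hle)
          inf_le_left).1
    apply hnorm (Z ⊓ B) inf_le_right
    intro g hg
    have hgJ : g ∈ Subgroup.normalizer (J : Set G) :=
      hJ'J ▸ normalizer_le_normalizer_sSup_maxQ hQmap _ hg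
    have hgZ : g ∈ Subgroup.normalizer (Z : Set G) :=
      hZ ▸ normalizer_le_normalizer_inf_centralizer J hgJ
    apply mem_normalizer_of_conj_le
    intro y hy
    obtain ⟨h1, h2⟩ := Subgroup.mem_inf.mp hy
    exact Subgroup.mem_inf.mpr ⟨(Subgroup.mem_normalizer_iff.mp hgZ y).mp h1, hBn.conj_mem y h2 g⟩
  have := key _ (pCore p G) inferInstance pCore_isPGroup rfl
  rwa [inf_eq_left.mpr hZR] at this

/-- `Z(J_e(Q))` as a functor. -/
def zjF (p : ℕ) (Q : Type u) [Group Q] : Subgroup Q :=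
  thompsonSubgroup p Q ⊓ Subgroup.centralizer (thompsonSubgroup p Q : Set Q)

theorem iF_zjF {p : ℕ} {X : Type u} [Group X] (D : Subgroup X) :
    inducedFunctor (zjF p) D = centerThompsonOf p D := by
  unfold inducedFunctor zjF centerThompsonOf thompsonSubgroupOf
  ext x
  constructor
  · rintro ⟨y, hy, rfl⟩
    obtain ⟨h1, h2⟩ := Subgroup.mem_inf.mp hy
    refine Subgroup.mem_inf.mpr ⟨⟨y, h1, rfl⟩, ?_⟩
    rw [Subgroup.mem_centralizer_iff]
    rintro _ ⟨z, hz, rfl⟩
    exact congrArg Subtype.val ((Subgroup.mem_centralizer_iff.mp h2) z hz)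
  · intro hx
    obtain ⟨⟨y, h1, rfl⟩, h2⟩ := Subgroup.mem_inf.mp hx
    refine ⟨y, Subgroup.mem_inf.mpr ⟨h1, ?_⟩, rfl⟩
    rw [Subgroup.mem_centralizer_iff]
    intro z hz
    exact Subtype.ext ((Subgroup.mem_centralizer_iff.mp h2) _ ⟨z, hz, rfl⟩)

theorem zjF_char {p : ℕ} [Fact p.Prime] : IsCharPFunctor.{u} p (zjF p) := by
  constructor
  · intro Q _ _ hQ hnt h
    obtain ⟨z, hzc, hz1, hzp⟩ := exists_center_order_p hQ
    apply hz1
    obtain ⟨A₀, hA₀⟩ := maxElemAb_nonempty (G := Q) (p := p)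
    have hcen : ∀ T : Set Q, z ∈ Subgroup.centralizer T := by
      intro T
      rw [Subgroup.mem_centralizer_iff]
      intro y _
      exact (Subgroup.mem_center_iff.mp hzc y)
    have : z ∈ zjF p Q :=
      Subgroup.mem_inf.mpr ⟨le_sSup hA₀ (mem_of_maxElemAb hA₀ hzp (hcen _)), hcen _⟩
    rwa [h, Subgroup.mem_bot] at this
  · intro Q R _ _ _ _ φ
    unfold zjF
    rw [← thompsonSubgroup_map_equiv φ]
    ext x
    constructor
    · rintro ⟨y, hy, rfl⟩
      obtain ⟨h1, h2⟩ := Subgroup.mem_inf.mp hy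
      refine Subgroup.mem_inf.mpr ⟨⟨y, h1, rfl⟩, ?_⟩
      rw [Subgroup.mem_centralizer_iff]
      rintro _ ⟨z, hz, rfl⟩
      have := congrArg φ ((Subgroup.mem_centralizer_iff.mp h2) z hz)
      rw [map_mul, map_mul] at this
      exact this
    · intro hx
      obtain ⟨⟨y, h1, rfl⟩, h2⟩ := Subgroup.mem_inf.mp hx
      refine ⟨y, Subgroup.mem_inf.mpr ⟨h1, ?_⟩, rfl⟩
      rw [Subgroup.mem_centralizer_iff]
      intro z hz
      apply φ.injective
      rw [map_mul, map_mul]
      exact (Subgroup.mem_centralizer_iff.mp h2) _ ⟨z, hz, rfl⟩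

end Cfsg.Agent.Lib.Helper5
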