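import Cfsg.Agent.Lib.Helper5.DK14
import Cfsg.Agent.Lib.Helper5.ZJE
import Cfsg.Agent.Lib.Helper5.ZJFun
import Cfsg.Agent.Lib.Helper13.SecApps

set_option autoImplicit false
set_option linter.style.haveILetI false
set_option linter.unusedSectionVars false

namespace Cfsg.Agent.Lib.Helper5

open Cfsg Cfsg.Agent.Lib.Helper13

universe u

variable {p : ℕ}

theorem QFree.sec {G Z : Type u} [Group G] [Group Z] (h : QFree p G) (hZ : Sec G Z) : QFree p Z := by
  obtain ⟨K, f, hf⟩ := hZ
  exact (h.subgroup K).of_surjective f hf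

/-- explicit-Sylow form of `controlsStrongFusion_of_FC` -/
theorem controls_of_FC [Fact p.Prime] {W : ∀ (Q : Type u) [Group Q], Subgroup Q}
    (hW : Cfsg.IsCharPFunctor.{u} p W) {Z : Type u} [Group Z] [Finite Z] (h : FC p {W} Z)
    (T : Sylow p Z) (A : Set Z) (hA : A ⊆ (T : Subgroup Z)) :
    ControlsStrongFusionOf (Subgroup.normalizer (Cfsg.inducedFunctor (G := Z) W (T : Subgroup Z) :
      Set Z)) (T : Subgroup Z) A := by
  have h1 : FCSF (ind {W} Z) ⊤ (T : Subgroup Z) :=
    FCSF_of_familyControls (ind_isConjugacyFunctor (by rintro _ rfl; exact hW)) h le_top T.2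
      (not_dvd_relIndex_top T)
  have e : ind {W} Z = {Cfsg.inducedFunctor (G := Z) W} := by
    unfold ind; rw [Set.image_singleton]
  rw [e, ← CSF_iff_FCSF] at h1
  refine ⟨hA, fun g hg => ?_⟩
  have hBk : cj (Subgroup.closure A) g⁻¹ ≤ T :=
    cj_closure_le_of_image_subset (by simpa using hg)
  obtain ⟨x, hx, e⟩ := h1 (Subgroup.closure A) ((Subgroup.closure_le _).mpr hA) g⁻¹
    (Subgroup.mem_top _) hBk
  exact ⟨x⁻¹, inv_mem (Subgroup.mem_inf.mp hx).2, fun a ha => by
    simpa using (e a (Subgroup.subset_closure ha)).symm⟩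

/-- a functor that is normal in all constrained `QFree` groups controls strong fusion in `QFree`
groups -/
theorem FC_of_qFree [Fact p.Prime] {W : ∀ (Q : Type u) [Group Q], Subgroup Q}
    (hW : Cfsg.IsCharPFunctor.{u} p W)
    (hWn : ∀ (Z : Type u) [Group Z] [Finite Z], QFree p Z → Constr p Z → ∀ T : Sylow p Z,
      (Cfsg.inducedFunctor (G := Z) W (T : Subgroup Z)).Normal)
    {G : Type u} [Group G] [Finite G] (hQ : QFree p G) : FC p {W} G := by
  refine FC_of_sections (by rintro _ rfl; exact hW) ?_ G (Sec.refl G)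
  intro Z _ hZ hC
  haveI := hZ.finite
  obtain ⟨T⟩ : Nonempty (Sylow p Z) := inferInstance
  exact FC_singleton_of_normal T (hWn Z (hQ.sec hZ) hC T)

theorem zjF_normal_of_qFree [Fact p.Prime] (hp : p ≠ 2) (Z : Type u) [Group Z] [Finite Z]
    (hQ : QFree p Z) (hC : Constr p Z) (T : Sylow p Z) :
    (Cfsg.inducedFunctor (G := Z) (zjF p) (T : Subgroup Z)).Normal := by
  rw [iF_zjF]
  exact zje_normal hp hC T (fun V _ hV a _ hq => hQ.stable V hV a hq)

end Cfsg.Agent.Lib.Helper5
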