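import Mathlib
import Cfsg.Prelude.Def_AxialAlgebras

set_option autoImplicit false

namespace Cfsg.Agent.Lib.Helper5

open Cfsg.Axial

variable {V : Type*} [AddCommGroup V] [Module ℝ V]

theorem eigen_map_maj (mul : V →ₗ[ℝ] V →ₗ[ℝ] V) (φ : V ≃ₗ[ℝ] V)
    (hφ : ∀ u v, φ (mul u v) = mul (φ u) (φ v)) (a : V) (c : ℝ) (v : V) (hv : v ∈ eigen mul a c) :
    φ v ∈ eigen mul (φ a) c := by
  have hv' : mul a v = c • v := Module.End.mem_eigenspace_iff.mp hv
  exact Module.End.mem_eigenspace_iff.mpr (by rw [← hφ, hv', map_smul])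

theorem eigenSum_map_maj (mul : V →ₗ[ℝ] V →ₗ[ℝ] V) (φ : V ≃ₗ[ℝ] V)
    (hφ : ∀ u v, φ (mul u v) = mul (φ u) (φ v)) (a : V) (S : Set ℝ) (v : V)
    (hv : v ∈ eigenSum mul a S) : φ v ∈ eigenSum mul (φ a) S := by
  have h : eigenSum mul a S ≤ (eigenSum mul (φ a) S).comap (φ : V →ₗ[ℝ] V) := by
    unfold eigenSum
    refine iSup₂_le ?_
    intro c hc v hv
    rw [Submodule.mem_comap]
    exact (le_iSup₂ (f := fun c (_ : c ∈ S) => eigen mul (φ a) c) c hc)
      (eigen_map_maj mul φ hφ a c v hv)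
  exact h hv

theorem majorana_transport (mul : V →ₗ[ℝ] V →ₗ[ℝ] V) (B : LinearMap.BilinForm ℝ V)
    (μ φ : V ≃ₗ[ℝ] V) (a : V) (h : IsMajoranaPair mul B μ a)
    (hφ : ∀ u v, φ (mul u v) = mul (φ u) (φ v)) (hc : φ * μ = μ * φ) :
    IsMajoranaPair mul B μ (φ a) := by
  obtain ⟨hm, hB, ⟨⟨ha0, haa, htop, hfus⟩, hprim⟩, hmiy1, hmiy2⟩ := h
  have hψ : ∀ u v, φ.symm (mul u v) = mul (φ.symm u) (φ.symm v) := by
    intro u v
    apply φ.injective
    rw [hφ]
    simp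
  have hsa : φ.symm (φ a) = a := by simp
  have hcomm : ∀ v, μ (φ v) = φ (μ v) := fun v =>
    (congrArg (fun f : V ≃ₗ[ℝ] V => f v) hc).symm
  refine ⟨hm, hB, ⟨⟨?_, ?_, ?_, ?_⟩, ?_⟩, ?_, ?_⟩
  · intro h0
    exact ha0 (φ.map_eq_zero_iff.mp h0)
  · rw [← hφ, haa]
  · rw [eq_top_iff]
    intro v _
    have := eigenSum_map_maj mul φ hφ a _ (φ.symm v) (htop ▸ Submodule.mem_top)
    simpa using this
  · intro c hc' d hd u hu v hv
    have hu' := eigen_map_maj mul φ.symm hψ (φ a) c u hu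
    have hv' := eigen_map_maj mul φ.symm hψ (φ a) d v hv
    rw [hsa] at hu' hv'
    have := eigenSum_map_maj mul φ hφ a _ _ (hfus c hc' d hd _ hu' _ hv')
    rw [hφ] at this
    simpa using this
  · apply le_antisymm
    · intro v hv
      have hv' := eigen_map_maj mul φ.symm hψ (φ a) 1 v hv
      rw [hsa, hprim] at hv'
      obtain ⟨r, hr⟩ := Submodule.mem_span_singleton.mp hv'
      rw [Submodule.mem_span_singleton]
      exact ⟨r, by rw [← map_smul, hr]; simp⟩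
    · rw [Submodule.span_singleton_le_iff_mem]
      exact Module.End.mem_eigenspace_iff.mpr (by rw [one_smul, ← hφ, haa])
  · intro v hv
    have hv' := eigenSum_map_maj mul φ.symm hψ (φ a) _ v hv
    rw [hsa] at hv'
    have h1 : μ (φ.symm v) = φ.symm v := hmiy1 _ hv'
    show μ v = v
    calc μ v = μ (φ (φ.symm v)) := by simp
      _ = φ (μ (φ.symm v)) := hcomm _
      _ = v := by rw [h1]; simp
  · intro v hv
    have hv' := eigen_map_maj mul φ.symm hψ (φ a) _ v hv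
    rw [hsa] at hv'
    have h1 : μ (φ.symm v) = - φ.symm v := hmiy2 _ hv'
    show μ v = - v
    calc μ v = μ (φ (φ.symm v)) := by simp
      _ = φ (μ (φ.symm v)) := hcomm _
      _ = - v := by rw [h1]; simp

theorem majorana_decomp (mul : V →ₗ[ℝ] V →ₗ[ℝ] V) (B : LinearMap.BilinForm ℝ V)
    (μ : V ≃ₗ[ℝ] V) (a : V) (h : IsMajoranaPair mul B μ a) (b : V) (hb : μ b = b) :
    ∃ (l : ℝ) (u w : V), b = l • a + u + w ∧ mul a u = 0 ∧ mul a w = (1 / 4 : ℝ) • w := by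
  obtain ⟨hm, hB, ⟨⟨ha0, haa, htop, hfus⟩, hprim⟩, hmiy1, hmiy2⟩ := h
  have hbt : b ∈ eigenSum mul a majoranaSpectrum := htop ▸ Submodule.mem_top
  unfold eigenSum majoranaSpectrum at hbt
  rw [iSup_insert, iSup_insert, iSup_insert, iSup_singleton, Submodule.mem_sup] at hbt
  obtain ⟨v1, hv1, r1, hr1, hb1⟩ := hbt
  rw [Submodule.mem_sup] at hr1
  obtain ⟨v0, hv0, r2, hr2, hb2⟩ := hr1
  rw [Submodule.mem_sup] at hr2
  obtain ⟨vq, hvq, vt, hvt, hb3⟩ := hr2
  have m1 : μ v1 = v1 := hmiy1 v1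
    ((le_iSup₂ (f := fun c (_ : c ∈ ({1, 0, 1 / 4} : Set ℝ)) => eigen mul a c) 1 (by simp)) hv1)
  have m0 : μ v0 = v0 := hmiy1 v0
    ((le_iSup₂ (f := fun c (_ : c ∈ ({1, 0, 1 / 4} : Set ℝ)) => eigen mul a c) 0 (by simp)) hv0)
  have mq : μ vq = vq := hmiy1 vq
    ((le_iSup₂ (f := fun c (_ : c ∈ ({1, 0, 1 / 4} : Set ℝ)) => eigen mul a c) (1 / 4) (by simp)) hvq)
  have mt : μ vt = - vt := hmiy2 vt hvt
  have hbe : b = v1 + (v0 + (vq + vt)) := by rw [hb3, hb2, hb1]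
  have hvt0 : vt = 0 := by
    have h1 := hb
    rw [hbe, map_add, map_add, map_add, m1, m0, mq, mt] at h1
    have h2 : (2 : ℝ) • vt = 0 := by
      calc (2 : ℝ) • vt = (v1 + (v0 + (vq + vt))) - (v1 + (v0 + (vq + -vt))) := by module
        _ = 0 := by rw [h1, sub_self]
    exact (smul_eq_zero.mp h2).resolve_left (by norm_num)
  rw [hprim] at hv1
  obtain ⟨l, hl⟩ := Submodule.mem_span_singleton.mp hv1
  refine ⟨l, v0, vq, ?_, ?_, ?_⟩
  · rw [hbe, hvt0, hl]; abel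
  · have := Module.End.mem_eigenspace_iff.mp hv0
    rw [zero_smul] at this
    exact this
  · exact Module.End.mem_eigenspace_iff.mp hvq

theorem majorana_rules (mul : V →ₗ[ℝ] V →ₗ[ℝ] V) (B : LinearMap.BilinForm ℝ V)
    (μ : V ≃ₗ[ℝ] V) (a : V) (h : IsMajoranaPair mul B μ a) (u w : V) (hu : mul a u = 0)
    (hw : mul a w = (1 / 4 : ℝ) • w) :
    mul a (mul u u) = 0 ∧ mul a (mul u w) = (1 / 4 : ℝ) • mul u w ∧
      ∃ (r : ℝ) (z : V), mul w w = r • a + z ∧ mul a z = 0 := by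
  obtain ⟨hm, hB, ⟨⟨ha0, haa, htop, hfus⟩, hprim⟩, hmiy1, hmiy2⟩ := h
  have hq : (1 / 4 : ℝ) ∈ majoranaSpectrum := by
    unfold majoranaSpectrum
    simp
  have h0 : (0 : ℝ) ∈ majoranaSpectrum := by
    unfold majoranaSpectrum
    simp
  have hue : u ∈ eigen mul a 0 := Module.End.mem_eigenspace_iff.mpr (by rw [hu, zero_smul])
  have hwe : w ∈ eigen mul a (1 / 4) := Module.End.mem_eigenspace_iff.mpr hw
  have l00 : monsterLaw (1 / 4 : ℝ) (1 / 32) 0 0 = {0} := by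
    unfold monsterLaw
    rw [if_neg (by norm_num), if_neg (by norm_num), if_neg (by norm_num), if_neg (by norm_num),
      if_pos rfl]
  have l0q : monsterLaw (1 / 4 : ℝ) (1 / 32) 0 (1 / 4) = {1 / 4} := by
    unfold monsterLaw
    rw [if_neg (by norm_num), if_neg (by norm_num), if_neg (by norm_num), if_pos (Or.inr rfl)]
  have lqq : monsterLaw (1 / 4 : ℝ) (1 / 32) (1 / 4) (1 / 4) = {1, 0} := by
    unfold monsterLaw
    rw [if_neg (by norm_num), if_neg (by norm_num), if_pos ⟨rfl, rfl⟩]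
  refine ⟨?_, ?_, ?_⟩
  · have := hfus 0 h0 0 h0 u hue u hue
    rw [l00] at this
    unfold eigenSum at this
    rw [iSup_singleton] at this
    have h2 := Module.End.mem_eigenspace_iff.mp this
    rw [zero_smul] at h2
    exact h2
  · have := hfus 0 h0 (1 / 4) hq u hue w hwe
    rw [l0q] at this
    unfold eigenSum at this
    rw [iSup_singleton] at this
    exact Module.End.mem_eigenspace_iff.mp this
  · have := hfus (1 / 4) hq (1 / 4) hq w hwe w hwe
    rw [lqq] at this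
    unfold eigenSum at this
    rw [iSup_insert, iSup_singleton, Submodule.mem_sup] at this
    obtain ⟨v1, hv1, v0, hv0, hv⟩ := this
    rw [hprim] at hv1
    obtain ⟨r, hr⟩ := Submodule.mem_span_singleton.mp hv1
    refine ⟨r, v0, by rw [hr, hv], ?_⟩
    have h2 := Module.End.mem_eigenspace_iff.mp hv0
    rw [zero_smul] at h2
    exact h2

end Cfsg.Agent.Lib.Helper5
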