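import Mathlib
import Cfsg.Agent.Lib.Helper5.Maj1

set_option autoImplicit false

namespace Cfsg.Agent.Lib.Helper5

open Cfsg.Axial

variable {V : Type*} [AddCommGroup V] [Module ℝ V]

theorem maj_core (mul : V →ₗ[ℝ] V →ₗ[ℝ] V) (hcm : IsCommMul mul) (a b u w : V) (l : ℝ)
    (hb : b = l • a + u + w) (ha0 : a ≠ 0) (haa : mul a a = a) (hau : mul a u = 0)
    (haw : mul a w = (1 / 4 : ℝ) • w) (hbb : mul b b = b) (huu0 : mul a (mul u u) = 0)
    (huw : mul a (mul u w) = (1 / 4 : ℝ) • mul u w) (r : ℝ) (z : V) (hww : mul w w = r • a + z)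
    (haz : mul a z = 0)
    (hσ : mul b (mul a b - (1 / 4 : ℝ) • a - (1 / 4 : ℝ) • b) = ((3 * l - 1) / 4) • b) :
    (w = 0 ∧ (l = 0 ∨ l = 1)) ∨ (l = 1 / 8 ∧ mul u u = (5 / 8 : ℝ) • u ∧ mul u w = (15 / 32 : ℝ) • w ∧
      mul w w = (7 / 64 : ℝ) • a + (3 / 8 : ℝ) • u) := by
  have hua : mul u a = 0 := by rw [hcm u a]; exact hau
  have hwa : mul w a = (1 / 4 : ℝ) • w := by rw [hcm w a]; exact haw
  have hwu : mul w u = mul u w := hcm w u
  have hab : mul a b = l • a + (1 / 4 : ℝ) • w := by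
    rw [hb]
    simp only [map_add, map_smul, haa, hau, haw, add_zero]
  have e1 : mul a b - (1 / 4 : ℝ) • a - (1 / 4 : ℝ) • b = ((3 * l - 1) / 4) • a - (1 / 4 : ℝ) • u := by
    rw [hab, hb]
    module
  rw [e1] at hσ
  have e2 : mul b (((3 * l - 1) / 4) • a - (1 / 4 : ℝ) • u) =
      (l * ((3 * l - 1) / 4)) • a - (1 / 4 : ℝ) • mul u u + (((3 * l - 1) / 4) / 4) • w
        - (1 / 4 : ℝ) • mul u w := by
    rw [hb]
    simp only [map_add, map_sub, map_smul, LinearMap.add_apply, LinearMap.smul_apply, haa, hau, hua,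
      hwa, hwu]
    module
  rw [e2] at hσ
  -- components of hσ
  obtain ⟨X0, hX0⟩ : ∃ X0, X0 = -(1 / 4 : ℝ) • mul u u - ((3 * l - 1) / 4) • u := ⟨_, rfl⟩
  obtain ⟨Xq, hXq⟩ : ∃ Xq, Xq = (((3 * l - 1) / 4) / 4) • w - (1 / 4 : ℝ) • mul u w
      - ((3 * l - 1) / 4) • w := ⟨_, rfl⟩
  have hX : X0 + Xq = 0 := by
    have : X0 + Xq = ((l * ((3 * l - 1) / 4)) • a - (1 / 4 : ℝ) • mul u u + (((3 * l - 1) / 4) / 4) • w
        - (1 / 4 : ℝ) • mul u w) - ((3 * l - 1) / 4) • (l • a + u + w) := by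
      rw [hX0, hXq]; module
    rw [this, hσ, hb, sub_self]
  have haX0 : mul a X0 = 0 := by
    rw [hX0]
    simp only [map_sub, map_smul, huu0, hau, smul_zero, sub_zero]
  have haXq : mul a Xq = (1 / 4 : ℝ) • Xq := by
    rw [hXq]
    simp only [map_sub, map_smul, huw, haw]
    module
  have hXq0 : Xq = 0 := by
    have := congrArg (mul a) hX
    rw [map_add, haX0, haXq, zero_add, map_zero] at this
    exact (smul_eq_zero.mp this).resolve_left (by norm_num)
  have hX00 : X0 = 0 := by rw [hXq0, add_zero] at hX; exact hX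
  -- b * b = b
  have e3 : mul b b = (l * l) • a + mul u u + mul w w + (l / 2) • w + (2 : ℝ) • mul u w := by
    rw [hb]
    simp only [map_add, map_smul, LinearMap.add_apply, LinearMap.smul_apply, haa, hau, hua,
      hwa, haw, hwu]
    module
  rw [e3, hww] at hbb
  obtain ⟨y0, hy0⟩ : ∃ y0, y0 = mul u u + z - u := ⟨_, rfl⟩
  obtain ⟨Yq, hYq⟩ : ∃ Yq, Yq = (l / 2) • w + (2 : ℝ) • mul u w - w := ⟨_, rfl⟩
  have hY : (l * l + r - l) • a + y0 + Yq = 0 := by
    have : (l * l + r - l) • a + y0 + Yq = ((l * l) • a + mul u u + (r • a + z) + (l / 2) • w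
        + (2 : ℝ) • mul u w) - (l • a + u + w) := by
      rw [hy0, hYq]; module
    rw [this, hbb, hb, sub_self]
  have hay0 : mul a y0 = 0 := by
    rw [hy0]
    simp only [map_add, map_sub, huu0, haz, hau, add_zero, sub_zero]
  have haYq : mul a Yq = (1 / 4 : ℝ) • Yq := by
    rw [hYq]
    simp only [map_add, map_sub, map_smul, huw, haw]
    module
  have hY1 : (l * l + r - l) • a + (1 / 4 : ℝ) • Yq = 0 := by
    have := congrArg (mul a) hY
    rw [map_add, map_add, map_smul, haa, hay0, haYq, add_zero, map_zero] at this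
    exact this
  have hY2 : (l * l + r - l) • a + (1 / 16 : ℝ) • Yq = 0 := by
    have := congrArg (mul a) hY1
    rw [map_add, map_smul, map_smul, haa, haYq, map_zero, smul_smul] at this
    norm_num at this
    exact this
  have hYq0 : Yq = 0 := by
    have : (3 / 16 : ℝ) • Yq = 0 := by
      calc (3 / 16 : ℝ) • Yq = ((l * l + r - l) • a + (1 / 4 : ℝ) • Yq)
            - ((l * l + r - l) • a + (1 / 16 : ℝ) • Yq) := by module
        _ = 0 := by rw [hY1, hY2, sub_self]
    exact (smul_eq_zero.mp this).resolve_left (by norm_num)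
  have hκ : l * l + r - l = 0 := by
    rw [hYq0, smul_zero, add_zero] at hY1
    exact (smul_eq_zero.mp hY1).resolve_right ha0
  have hy00 : y0 = 0 := by
    rw [hYq0, hκ, zero_smul, zero_add, add_zero] at hY
    exact hY
  -- combine
  have huw1 : mul u w = ((2 - l) / 4) • w := by
    have : (2 : ℝ) • mul u w = (1 - l / 2) • w := by
      calc (2 : ℝ) • mul u w = ((l / 2) • w + (2 : ℝ) • mul u w - w) + (1 - l / 2) • w := by module
        _ = (1 - l / 2) • w := by rw [← hYq, hYq0, zero_add]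
    calc mul u w = (1 / 2 : ℝ) • ((2 : ℝ) • mul u w) := by module
      _ = ((2 - l) / 4) • w := by rw [this]; module
  have huw2 : mul u w = (-3 * ((3 * l - 1) / 4)) • w := by
    calc mul u w = (-4 : ℝ) • ((((3 * l - 1) / 4) / 4) • w - (1 / 4 : ℝ) • mul u w
          - ((3 * l - 1) / 4) • w) + (-3 * ((3 * l - 1) / 4)) • w := by module
      _ = (-3 * ((3 * l - 1) / 4)) • w := by rw [← hXq, hXq0, smul_zero, zero_add]
  have hw8 : ((1 - 8 * l) / 4) • w = 0 := by
    calc ((1 - 8 * l) / 4) • w = (-3 * ((3 * l - 1) / 4)) • w - ((2 - l) / 4) • w := by module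
      _ = 0 := by rw [← huw2, ← huw1, sub_self]
  rcases smul_eq_zero.mp hw8 with h | h
  · right
    have hl : l = 1 / 8 := by linarith
    have huu : mul u u = (5 / 8 : ℝ) • u := by
      calc mul u u = (-4 : ℝ) • (-(1 / 4 : ℝ) • mul u u - ((3 * l - 1) / 4) • u)
            + (-(3 * l - 1)) • u := by module
        _ = (-(3 * l - 1)) • u := by rw [← hX0, hX00, smul_zero, zero_add]
        _ = (5 / 8 : ℝ) • u := by rw [hl]; norm_num
    refine ⟨hl, huu, ?_, ?_⟩
    · rw [huw1, hl]; norm_num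
    · have hz : z = (3 / 8 : ℝ) • u := by
        calc z = (mul u u + z - u) + u - mul u u := by abel
          _ = u - mul u u := by rw [← hy0, hy00, zero_add]
          _ = (3 / 8 : ℝ) • u := by rw [huu]; module
      have hr : r = 7 / 64 := by rw [hl] at hκ; linarith
      rw [hww, hz, hr]
  · left
    refine ⟨h, ?_⟩
    have hr0 : r = 0 := by
      rw [h, map_zero] at hww
      have := congrArg (mul a) hww
      rw [map_zero, map_add, map_smul, haa, haz, add_zero] at this
      exact (smul_eq_zero.mp this.symm).resolve_right ha0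
    rw [hr0, add_zero] at hκ
    have : l * (l - 1) = 0 := by linarith
    rcases mul_eq_zero.mp this with h1 | h1
    · left; exact h1
    · right; linarith

end Cfsg.Agent.Lib.Helper5
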