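import Cfsg.Agent.Lib.Helper5.SL2b
import Cfsg.Prelude.Def_PLocal

set_option autoImplicit false
set_option linter.style.haveILetI false
set_option linter.unusedSectionVars false
set_option linter.unusedSimpArgs false

namespace Cfsg.Agent.Lib.Helper5

open Cfsg

local notation "SL2" => Matrix.SpecialLinearGroup (Fin 2)

section mat

variable {R : Type*} [CommRing R]

/-- the affine matrix `[[A, v], [0, 1]]` -/
def qdMat (A : Matrix (Fin 2) (Fin 2) R) (v : Fin 2 → R) : Matrix (Fin 3) (Fin 3) R :=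
  !![A 0 0, A 0 1, v 0; A 1 0, A 1 1, v 1; 0, 0, 1]

theorem qdMat_det (A : Matrix (Fin 2) (Fin 2) R) (v : Fin 2 → R) : (qdMat A v).det = A.det := by
  rw [Matrix.det_fin_three, Matrix.det_fin_two]
  simp [qdMat]

theorem qdMat_mul (A B : Matrix (Fin 2) (Fin 2) R) (v w : Fin 2 → R) :
    qdMat A v * qdMat B w = qdMat (A * B) (A.mulVec w + v) := by
  ext i j
  fin_cases i <;> fin_cases j <;>
    simp [qdMat, Matrix.mul_apply, Fin.sum_univ_three, Fin.sum_univ_two, Matrix.mulVec,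
      dotProduct]

theorem qdMat_one : qdMat (1 : Matrix (Fin 2) (Fin 2) R) 0 = 1 := by
  ext i j
  fin_cases i <;> fin_cases j <;> simp [qdMat]

theorem qdMat_inj {A B : Matrix (Fin 2) (Fin 2) R} {v w : Fin 2 → R}
    (h : qdMat A v = qdMat B w) : A = B ∧ v = w := by
  have e := fun i j => congrFun (congrFun h i) j
  constructor
  · ext i j
    fin_cases i <;> fin_cases j
    · simpa [qdMat] using e 0 0
    · simpa [qdMat] using e 0 1
    · simpa [qdMat] using e 1 0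
    · simpa [qdMat] using e 1 1
  · ext i
    fin_cases i
    · simpa [qdMat] using e 0 2
    · simpa [qdMat] using e 1 2

theorem eq_qdMat (M : Matrix (Fin 3) (Fin 3) R) (h0 : M 2 0 = 0) (h1 : M 2 1 = 0) (h2 : M 2 2 = 1) :
    M = qdMat !![M 0 0, M 0 1; M 1 0, M 1 1] ![M 0 2, M 1 2] := by
  ext i j
  fin_cases i <;> fin_cases j <;> simp [qdMat, h0, h1, h2]

end mat

variable {p : ℕ}

/-- the element `[[A, v], [0, 1]]` of `SL₃` -/
def qdMk3 (A : SL2 (ZMod p)) (v : Fin 2 → ZMod p) : Matrix.SpecialLinearGroup (Fin 3) (ZMod p) :=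
  ⟨qdMat A.1 v, by rw [qdMat_det]; exact A.2⟩

theorem qdMk3_mul (A B : SL2 (ZMod p)) (v w : Fin 2 → ZMod p) :
    qdMk3 A v * qdMk3 B w = qdMk3 (A * B) (A.1.mulVec w + v) := by
  apply Subtype.ext
  exact qdMat_mul A.1 B.1 v w

theorem qdMk3_one : qdMk3 (1 : SL2 (ZMod p)) 0 = 1 := by
  apply Subtype.ext
  exact qdMat_one

theorem qdMk3_inv (A : SL2 (ZMod p)) (v : Fin 2 → ZMod p) :
    (qdMk3 A v)⁻¹ = qdMk3 A⁻¹ (-(A⁻¹).1.mulVec v) := by
  apply inv_eq_of_mul_eq_one_left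
  rw [qdMk3_mul, inv_mul_cancel, add_neg_cancel, qdMk3_one]

theorem qdMk3_mem (A : SL2 (ZMod p)) (v : Fin 2 → ZMod p) : qdMk3 A v ∈ qd p :=
  Subgroup.subset_closure ⟨by simp [qdMk3, qdMat], by simp [qdMk3, qdMat], by simp [qdMk3, qdMat]⟩

theorem exists_eq_qdMk3 (M : Matrix.SpecialLinearGroup (Fin 3) (ZMod p)) (hM : M ∈ qd p) :
    ∃ A v, M = qdMk3 A v := by
  unfold qd at hM
  induction hM using Subgroup.closure_induction with
  | mem M hM =>
    obtain ⟨h0, h1, h2⟩ := hM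
    have e := eq_qdMat M.1 h0 h1 h2
    refine ⟨⟨!![M.1 0 0, M.1 0 1; M.1 1 0, M.1 1 1], ?_⟩, ![M.1 0 2, M.1 1 2], Subtype.ext e⟩
    rw [← qdMat_det _ ![M.1 0 2, M.1 1 2], ← e]
    exact M.2
  | one => exact ⟨1, 0, qdMk3_one.symm⟩
  | mul x y _ _ hx hy =>
    obtain ⟨A, v, rfl⟩ := hx
    obtain ⟨B, w, rfl⟩ := hy
    exact ⟨_, _, qdMk3_mul A B v w⟩
  | inv x _ hx =>
    obtain ⟨A, v, rfl⟩ := hx
    exact ⟨_, _, qdMk3_inv A v⟩

/-- the element `[[A, v], [0, 1]]` of `Qd(p)` -/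
def qdMk (A : SL2 (ZMod p)) (v : Fin 2 → ZMod p) : qd p := ⟨qdMk3 A v, qdMk3_mem A v⟩

theorem qdMk_mul (A B : SL2 (ZMod p)) (v w : Fin 2 → ZMod p) :
    qdMk A v * qdMk B w = qdMk (A * B) (A.1.mulVec w + v) :=
  Subtype.ext (qdMk3_mul A B v w)

theorem qdMk_one : qdMk (1 : SL2 (ZMod p)) 0 = 1 := Subtype.ext qdMk3_one

theorem qdMk_inv (A : SL2 (ZMod p)) (v : Fin 2 → ZMod p) :
    (qdMk A v)⁻¹ = qdMk A⁻¹ (-(A⁻¹).1.mulVec v) := Subtype.ext (qdMk3_inv A v)

theorem qdMk_surj (q : qd p) : ∃ A v, q = qdMk A v := by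
  obtain ⟨A, v, h⟩ := exists_eq_qdMk3 q.1 q.2
  exact ⟨A, v, Subtype.ext h⟩

theorem qdMk_inj {A B : SL2 (ZMod p)} {v w : Fin 2 → ZMod p} (h : qdMk A v = qdMk B w) :
    A = B ∧ v = w := by
  have h1 := congrArg (fun q : qd p => q.1.1) h
  obtain ⟨e1, e2⟩ := qdMat_inj h1
  exact ⟨Subtype.ext e1, e2⟩

/-- translations -/
def qdT (p : ℕ) : Multiplicative (Fin 2 → ZMod p) →* qd p where
  toFun v := qdMk 1 v.toAdd
  map_one' := qdMk_one
  map_mul' v w := by
    rw [qdMk_mul, mul_one]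
    congr 1
    simp [add_comm]

/-- the complement `SL₂(p)` -/
def qdD (p : ℕ) : SL2 (ZMod p) →* qd p where
  toFun A := qdMk A 0
  map_one' := qdMk_one
  map_mul' A B := by
    rw [qdMk_mul]
    congr 1
    simp

theorem qdT_mul_qdD (A : SL2 (ZMod p)) (v : Fin 2 → ZMod p) :
    qdT p (Multiplicative.ofAdd v) * qdD p A = qdMk A v := by
  show qdMk 1 v * qdMk A 0 = _
  rw [qdMk_mul, one_mul]
  congr 1
  simp

theorem qdD_conj_qdT (A : SL2 (ZMod p)) (v : Fin 2 → ZMod p) :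
    qdD p A * qdT p (Multiplicative.ofAdd v) * (qdD p A)⁻¹ =
      qdT p (Multiplicative.ofAdd (A.1.mulVec v)) := by
  show qdMk A 0 * qdMk 1 v * (qdMk A 0)⁻¹ = qdMk 1 (A.1.mulVec v)
  rw [qdMk_inv, qdMk_mul, qdMk_mul, mul_one, mul_inv_cancel]
  congr 1
  simp

/-- the block homomorphism `Qd(p) → SL₂(p)` -/
noncomputable def qdB (p : ℕ) : qd p →* SL2 (ZMod p) where
  toFun q := (qdMk_surj q).choose
  map_one' := by
    have h := (qdMk_surj (1 : qd p)).choose_spec.choose_spec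
    exact (qdMk_inj (qdMk_one.trans h)).1.symm
  map_mul' a b := by
    have h := (qdMk_surj (a * b)).choose_spec.choose_spec
    have ha := (qdMk_surj a).choose_spec.choose_spec
    have hb := (qdMk_surj b).choose_spec.choose_spec
    conv_lhs at h => rw [ha, hb, qdMk_mul]
    exact (qdMk_inj h).1.symm

theorem qdB_qdMk (A : SL2 (ZMod p)) (v : Fin 2 → ZMod p) : qdB p (qdMk A v) = A := by
  have h := (qdMk_surj (qdMk A v)).choose_spec.choose_spec
  exact (qdMk_inj h).1.symm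

end Cfsg.Agent.Lib.Helper5
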