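import Cfsg.Agent.Lib.Helper5.QD9
import Cfsg.Agent.Lib.Helper5.FC1
import Cfsg.Agent.Lib.Helper5.ZJ3

set_option autoImplicit false
set_option linter.style.haveILetI false
set_option linter.unusedSectionVars false
set_option linter.unusedSimpArgs false

namespace Cfsg.Agent.Lib.Helper5

open Cfsg Cfsg.Agent.Lib.Helper13

universe u

variable {p : ℕ}

/-- Glauberman's ZJ-theorem for `Qd(p)`-free groups. -/
theorem zj_of_qdFree {G : Type*} [Group G] [Finite G] [Fact p.Prime] (hp : p ≠ 2)
    (hfree : QdFree p G)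
    (hc : Subgroup.centralizer (pCore p G : Set G) ≤ pCore p G)
    (S : Sylow p G) : (centerThompsonAOf (S : Subgroup G)).Normal := by
  rw [centerThompsonAOf_eq]
  exact zj_normal hp _ (fun _ h => h) inferInstance (fun σ A hA => comm_map _ hA)
    (fun _ _ _ hT _ => hT) hc S (fun V _ hV a _ hq => hfree.stable hp V hV a hq)

theorem QdFree.sec [Fact p.Prime] {G Z : Type u} [Group G] [Group Z] (h : QdFree p G)
    (hZ : Sec G Z) : QdFree p Z := by
  obtain ⟨K, f, hf⟩ := hZ
  exact (h.subgroup K).of_surjective f hf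

/-- a functor that is normal in all constrained `QdFree` groups controls strong fusion in `QdFree`
groups -/
theorem FC_of_qdFree [Fact p.Prime] {W : ∀ (Q : Type u) [Group Q], Subgroup Q}
    (hW : Cfsg.IsCharPFunctor.{u} p W)
    (hWn : ∀ (Z : Type u) [Group Z] [Finite Z], QdFree p Z → Constr p Z → ∀ T : Sylow p Z,
      (Cfsg.inducedFunctor (G := Z) W (T : Subgroup Z)).Normal)
    {G : Type u} [Group G] [Finite G] (hQ : QdFree p G) : FC p {W} G := by
  refine FC_of_sections (by rintro _ rfl; exact hW) ?_ G (Sec.refl G)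
  intro Z _ hZ hC
  haveI := hZ.finite
  obtain ⟨T⟩ : Nonempty (Sylow p Z) := inferInstance
  exact FC_singleton_of_normal T (hWn Z (hQ.sec hZ) hC T)

theorem zjA_normal_of_qdFree [Fact p.Prime] (hp : p ≠ 2) (Z : Type u) [Group Z] [Finite Z]
    (hQ : QdFree p Z) (hC : Constr p Z) (T : Sylow p Z) :
    (Cfsg.inducedFunctor (G := Z) zjA (T : Subgroup Z)).Normal := by
  rw [iF_zjA]
  exact zj_of_qdFree hp hQ hC T

theorem FC_zjA_of_qdFree [Fact p.Prime] (hp : p ≠ 2) {G : Type u} [Group G] [Finite G]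
    (hQ : QdFree p G) : FC p {zjA} G :=
  FC_of_qdFree zjA_char (fun Z _ _ h1 h2 T => zjA_normal_of_qdFree hp Z h1 h2 T) hQ

end Cfsg.Agent.Lib.Helper5
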