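import Cfsg.Agent.Lib.Helper5.QD10
import Cfsg.Agent.Lib.Helper5.ZJD
import Cfsg.Agent.Lib.Helper13.KInfFusion

set_option autoImplicit false
set_option linter.style.haveILetI false
set_option linter.unusedSectionVars false
set_option linter.unusedSimpArgs false

namespace Cfsg.Agent.Lib.Helper5

open Cfsg Cfsg.Agent.Lib.Helper13
open scoped commutatorElement

universe u

local notation "SL2" => Matrix.SpecialLinearGroup (Fin 2)

variable {p : ℕ}

theorem qdMk_one_pow [Fact p.Prime] (v : Fin 2 → ZMod p) (n : ℕ) :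
    qdMk (p := p) 1 v ^ n = qdMk (p := p) 1 (n • v) := by
  induction n with
  | zero => simp [qdMk_one]
  | succ n ih =>
    rw [pow_succ, ih, qdMk_mul, mul_one]
    congr 1
    rw [Matrix.SpecialLinearGroup.coe_one, Matrix.one_mulVec, add_smul, one_smul, add_comm]

theorem qd_comm_tU [Fact p.Prime] (v : Fin 2 → ZMod p) (c : ZMod p) :
    ⁅qdMk (p := p) 1 v, qdMk (p := p) (tU c) 0⁆ = qdMk (p := p) 1 ![-c * v 1, 0] := by
  rw [commutatorElement_def, qdMk_inv, qdMk_inv, qdMk_mul, qdMk_mul, qdMk_mul, tU_inv]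
  simp only [one_mul, inv_one, mul_one, tU_mul, add_neg_cancel, tU_zero,
    Matrix.SpecialLinearGroup.coe_one, Matrix.one_mulVec, Matrix.mulVec_zero, neg_zero, zero_add]
  congr 1
  ext i
  fin_cases i <;> simp [tU, Matrix.mulVec, dotProduct, Fin.sum_univ_two]

theorem qd_tU_fix [Fact p.Prime] (e d : ZMod p) :
    qdMk (p := p) (tU d) 0 * qdMk (p := p) 1 ![e, 0] =
      qdMk (p := p) 1 ![e, 0] * qdMk (p := p) (tU d) 0 := by
  rw [qdMk_mul, qdMk_mul]
  congr 1
  · rw [one_mul, mul_one]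
  · ext i
    fin_cases i <;> simp [tU, Matrix.mulVec, dotProduct, Fin.sum_univ_two]

/-- `Qd(p)` is not `p`-stable. -/
theorem qd_not_stable [Fact p.Prime] (hp2 : p ≠ 2) : ¬ IsNormalizerPStable p (qd p) := by
  intro hs
  obtain ⟨V, hV⟩ : ∃ V, V = (qdB p).ker := ⟨_, rfl⟩
  haveI hVn : V.Normal := hV ▸ inferInstance
  have hmemV : ∀ q, q ∈ V ↔ ∃ v, q = qdMk (p := p) 1 v := by
    intro q
    rw [hV, MonoidHom.mem_ker]
    constructor
    · intro h
      obtain ⟨A, v, rfl⟩ := qdMk_surj q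
      rw [qdB_qdMk] at h
      exact ⟨v, by rw [h]⟩
    · rintro ⟨v, rfl⟩
      exact qdB_qdMk 1 v
  have hVp : IsPGroup p V := by
    rintro ⟨q, hq⟩
    obtain ⟨v, rfl⟩ := (hmemV q).mp hq
    refine ⟨1, Subtype.ext ?_⟩
    show (qdMk (p := p) 1 v) ^ (p ^ 1) = 1
    rw [pow_one, qdMk_one_pow, ← qdMk_one]
    congr 1
    ext i
    simp
  have hz : ∀ h ∈ Subgroup.zpowers (qdD p (tU 1)), ∃ c, h = qdMk (p := p) (tU c) 0 := by
    rintro _ ⟨k, rfl⟩
    show ∃ c, (qdD p (tU 1)) ^ k = _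
    rw [← map_zpow]
    obtain ⟨n, rfl | rfl⟩ := k.eq_nat_or_neg
    · rw [zpow_natCast, tU_pow]; exact ⟨_, rfl⟩
    · rw [zpow_neg, zpow_natCast, tU_pow, tU_inv]; exact ⟨_, rfl⟩
  have hq : ⁅⁅V, Subgroup.zpowers (qdD p (tU 1))⁆, Subgroup.zpowers (qdD p (tU 1))⁆ = ⊥ := by
    rw [Subgroup.commutator_eq_bot_iff_le_centralizer, Subgroup.commutator_le]
    intro q hq h hh
    obtain ⟨v, rfl⟩ := (hmemV q).mp hq
    obtain ⟨c, rfl⟩ := hz h hh
    rw [Subgroup.mem_centralizer_iff]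
    intro h' hh'
    obtain ⟨d, rfl⟩ := hz h' hh'
    rw [qd_comm_tU, qd_tU_fix]
  have hcen : Subgroup.centralizer (V : Set (qd p)) =
      (⊥ : Subgroup (SL2 (ZMod p))).comap (qdB p) := by
    rw [MonoidHom.comap_bot, ← hV]
    ext q
    rw [Subgroup.mem_centralizer_iff]
    constructor
    · intro h
      obtain ⟨A, v, rfl⟩ := qdMk_surj q
      refine (hmemV _).mpr ⟨v, ?_⟩
      congr 1
      apply Subtype.ext
      have key : ∀ w : Fin 2 → ZMod p, A.1.mulVec w = w := by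
        intro w
        have := h (qdMk 1 w) ((hmemV _).mpr ⟨w, rfl⟩)
        rw [qdMk_mul, qdMk_mul] at this
        have h2 := (qdMk_inj this).2
        rw [Matrix.SpecialLinearGroup.coe_one, Matrix.one_mulVec, add_comm] at h2
        exact (add_right_cancel h2).symm
      rw [Matrix.SpecialLinearGroup.coe_one]
      apply Matrix.ext_of_mulVec_single
      intro i
      rw [key, Matrix.one_mulVec]
    · intro h t ht
      obtain ⟨v, rfl⟩ := (hmemV _).mp h
      obtain ⟨w, rfl⟩ := (hmemV _).mp ht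
      rw [qdMk_mul, qdMk_mul]
      congr 1
      rw [Matrix.SpecialLinearGroup.coe_one, Matrix.one_mulVec, Matrix.one_mulVec, add_comm]
  have hsurj : Function.Surjective (qdB p) := fun A => ⟨qdMk A 0, qdB_qdMk A 0⟩
  have h1 := stableOn_of_normalizerPStable hs V hVp (qdD p (tU 1)) hq
  have h2 := (quot_pCore_mem_iff (p := p) (qdB p) hsurj (Subgroup.centralizer (V : Set (qd p))) ⊥
    hcen (qdD p (tU 1))).mp h1
  have h3 : qdB p (qdD p (tU 1)) = tU 1 := qdB_qdMk _ _
  rw [h3] at h2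
  have hinj : Function.Injective (QuotientGroup.mk' (⊥ : Subgroup (SL2 (ZMod p)))) := by
    rw [← MonoidHom.ker_eq_bot_iff, QuotientGroup.ker_mk']
  have h4 : ((pCore p (SL2 (ZMod p) ⧸ (⊥ : Subgroup (SL2 (ZMod p))))).comap
      (QuotientGroup.mk' (⊥ : Subgroup (SL2 (ZMod p))))) = ⊥ := by
    haveI : ((pCore p (SL2 (ZMod p) ⧸ (⊥ : Subgroup (SL2 (ZMod p))))).comap
      (QuotientGroup.mk' (⊥ : Subgroup (SL2 (ZMod p))))).Normal := inferInstance
    refine normal_pgroup_trivial (p := p) hp2 1 1 one_ne_zero one_ne_zero _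
      (pCore_isPGroup.comap_of_injective _ hinj) ?_ ?_
    · rw [Subgroup.normalizer_eq_top_iff.mpr this]; trivial
    · rw [Subgroup.normalizer_eq_top_iff.mpr this]; trivial
  have h5 : (tU 1 : SL2 (ZMod p)) ∈ (⊥ : Subgroup (SL2 (ZMod p))) := by
    rw [← h4]; exact h2
  rw [Subgroup.mem_bot, ← tU_zero] at h5
  exact one_ne_zero (tU_injective h5)

theorem not_stable_of_equiv_qd [Fact p.Prime] (hp2 : p ≠ 2) {X : Type*} [Group X]
    (e : X ≃* qd p) : ¬ IsNormalizerPStable p X :=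
  fun h => qd_not_stable hp2 (isNormalizerPStable_of_equiv e h)

theorem secStable_of_qd_free [Fact p.Prime] (hp2 : p ≠ 2) {G : Type u} [Group G] [Finite G]
    (h : ¬ Involves (qd p) G) : SecStable p G := by
  intro Z _ hZ
  haveI := hZ.finite
  exact ((qdFree_of_not_involves h).sec hZ).normalizerPStable hp2

end Cfsg.Agent.Lib.Helper5
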