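import Cfsg.Agent.Lib.Helper5.QD11
import Cfsg.Agent.Lib.Helper13.QdData

set_option autoImplicit false
set_option linter.style.haveILetI false
set_option linter.unusedSectionVars false
set_option linter.unusedSimpArgs false

namespace Cfsg.Agent.Lib.Helper5

open Cfsg Cfsg.Agent.Lib.Helper13

universe u

local notation "SL2" => Matrix.SpecialLinearGroup (Fin 2)

variable {p : ℕ}

/-- a char `p`-functor normal in constrained `Qd(p)`-free groups controls strong fusion -/
theorem controls_of_qdFree [Fact p.Prime] {W : ∀ (Q : Type u) [Group Q], Subgroup Q}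
    (hW : Cfsg.IsCharPFunctor.{u} p W)
    (hWn : ∀ (Z : Type u) [Group Z] [Finite Z], QdFree p Z → Constr p Z → ∀ T : Sylow p Z,
      (Cfsg.inducedFunctor (G := Z) W (T : Subgroup Z)).Normal)
    {G : Type u} [Group G] [Finite G] (hQ : QdFree p G) (T : Sylow p G) :
    ControlsStrongFusion p (Cfsg.inducedFunctor (G := G) W (T : Subgroup G)) :=
  ⟨T, Subgroup.map_subtype_le _, fun A hA => controls_of_FC hW (FC_of_qdFree hW hWn hQ) T A hA⟩

theorem p_dvd_card_of_equiv_qd [Fact p.Prime] {X : Type*} [Group X] [Finite X] (e : X ≃* qd p) :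
    p ∣ Nat.card X := by
  have h1 : (e.symm (qdMk (p := p) 1 ![1, 0])) ^ p = 1 := by
    rw [← map_pow, qdMk_one_pow]
    have : (p • ![(1 : ZMod p), 0]) = 0 := by
      ext i
      simp
    rw [this, qdMk_one, map_one]
  have h2 : e.symm (qdMk (p := p) 1 ![1, 0]) ≠ 1 := by
    intro h
    rw [← map_one e.symm, ← qdMk_one] at h
    have := congrFun (qdMk_inj (e.symm.injective h)).2 0
    simp at this
  rw [← orderOf_eq_prime h1 h2]
  exact orderOf_dvd_natCard _

/-- no char `p`-functor controls strong fusion in `Qd(p)` -/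
theorem not_controls_of_equiv_qd [Fact p.Prime] {W : ∀ (Q : Type u) [Group Q], Subgroup Q}
    (hW : Cfsg.IsCharPFunctor.{u} p W) {X : Type u} [Group X] [Finite X] (e : X ≃* qd p)
    (T : Sylow p X) : ¬ ControlsStrongFusion p (Cfsg.inducedFunctor (G := X) W (T : Subgroup X)) := by
  haveI : (W (T : Subgroup X)).Characteristic := by
    rw [Subgroup.characteristic_iff_map_eq]
    intro φ
    exact hW.2 _ _ T.2 φ
  refine qd_not_controls' e T (W (T : Subgroup X)) (hW.1 _ T.2 ?_)
  rw [Subgroup.nontrivial_iff_ne_bot]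
  exact T.ne_bot_of_dvd_card (p_dvd_card_of_equiv_qd e)

end Cfsg.Agent.Lib.Helper5
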