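import Cfsg.Agent.Lib.Helper5.QD12
import Cfsg.Agent.Lib.Helper13.SecMain

set_option autoImplicit false
set_option linter.style.haveILetI false
set_option linter.unusedSectionVars false
set_option linter.unusedSimpArgs false

namespace Cfsg.Agent.Lib.Helper5

open Cfsg Cfsg.Agent.Lib.Helper13

universe u

variable {p : ℕ} [Fact p.Prime]

/-- transport of control from a subgroup type -/
theorem CSF_of_subgroup {X : Type*} [Group X] (H : Subgroup X) (V' S' : Subgroup H)
    (h : CSF (fun _ => V') ⊤ S') :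
    CSF (fun _ => V'.map H.subtype) H (S'.map H.subtype) := by
  intro B hB g hg hBg
  have hBH : B ≤ H := hB.trans (Subgroup.map_subtype_le _)
  have h1 : B.subgroupOf H ≤ S' := by
    intro b hb
    obtain ⟨s, hs, e⟩ := hB (Subgroup.mem_subgroupOf.mp hb)
    have : s = b := Subtype.ext e
    exact this ▸ hs
  have h2 : cj (B.subgroupOf H) ⟨g, hg⟩ ≤ S' := by
    intro b hb
    rw [mem_cj] at hb
    have hb' : g * (b : X) * g⁻¹ ∈ B := Subgroup.mem_subgroupOf.mp hb
    have h3 : (b : X) ∈ cj B g := mem_cj.mpr hb'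
    obtain ⟨s, hs, e⟩ := hBg h3
    have : s = b := Subtype.ext e
    exact this ▸ hs
  obtain ⟨x, hx, e⟩ := h _ h1 ⟨g, hg⟩ (Subgroup.mem_top _) h2
  refine ⟨x, Subgroup.mem_inf.mpr ⟨x.2, map_mem_normalizer H.subtype (Subgroup.mem_inf.mp hx).2⟩,
    fun a ha => ?_⟩
  exact congrArg Subtype.val (e ⟨a, hBH ha⟩ (Subgroup.mem_subgroupOf.mpr ha))


/-- control of strong fusion by a fixed subgroup lifts from a quotient by a normal `p'`-subgroup -/
theorem FCSF_pPrime_const {X Y : Type*} [Group X] [Group Y] [Finite X] (π : X →* Y)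
    (hsurj : Function.Surjective π) (hK : (Nat.card π.ker).Coprime p) (S : Subgroup X)
    (hS : IsPGroup p S) (V : Subgroup X) (hVS : V ≤ S)
    (hSV : S ≤ Subgroup.normalizer (V : Set X))
    (h : FCSF {fun _ => V.map π} ⊤ (S.map π)) : FCSF {fun _ => V} ⊤ S := by
  intro B hB g _ hBg
  obtain ⟨g', hle, hgood, e⟩ := lift_FCSF π S (fun _ => True) (fun _ _ _ => trivial) {fun _ => V}
    {fun _ => V.map π} h (by
      rintro _ rfl y hy A hA - hAy
      obtain ⟨x₀, rfl⟩ := hsurj y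
      simp only [] at hy
      obtain ⟨k, hk, hxk⟩ := exists_mul_mem_normalizer π hK (hS.to_le hVS) hy
      have h1 : cj A (x₀ * k) ≤ Subgroup.normalizer (V : Set X) := by
        have := cj_mono (hA.trans hSV) (x₀ * k)
        rwa [cj_eq_self_of_mem hxk] at this
      have hπ : π (x₀ * k) = π x₀ := by rw [map_mul, MonoidHom.mem_ker.mp hk, mul_one]
      have h2 : cj A (x₀ * k) ≤ S ⊔ π.ker := by
        rw [← Subgroup.comap_map_eq, ← Subgroup.map_le_iff_le_comap, map_cj, hπ]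
        exact hAy
      obtain ⟨k₂, hk₂, hle⟩ := exists_mem_cj_le hK hS hSV h1 (isPGroup_cj (hS.to_le hA) _) h2
      obtain ⟨hk₂1, hk₂2⟩ := Subgroup.mem_inf.mp hk₂
      refine ⟨x₀ * k * k₂, by rw [map_mul, hπ, MonoidHom.mem_ker.mp hk₂1, mul_one],
        by rw [← cj_cj]; exact hle, ?_⟩
      exact FGood.step rfl (Subgroup.mem_inf.mpr ⟨Subgroup.mem_top _, mul_mem hxk hk₂2⟩) hA)
    B hB trivial g hBg
  exact hgood.congr (fun a ha =>
    eq_of_map_eq_of_coprime π hK hS (hle (conj_mem_cj ha)) (hBg (conj_mem_cj ha)) (e a ha))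

/-- the case `X = S C_X(P)`, for arbitrary families -/
theorem FCSF_case_b' {X Y : Type*} [Group X] [Group Y] [Finite X] (S : Sylow p X)
    (𝓥 : Set (Subgroup X → Subgroup X)) (𝓥' : Set (Subgroup Y → Subgroup Y))
    (π : X →* Y) (hsurj : Function.Surjective π) (hker : π.ker ≤ S)
    (hSC : (S : Subgroup X) ⊔ Subgroup.centralizer (π.ker : Set X) = ⊤)
    (h : FCSF 𝓥' ⊤ ((S : Subgroup X).map π))
    (hS : FCSF 𝓥 S S)
    (hM : ∀ V ∈ 𝓥', FCSF 𝓥 ((Subgroup.normalizer
      ((V ((S : Subgroup X).map π) : Subgroup Y) : Set Y)).comap π) S) :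
    FCSF 𝓥 ⊤ S := by
  have lift : ∀ B : Subgroup X, B ≤ S → ∀ g, cj B g ≤ S →
      ∃ g', cj B g' ≤ S ∧ FGood 𝓥 ⊤ S B g' ∧
        ∀ a ∈ B, π (g'⁻¹ * a * g') = π (g⁻¹ * a * g) := by
    intro B hB g hBg
    refine lift_FCSF π S (fun _ => True) (fun _ _ _ => trivial) 𝓥 𝓥' h ?_ B hB trivial g hBg
    intro V hV y hy A hA _ hAy
    obtain ⟨x, rfl⟩ := hsurj y
    have h1 : cj A x ≤ S := by
      have : cj A x ≤ (S : Subgroup X) ⊔ π.ker := by
        rw [← Subgroup.comap_map_eq, ← Subgroup.map_le_iff_le_comap, map_cj]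
        exact hAy
      rwa [sup_eq_left.mpr hker] at this
    exact ⟨x, rfl, h1, (hM V hV A hA x hy h1).mono_left le_top⟩
  have hPg : ∀ g : X, cj π.ker g = π.ker := fun g => cj_eq_of_normal _ g
  have main := alperin_core S
    (fun A g => A ≤ (S : Subgroup X) ∧ cj A g ≤ (S : Subgroup X) ∧
      (π.ker ≤ A → FGood 𝓥 ⊤ (S : Subgroup X) A g))
    (fun A B g hB h => ⟨hB.trans h.1, (cj_mono hB g).trans h.2.1,
      fun hP => (h.2.2 (hP.trans hB)).mono hB⟩)
    (fun A g k h1 h2 => ⟨h1.1, by rw [← cj_cj]; exact h2.2.1, fun hP =>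
      (h1.2.2 hP).trans (h2.2.2 (by rw [← hPg g]; exact cj_mono hP g))⟩)
    (fun A g h => ⟨h.2.1, by rw [cj_inv_cj]; exact h.1, fun hP =>
      (h.2.2 (by
        have := cj_mono hP g⁻¹
        rwa [hPg, cj_inv_cj] at this)).inv h.2.1⟩)
    {U | U ≤ (S : Subgroup X) ∧ FN p (S : Subgroup X) U}
    (fun A hA => by
      obtain ⟨h, h1, h2⟩ := exists_FN_conj S A (S.2.to_le hA)
      exact ⟨_, ⟨h1, h2⟩, h1, ⟨h, rfl⟩, h2⟩)
    (by
      intro U _ hUS hFN _ y hy
      have hUy : cj U y = U := mem_normalizer_iff_cj.mp hy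
      refine ⟨hUS, by rw [hUy]; exact hUS, fun hPU => ?_⟩
      obtain ⟨g', hle, hgood, e⟩ := lift U hUS y (by rw [hUy]; exact hUS)
      have hd : π (y * g'⁻¹) ∈ Subgroup.centralizer ((U.map π : Subgroup Y) : Set Y) := by
        rw [Subgroup.mem_centralizer_iff]
        rintro _ ⟨a, ha, rfl⟩
        have h1 := e a ha
        simp only [map_mul, map_inv] at h1 ⊢
        calc π a * (π y * (π g')⁻¹) = π y * ((π y)⁻¹ * π a * π y) * (π g')⁻¹ := by group
          _ = π y * ((π g')⁻¹ * π a * π g') * (π g')⁻¹ := by rw [h1]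
          _ = π y * (π g')⁻¹ * π a := by group
      obtain ⟨s, hs, es⟩ := exists_sylow_elt_of_stab π S.2 hPU hUS hFN hSC hd
      have hdN : y * g'⁻¹ ∈ Subgroup.normalizer (U : Set X) :=
        comap_centralizer_le_normalizer π hPU hd
      have hUs : cj U s ≤ (S : Subgroup X) := by
        have := cj_mono hUS s
        rwa [cj_eq_self_of_mem hs] at this
      have g1 : FGood 𝓥 ⊤ (S : Subgroup X) U (y * g'⁻¹) :=
        ((hS U hUS s hs hUs).mono_left le_top).congr es
      have g2 := g1.trans (by rw [mem_normalizer_iff_cj.mp hdN]; exact hgood)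
      rwa [inv_mul_cancel_right] at g2)
  intro B hB g _ hBg
  have := main (B ⊔ π.ker) (sup_le hB hker) g (by rw [cj_sup, hPg]; exact sup_le hBg hker)
  exact (this.2.2 le_sup_right).mono le_sup_left

end Cfsg.Agent.Lib.Helper5
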