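import Cfsg.Agent.Lib.Helper5.QD13
import Cfsg.Agent.Lib.Helper5.NPCRed0

set_option autoImplicit false
set_option linter.style.haveILetI false
set_option linter.unusedSectionVars false
set_option linter.unusedSimpArgs false

namespace Cfsg.Agent.Lib.Helper5

open Cfsg Cfsg.Agent.Lib.Helper13

universe u

variable {p : ℕ} [Fact p.Prime]

/-- strong fusion is controlled by `N(W(D))`, `D` strongly closed, in `Qd(p)`-free groups -/
theorem csf_D_main {W : ∀ (Q : Type u) [Group Q], Subgroup Q} (hW : IsCharPFunctor.{u} p W)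
    (hp : p ≠ 2)
    (hWn : ∀ (Z : Type u) [Group Z] [Finite Z], QdFree p Z → Constr p Z → ∀ (T : Sylow p Z)
      (D : Subgroup Z), IsStronglyClosed D (T : Subgroup Z) →
        (inducedFunctor (G := Z) W D).Normal) :
    ∀ (n : ℕ) (X : Type u) [Group X] [Finite X], Nat.card X = n → QdFree p X →
      ∀ (S : Sylow p X) (D : Subgroup X), IsStronglyClosed D (S : Subgroup X) →
        FCSF {fun _ => inducedFunctor (G := X) W D} ⊤ (S : Subgroup X) := by
  intro n
  induction n using Nat.strong_induction_on with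
  | _ n ih =>
    intro X _ _ hn hQ S D hD
    obtain ⟨V, hV⟩ : ∃ V, V = inducedFunctor (G := X) W D := ⟨_, rfl⟩
    rw [← hV]
    have hcf := induced_isConjugacyFunctor (X := X) hW
    have hDp : IsPGroup p D := S.2.to_le hD.1
    have hVD : V ≤ D := hV ▸ induced_le D
    have hVS : V ≤ S := hVD.trans hD.1
    have hSD : (S : Subgroup X) ≤ Subgroup.normalizer (D : Set X) := sc_le_normalizer hD
    have hDV : Subgroup.normalizer (D : Set X) ≤ Subgroup.normalizer (V : Set X) :=
      hV ▸ normalizer_le_normalizer_functor hcf hDp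
    have hSV : (S : Subgroup X) ≤ Subgroup.normalizer (V : Set X) := hSD.trans hDV
    have triv : Subgroup.normalizer (V : Set X) = ⊤ → FCSF {fun _ => V} ⊤ (S : Subgroup X) := by
      intro hN B hB g _ _
      exact FGood.step rfl (Subgroup.mem_inf.mpr ⟨Subgroup.mem_top _, hN ▸ Subgroup.mem_top _⟩) hB
    have I1 : ∀ H : Subgroup X, H ≠ ⊤ → (S : Subgroup X) ≤ H →
        FCSF {fun _ => V} H (S : Subgroup X) := by
      intro H hH hSH
      have hlt : Nat.card H < n := by
        rw [← hn]
        exact Cfsg.Agent.Lib.Helper10.card_lt_card_of_ne_top hH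
      have h1 := ih _ hlt ↥H rfl (hQ.subgroup H) (S.subtype hSH) (D.subgroupOf H)
        (by rw [Sylow.coe_subtype]; exact sc_subgroupOf hD H)
      have h2 := CSF_of_subgroup H _ _ (CSF_iff_FCSF.mpr h1)
      rw [← induced_map hW H.subtype (D.subgroupOf H) hDp.comap_subtype
        (fun x _ hx => Subtype.ext hx), Subgroup.map_subgroupOf_eq_of_le (hD.1.trans hSH), ← hV,
        Sylow.coe_subtype, Subgroup.map_subgroupOf_eq_of_le hSH] at h2
      exact CSF_iff_FCSF.mp h2
    have I2 : ∀ (K : Subgroup X) [K.Normal], K ≠ ⊥ →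
        FCSF {fun _ => inducedFunctor (G := X ⧸ K) W (D.map (QuotientGroup.mk' K))} ⊤
          ((S : Subgroup X).map (QuotientGroup.mk' K)) := by
      intro K _ hK
      have hlt : Nat.card (X ⧸ K) < n := by
        rw [← hn, Subgroup.card_eq_card_quotient_mul_card_subgroup K]
        have h1 : 1 < Nat.card K := by
          rw [Finite.one_lt_card_iff_nontrivial]
          exact (Subgroup.nontrivial_iff_ne_bot K).mpr hK
        have h2 : 0 < Nat.card (X ⧸ K) := Nat.card_pos
        nlinarith
      exact ih _ hlt (X ⧸ K) rfl (hQ.of_surjective _ (QuotientGroup.mk'_surjective K))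
        (S.mapSurjective (QuotientGroup.mk'_surjective K)) (D.map (QuotientGroup.mk' K))
        (sc_map_pprime hD K)
    by_cases h0 : Cfsg.pPrimeCore p X = ⊥
    swap
    · have hK := Cfsg.Agent.Lib.Helper10.pPrimeCore_mem p X
      have := hK.1
      have hKc : (Nat.card (QuotientGroup.mk' (Cfsg.pPrimeCore p X)).ker).Coprime p := by
        rw [QuotientGroup.ker_mk']; exact hK.2
      have h1 := I2 _ h0
      rw [induced_map hW (QuotientGroup.mk' (Cfsg.pPrimeCore p X)) D hDp (fun x hx h1 =>
        eq_of_map_eq_of_coprime _ hKc hDp hx D.one_mem (by rw [h1, map_one])), ← hV] at h1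
      exact FCSF_pPrime_const (QuotientGroup.mk' (Cfsg.pPrimeCore p X))
        (QuotientGroup.mk'_surjective _) hKc S S.2 V hVS hSV h1
    have hPn : (Cfsg.pCore p X).Normal := inferInstance
    have hPp : IsPGroup p (Cfsg.pCore p X) := Cfsg.Agent.Lib.Helper17.pCore_isPGroup
    have hPS : Cfsg.pCore p X ≤ S := Cfsg.Agent.Lib.Helper5.pCore_le_sylow S
    have hnorm : ∀ V : Subgroup X, IsPGroup p V → Subgroup.normalizer (V : Set X) = ⊤ →
        V ≤ Cfsg.pCore p X := fun V hV hN =>
      Cfsg.Agent.Lib.Helper17.le_pCore (Subgroup.normalizer_eq_top_iff.mp hN) hV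
    by_cases hDR : D ≤ Cfsg.pCore p X
    · apply triv
      rw [eq_top_iff]
      refine le_trans ?_ hDV
      rw [Subgroup.normalizer_eq_top_iff.mpr (sc_normal_of_le hD hPS hDR)]
    by_cases hP : Cfsg.pCore p X = ⊥
    · have hSb : (S : Subgroup X) ≠ ⊥ := by
        intro h
        apply hDR
        have := hD.1
        rw [h, le_bot_iff] at this
        rw [this]; exact bot_le
      have hcfA := induced_isConjugacyFunctor (X := X) (zjA_char (p := p))
      have hH0 : Subgroup.normalizer ((inducedFunctor (G := X) zjA (S : Subgroup X) : Subgroup X) :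
          Set X) ≠ ⊤ := by
        intro hN
        have := hnorm _ (S.2.to_le (induced_le _)) hN
        rw [hP, le_bot_iff] at this
        exact functor_ne_bot hcfA S.2 hSb this
      have hSH0 : (S : Subgroup X) ≤ Subgroup.normalizer
          ((inducedFunctor (G := X) zjA (S : Subgroup X) : Subgroup X) : Set X) :=
        Subgroup.le_normalizer.trans (normalizer_le_normalizer_functor hcfA S.2)
      have h1 : FCSF (ind {zjA} X) ⊤ (S : Subgroup X) :=
        FCSF_of_familyControls (ind_isConjugacyFunctor (by rintro _ rfl; exact zjA_char))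
          (FC_zjA_of_qdFree hp hQ) le_top S.2 (not_dvd_relIndex_top S)
      have e : ind {zjA} X = {Cfsg.inducedFunctor (G := X) zjA} := by
        unfold ind; rw [Set.image_singleton]
      rw [e, ← CSF_iff_FCSF] at h1
      intro B hB g _ hBg
      obtain ⟨x, hx, e⟩ := h1 B hB g (Subgroup.mem_top _) hBg
      have hBx : cj B x ≤ S := by rw [cj_congr e]; exact hBg
      exact ((I1 _ hH0 hSH0 B hB x (Subgroup.mem_inf.mp hx).2 hBx).mono_left le_top).congr e
    by_cases hC : Constr p X
    · apply triv
      rw [hV]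
      exact Subgroup.normalizer_eq_top_iff.mpr (hWn X hQ hC S D hD)
    have hQ' : ¬ (S : Subgroup X) ⊓ Subgroup.centralizer (Cfsg.pCore p X : Set X) ≤
        Cfsg.pCore p X :=
      fun h => hC (centralizer_le_of_pPrimeCore_eq_bot S _ h h0)
    have hSP : ¬ (S : Subgroup X) ≤ Cfsg.pCore p X := fun h => hQ' (inf_le_left.trans h)
    by_cases hSC : (S : Subgroup X) ⊔ Subgroup.centralizer (Cfsg.pCore p X : Set X) = ⊤
    · have hker : (QuotientGroup.mk' (Cfsg.pCore p X)).ker = Cfsg.pCore p X :=
        QuotientGroup.ker_mk' _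
      refine FCSF_case_b' S {fun _ => V}
        {fun _ => inducedFunctor (G := X ⧸ Cfsg.pCore p X) W
          (D.map (QuotientGroup.mk' (Cfsg.pCore p X)))}
        (QuotientGroup.mk' (Cfsg.pCore p X)) (QuotientGroup.mk'_surjective _)
        (by rw [hker]; exact hPS) (by rw [hker]; exact hSC) (I2 _ hP) ?_ ?_
      · refine I1 _ (fun hN => hSP ?_) le_rfl
        rw [hN]
        exact hnorm ⊤ (by rw [← hN]; exact S.2) (by rw [Subgroup.normalizer_eq_top])
      · rintro _ rfl
        have hcf' := induced_isConjugacyFunctor (X := X ⧸ Cfsg.pCore p X) hW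
        have hDp' : IsPGroup p (D.map (QuotientGroup.mk' (Cfsg.pCore p X))) := hDp.map _
        have hsc' := sc_map_pprime hD (Cfsg.pCore p X)
        have hSM : (S : Subgroup X) ≤ (Subgroup.normalizer ((Cfsg.inducedFunctor
            (G := X ⧸ Cfsg.pCore p X) W (D.map (QuotientGroup.mk' (Cfsg.pCore p X))) :
            Subgroup (X ⧸ Cfsg.pCore p X)) : Set (X ⧸ Cfsg.pCore p X))).comap
            (QuotientGroup.mk' (Cfsg.pCore p X)) := by
          rw [← Subgroup.map_le_iff_le_comap]
          exact (sc_le_normalizer hsc').trans (normalizer_le_normalizer_functor hcf' hDp')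
        refine I1 _ (fun hN => ?_) hSM
        have h1 : Subgroup.normalizer ((Cfsg.inducedFunctor
            (G := X ⧸ Cfsg.pCore p X) W (D.map (QuotientGroup.mk' (Cfsg.pCore p X))) :
            Subgroup (X ⧸ Cfsg.pCore p X)) : Set (X ⧸ Cfsg.pCore p X)) = ⊤ := by
          have := congrArg (Subgroup.map (QuotientGroup.mk' (Cfsg.pCore p X))) hN
          rwa [Subgroup.map_comap_eq_self_of_surjective (QuotientGroup.mk'_surjective _),
            Subgroup.map_top_of_surjective _ (QuotientGroup.mk'_surjective _)] at this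
        have h2 : Cfsg.inducedFunctor (G := X ⧸ Cfsg.pCore p X) W
            (D.map (QuotientGroup.mk' (Cfsg.pCore p X))) ≤
            Cfsg.pCore p (X ⧸ Cfsg.pCore p X) :=
          Cfsg.Agent.Lib.Helper17.le_pCore (Subgroup.normalizer_eq_top_iff.mp h1)
            (hDp'.to_le (induced_le _))
        have h3 : Cfsg.pCore p (X ⧸ Cfsg.pCore p X) = ⊥ := by
          have := Cfsg.Agent.Lib.Helper17.comap_pCore_quotient (Cfsg.pCore p X) hPp
          have h4 := congrArg (Subgroup.map (QuotientGroup.mk' (Cfsg.pCore p X))) this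
          rw [Subgroup.map_comap_eq_self_of_surjective (QuotientGroup.mk'_surjective _)] at h4
          rw [h4, Subgroup.map_eq_bot_iff, hker]
        rw [h3, le_bot_iff] at h2
        refine functor_ne_bot hcf' hDp' (fun hb => hDR ?_) h2
        rwa [Subgroup.map_eq_bot_iff, hker] at hb
    · refine FCSF_case_a S {fun _ => V} (Subgroup.centralizer (Cfsg.pCore p X : Set X))
        (I1 _ hSC le_sup_left) ?_
      have hSH : (S : Subgroup X) ≤ Subgroup.normalizer (((S : Subgroup X) ⊓
          Subgroup.centralizer (Cfsg.pCore p X : Set X) : Subgroup X) : Set X) := by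
        intro s hs
        rw [mem_normalizer_iff_cj, cj_inf, cj_eq_self_of_mem hs, cj_eq_of_normal]
      refine I1 _ (fun hN => hQ' ?_) hSH
      exact hnorm _ (S.2.to_le inf_le_left) hN

/-- explicit form -/
theorem controls_D_of_qdFree {W : ∀ (Q : Type u) [Group Q], Subgroup Q}
    (hW : IsCharPFunctor.{u} p W) (hp : p ≠ 2)
    (hWn : ∀ (Z : Type u) [Group Z] [Finite Z], QdFree p Z → Constr p Z → ∀ (T : Sylow p Z)
      (D : Subgroup Z), IsStronglyClosed D (T : Subgroup Z) →
        (inducedFunctor (G := Z) W D).Normal)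
    {X : Type u} [Group X] [Finite X] (hQ : QdFree p X) (S : Sylow p X) (D : Subgroup X)
    (hD : IsStronglyClosed D (S : Subgroup X)) (A : Set X) (hA : A ⊆ (S : Subgroup X)) :
    ControlsStrongFusionOf (Subgroup.normalizer (inducedFunctor (G := X) W D : Set X))
      (S : Subgroup X) A := by
  have h1 := CSF_iff_FCSF.mpr (csf_D_main hW hp hWn _ X rfl hQ S D hD)
  refine ⟨hA, fun g hg => ?_⟩
  have hBk : cj (Subgroup.closure A) g⁻¹ ≤ S :=
    cj_closure_le_of_image_subset (by simpa using hg)
  obtain ⟨x, hx, e⟩ := h1 (Subgroup.closure A) ((Subgroup.closure_le _).mpr hA) g⁻¹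
    (Subgroup.mem_top _) hBk
  exact ⟨x⁻¹, inv_mem (Subgroup.mem_inf.mp hx).2, fun a ha => by
    simpa using (e a (Subgroup.subset_closure ha)).symm⟩

theorem zjA_D_normal_of_qdFree (hp : p ≠ 2) (Z : Type u) [Group Z] [Finite Z]
    (hQ : QdFree p Z) (hC : Constr p Z) (T : Sylow p Z) (D : Subgroup Z)
    (hD : IsStronglyClosed D (T : Subgroup Z)) : (inducedFunctor (G := Z) zjA D).Normal := by
  rw [iF_zjA, centerThompsonAOf_eq]
  exact zj_normal_D hp _ (fun _ h => h) inferInstance (fun σ A hA => comm_map _ hA)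
    (fun _ _ _ hT _ => hT) hC T D hD (fun V _ hV a _ hq => hQ.stable hp V hV a hq)

theorem zjE_D_normal_of_qdFree (hp : p ≠ 2) (Z : Type u) [Group Z] [Finite Z]
    (hQ : QdFree p Z) (hC : Constr p Z) (T : Sylow p Z) (D : Subgroup Z)
    (hD : IsStronglyClosed D (T : Subgroup Z)) : (inducedFunctor (G := Z) (zjE p) D).Normal := by
  rw [iF_zjE, omegaOne_centerThompsonOf_eq]
  exact zj_normal_D hp _ (fun _ h => h.1) elemAb_bot (fun σ A hA => elemAb_map _ hA)
    (fun A _ hA hT h => ⟨hT, h p hA.2⟩) hC T D hD (fun V _ hV a _ hq => hQ.stable hp V hV a hq)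

end Cfsg.Agent.Lib.Helper5
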