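import Cfsg.Agent.Lib.Helper5.QD1
import Cfsg.Agent.Lib.Helper5.DK10
import Cfsg.Prelude.Def_LocalEven

set_option autoImplicit false
set_option linter.style.haveILetI false
set_option linter.unusedSectionVars false
set_option linter.unusedSimpArgs false

namespace Cfsg.Agent.Lib.Helper5

open Cfsg

local notation "SL2" => Matrix.SpecialLinearGroup (Fin 2)

/-- `Q` is a homomorphic image of a subgroup of `G` -/
def Inv (Q : Type*) [Group Q] (G : Type*) [Group G] : Prop :=
  ∃ (K : Subgroup G) (f : K →* Q), Function.Surjective f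

section inv

variable {Q : Type*} [Group Q] {G G' : Type*} [Group G] [Group G']

theorem Inv.involves (h : Inv Q G) : Involves Q G := by
  obtain ⟨K, f, hf⟩ := h
  obtain ⟨L, hL, hN⟩ := section_of_surj K f hf
  exact ⟨K, L, hL, hN⟩

theorem inv_of_involves (h : Involves Q G) : Inv Q G := by
  obtain ⟨K, R, hR, ⟨e⟩⟩ := h
  exact ⟨K, e.toMonoidHom.comp (QuotientGroup.mk' _),
    e.surjective.comp (QuotientGroup.mk'_surjective _)⟩

theorem inv_of_inj_surj {S : Type*} [Group S] (j : S →* G) (hj : Function.Injective j)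
    (f : S →* Q) (hf : Function.Surjective f) : Inv Q G :=
  ⟨j.range, f.comp (MonoidHom.ofInjective hj).symm.toMonoidHom,
    hf.comp (MonoidHom.ofInjective hj).symm.surjective⟩

theorem Inv.of_injective (j : G →* G') (hj : Function.Injective j) (h : Inv Q G) : Inv Q G' := by
  obtain ⟨K, f, hf⟩ := h
  exact inv_of_inj_surj (j.comp K.subtype) (hj.comp K.subtype_injective) f hf

theorem Inv.of_subgroup (M : Subgroup G) (h : Inv Q M) : Inv Q G :=
  h.of_injective M.subtype M.subtype_injective

theorem Inv.of_surjective (π : G →* G') (hπ : Function.Surjective π) (h : Inv Q G') : Inv Q G := by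
  obtain ⟨K, f, hf⟩ := h
  exact ⟨K.comap π, f.comp (π.subgroupComap K),
    hf.comp (π.subgroupComap_surjective_of_surjective K hπ)⟩

end inv

theorem center_sl2_isSc {K : Type*} [Field K] (z : SL2 K) (hz : z ∈ Subgroup.center (SL2 K)) :
    IsSc z.1 := by
  have e1 := comm_tU_entries z 1 one_ne_zero ((Subgroup.mem_center_iff.mp hz (tU 1)).symm)
  have e2 := comm_sL_entries z 1 one_ne_zero ((Subgroup.mem_center_iff.mp hz (sL 1)).symm)
  exact ⟨e2, e1.1, e1.2⟩

theorem negOne_mem_center {K : Type*} [Field K] : (negOne : SL2 K) ∈ Subgroup.center (SL2 K) := by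
  classical
  rw [Subgroup.mem_center_iff]
  intro g
  exact sc_comm negOne g ((sc_iff _).mpr (Or.inr rfl))

theorem negOne_pow_odd {K : Type*} [Field K] {m : ℕ} (hm : Odd m) : (negOne : SL2 K) ^ m = negOne := by
  classical
  obtain ⟨k, rfl⟩ := hm
  rw [pow_succ, pow_mul, pow_two, negOne_mul_self, one_pow, one_mul]

theorem negOne_mulVec {K : Type*} [Field K] (v : Fin 2 → K) : (negOne : SL2 K).1.mulVec v = -v := by
  ext i
  fin_cases i <;> simp [negOne, Matrix.mulVec, dotProduct, Fin.sum_univ_two]

end Cfsg.Agent.Lib.Helper5
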