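import Cfsg.Agent.Lib.Helper5.QD2

set_option autoImplicit false
set_option linter.style.haveILetI false
set_option linter.unusedSectionVars false
set_option linter.unusedSimpArgs false

namespace Cfsg.Agent.Lib.Helper5

open Cfsg

local notation "SL2" => Matrix.SpecialLinearGroup (Fin 2)

/-- the complement: a subgroup `Y` covering `SL₂(p)` and meeting the plane trivially -/
theorem qd_complement {p : ℕ} [Fact p.Prime] (hp2 : p ≠ 2) {Γ : Type*} [Group Γ] [Finite Γ]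
    (ρ : Γ →* SL2 (ZMod p)) (hρ : Function.Surjective ρ)
    (E : Multiplicative (Fin 2 → ZMod p) →* Γ) (hE : Function.Injective E)
    (heq : ∀ (γ : Γ) (v : Fin 2 → ZMod p), γ * E (Multiplicative.ofAdd v) * γ⁻¹ =
      E (Multiplicative.ofAdd ((ρ γ).1.mulVec v))) :
    ∃ Y : Subgroup Γ, (∀ M, ∃ y ∈ Y, ρ y = M) ∧
      ∀ v : Fin 2 → ZMod p, E (Multiplicative.ofAdd v) ∈ Y → v = 0 := by
  classical
  obtain ⟨d, hd⟩ := hρ negOne
  obtain ⟨k, m, hm, hkm⟩ := Nat.exists_eq_two_pow_mul_odd (orderOf_pos d).ne'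
  obtain ⟨t, ht⟩ : ∃ t, t = d ^ m := ⟨_, rfl⟩
  have hρt : ρ t = negOne := by rw [ht, map_pow, hd, negOne_pow_odd hm]
  have ht2 : t ^ 2 ^ k = 1 := by rw [ht, ← pow_mul, mul_comm, ← hkm, pow_orderOf_eq_one]
  obtain ⟨D, hD⟩ : ∃ D : Subgroup Γ, D = (Subgroup.center (SL2 (ZMod p))).comap ρ := ⟨_, rfl⟩
  haveI hDn : D.Normal := by rw [hD]; infer_instance
  have htD : t ∈ D := by
    rw [hD, Subgroup.mem_comap, hρt]; exact negOne_mem_center
  have hDρ : ∀ x ∈ D, ρ x = 1 ∨ ρ x = negOne := by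
    intro x hx
    rw [hD] at hx
    exact (sc_iff _).mp (center_sl2_isSc _ hx)
  have hz : IsPGroup 2 (Subgroup.zpowers (⟨t, htD⟩ : D)) :=
    isPGroup_zpowers_of_pow _ k (Subtype.ext (by simpa using ht2))
  obtain ⟨T, hT⟩ := hz.exists_le_sylow
  have hfr := Sylow.normalizer_sup_eq_top T
  obtain ⟨T', hT'⟩ : ∃ T' : Subgroup Γ, T' = (T : Subgroup D).map D.subtype := ⟨_, rfl⟩
  rw [← hT'] at hfr
  have hT'2 : IsPGroup 2 T' := hT' ▸ T.2.map _
  have htT' : t ∈ T' := by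
    rw [hT']; exact ⟨⟨t, htD⟩, hT (Subgroup.mem_zpowers _), rfl⟩
  obtain ⟨Y, hY⟩ : ∃ Y : Subgroup Γ, Y = Subgroup.normalizer (T' : Set Γ) := ⟨_, rfl⟩
  rw [← hY] at hfr
  have htY : t ∈ Y := hY ▸ Subgroup.le_normalizer htT'
  refine ⟨Y, ?_, ?_⟩
  · intro M
    obtain ⟨γ, rfl⟩ := hρ M
    have h1 : γ ∈ Y ⊔ D := hfr ▸ Subgroup.mem_top γ
    obtain ⟨y, hy, d', hd', rfl⟩ := Subgroup.mem_sup_of_normal_right.mp h1
    rcases hDρ d' hd' with h | h
    · exact ⟨y, hy, by rw [map_mul, h, mul_one]⟩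
    · exact ⟨y * t, Y.mul_mem hy htY, by rw [map_mul, map_mul, h, hρt]⟩
  · intro v hv
    obtain ⟨e, he⟩ : ∃ e, e = E (Multiplicative.ofAdd v) := ⟨_, rfl⟩
    rw [← he] at hv
    -- `e * e ∈ T'`
    have h1 : e * t * e⁻¹ ∈ T' := by
      rw [hY] at hv
      exact (Subgroup.mem_normalizer_iff.mp hv t).mp htT'
    have h2 : t * e * t⁻¹ = e⁻¹ := by
      rw [he, heq, hρt, negOne_mulVec, ofAdd_neg, map_inv]
    have h3 : e * e ∈ T' := by
      have h4 : e * t * e⁻¹ * t⁻¹ ∈ T' := T'.mul_mem h1 (T'.inv_mem htT')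
      have h5 : e * t * e⁻¹ * t⁻¹ = e * e := by
        have : t * e⁻¹ * t⁻¹ = e := by
          have := congrArg (·⁻¹) h2
          simpa [mul_assoc] using this
        calc e * t * e⁻¹ * t⁻¹ = e * (t * e⁻¹ * t⁻¹) := by group
          _ = e * e := by rw [this]
      rwa [h5] at h4
    obtain ⟨j, hj⟩ := hT'2 ⟨e * e, h3⟩
    have h6 : e ^ (2 ^ (j + 1)) = 1 := by
      have := congrArg Subtype.val hj
      simp only [Subgroup.coe_pow, Subgroup.coe_one] at this
      rw [pow_succ, mul_comm, pow_mul, pow_two]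
      exact this
    have h7 : e ^ p = 1 := by
      rw [he, ← map_pow]
      have : (Multiplicative.ofAdd v) ^ p = 1 := by
        rw [← ofAdd_nsmul]
        have : p • v = 0 := by
          ext i
          simp
        rw [this]; rfl
      rw [this, map_one]
    have h8 : e = 1 := by
      apply eq_one_of_pow_coprime e _ h6 h7
      apply Nat.Coprime.pow_left
      exact (Nat.coprime_primes Nat.prime_two Fact.out).mpr (Ne.symm hp2)
    rw [he, ← map_one E] at h8
    exact hE h8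

/-- **Recognition of `Qd(p)`**: a finite group acting on a plane of its own as `SL₂(p)` involves
`Qd(p)`. -/
theorem qd_abs {p : ℕ} [Fact p.Prime] (hp2 : p ≠ 2) {Γ : Type*} [Group Γ] [Finite Γ]
    (ρ : Γ →* SL2 (ZMod p)) (hρ : Function.Surjective ρ)
    (E : Multiplicative (Fin 2 → ZMod p) →* Γ) (hE : Function.Injective E)
    (heq : ∀ (γ : Γ) (v : Fin 2 → ZMod p), γ * E (Multiplicative.ofAdd v) * γ⁻¹ =
      E (Multiplicative.ofAdd ((ρ γ).1.mulVec v))) : Inv (qd p) Γ := by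
  obtain ⟨Y, hY1, hY2⟩ := qd_complement hp2 ρ hρ E hE heq
  haveI hUn : E.range.Normal := by
    constructor
    rintro _ ⟨v, rfl⟩ γ
    exact ⟨_, (heq γ v.toAdd).symm⟩
  obtain ⟨eE, heE⟩ : ∃ eE : Multiplicative (Fin 2 → ZMod p) ≃* E.range,
    eE = MonoidHom.ofInjective hE := ⟨_, rfl⟩
  have heE' : ∀ v, ((eE v : E.range) : Γ) = E v := by
    intro v; rw [heE]; rfl
  obtain ⟨φ, hφ⟩ : ∃ φ : Y →* MulAut E.range, φ = (MulAut.conjNormal (H := E.range)).comp Y.subtype :=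
    ⟨_, rfl⟩
  have hφa : ∀ (g : Y) (v : Fin 2 → ZMod p), φ g (eE (Multiplicative.ofAdd v)) =
      eE (Multiplicative.ofAdd ((ρ g.1).1.mulVec v)) := by
    intro g v
    apply Subtype.ext
    rw [hφ, MonoidHom.comp_apply, MulAut.conjNormal_apply, heE', heE']
    exact heq g.1 v
  refine inv_of_inj_surj (S := E.range ⋊[φ] Y)
    (SemidirectProduct.lift E.range.subtype Y.subtype (by
      intro g
      ext u
      rw [hφ]
      simp [MulAut.conjNormal_apply])) ?_
    (SemidirectProduct.lift ((qdT p).comp eE.symm.toMonoidHom)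
      ((qdD p).comp (ρ.comp Y.subtype)) (by
      intro g
      ext u
      obtain ⟨v, rfl⟩ := eE.surjective u
      obtain ⟨v, rfl⟩ : ∃ v' : Fin 2 → ZMod p, Multiplicative.ofAdd v' = v := ⟨v.toAdd, rfl⟩
      simp only [MonoidHom.comp_apply, MulEquiv.coe_toMonoidHom, hφa, MulEquiv.symm_apply_apply,
        MulAut.conj_apply, Subgroup.subtype_apply]
      rw [qdD_conj_qdT])) ?_
  · rw [injective_iff_map_eq_one]
    intro a ha
    have h1 : (a.left : Γ) * (a.right : Γ) = 1 := ha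
    obtain ⟨v, hv⟩ := eE.surjective a.left
    have h2 : E v ∈ Y := by
      rw [← heE', hv, eq_inv_of_mul_eq_one_left h1]
      exact Y.inv_mem a.right.2
    have h3 : v.toAdd = 0 := hY2 v.toAdd h2
    have h4 : a.left = 1 := by
      rw [← hv]
      have : v = 1 := h3
      rw [this, map_one]
    have h5 : a.right = 1 := by
      rw [h4] at h1
      apply Subtype.ext
      simpa using h1
    ext
    · rw [h4]; rfl
    · rw [h5]; rfl
  · intro q
    obtain ⟨A, v, rfl⟩ := qdMk_surj q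
    obtain ⟨y, hy, rfl⟩ := hY1 A
    refine ⟨⟨eE (Multiplicative.ofAdd v), ⟨y, hy⟩⟩, ?_⟩
    show (qdT p) (eE.symm (eE (Multiplicative.ofAdd v))) * (qdD p) (ρ y) = _
    rw [MulEquiv.symm_apply_apply, qdT_mul_qdD]

end Cfsg.Agent.Lib.Helper5
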