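import Cfsg.Agent.Lib.Helper5.QD3

set_option autoImplicit false
set_option linter.style.haveILetI false
set_option linter.unusedSectionVars false
set_option linter.unusedSimpArgs false

namespace Cfsg.Agent.Lib.Helper5

open Cfsg

local notation "SL2" => Matrix.SpecialLinearGroup (Fin 2)

variable {p : ℕ} {G : Type*} [Group G]

theorem pow_val_add [NeZero p] (g : G) (hg : g ^ p = 1) (a b : ZMod p) :
    g ^ (a + b).val = g ^ a.val * g ^ b.val := by
  rw [ZMod.val_add, ← pow_eq_pow_mod _ hg, pow_add]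

/-- the coordinate map of the plane `⟨u, w⟩` -/
def planeHom [NeZero p] (u w : G) (hup : u ^ p = 1) (hwp : w ^ p = 1) (huw : u * w = w * u) :
    Multiplicative (Fin 2 → ZMod p) →* G where
  toFun v := u ^ (v.toAdd 0).val * w ^ (v.toAdd 1).val
  map_one' := by simp
  map_mul' a b := by
    have hc : Commute u w := huw
    rw [toAdd_mul, Pi.add_apply, Pi.add_apply, pow_val_add u hup, pow_val_add w hwp]
    have h1 : Commute (u ^ (b.toAdd 0).val) (w ^ (a.toAdd 1).val) := hc.pow_pow _ _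
    calc u ^ (a.toAdd 0).val * u ^ (b.toAdd 0).val * (w ^ (a.toAdd 1).val * w ^ (b.toAdd 1).val)
        = u ^ (a.toAdd 0).val * (u ^ (b.toAdd 0).val * w ^ (a.toAdd 1).val) *
          w ^ (b.toAdd 1).val := by simp only [mul_assoc]
      _ = u ^ (a.toAdd 0).val * (w ^ (a.toAdd 1).val * u ^ (b.toAdd 0).val) *
          w ^ (b.toAdd 1).val := by rw [h1.eq]
      _ = _ := by simp only [mul_assoc]

theorem planeHom_apply [NeZero p] (u w : G) (hup : u ^ p = 1) (hwp : w ^ p = 1)
    (huw : u * w = w * u) (v : Fin 2 → ZMod p) :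
    planeHom u w hup hwp huw (Multiplicative.ofAdd v) = u ^ (v 0).val * w ^ (v 1).val := rfl

theorem val_eq_zero_of_pow [Fact p.Prime] (g : G) (hg : g ^ p = 1) (hg1 : g ≠ 1) (a : ZMod p)
    (h : g ^ a.val = 1) : a = 0 := by
  have ho := orderOf_eq_prime hg hg1
  have h1 := orderOf_dvd_of_pow_eq_one h
  rw [ho] at h1
  have h2 := ZMod.val_lt a
  have h3 : a.val = 0 := Nat.eq_zero_of_dvd_of_lt h1 h2
  exact (ZMod.val_eq_zero a).mp h3

theorem conj_mul_pow (x a b : G) (m n : ℕ) :
    x * (a ^ m * b ^ n) * x⁻¹ = (x * a * x⁻¹) ^ m * (x * b * x⁻¹) ^ n := by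
  rw [conj_pow, conj_pow]; group

theorem planeHom_injective [Fact p.Prime] (u w x y : G) (hu1 : u ≠ 1) (hup : u ^ p = 1)
    (hwp : w ^ p = 1) (huw : u * w = w * u) (hxw : x * w * x⁻¹ = w * u)
    (hyu : y * u * y⁻¹ = u * w) (hyw : y * w * y⁻¹ = w) :
    Function.Injective (planeHom u w hup hwp huw) := by
  have hw1 : w ≠ 1 := by
    intro h
    rw [h] at hxw
    apply hu1
    simpa using hxw.symm
  have hc : Commute u w := huw
  rw [injective_iff_map_eq_one]
  intro v hv
  obtain ⟨v, rfl⟩ : ∃ v' : Fin 2 → ZMod p, Multiplicative.ofAdd v' = v := ⟨v.toAdd, rfl⟩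
  rw [planeHom_apply] at hv
  have h1 : y * (u ^ (v 0).val * w ^ (v 1).val) * y⁻¹ = 1 := by rw [hv]; group
  rw [conj_mul_pow, hyu, hyw, hc.mul_pow] at h1
  have h2 : w ^ (v 0).val = 1 := by
    have h3 : u ^ (v 0).val * w ^ (v 0).val * w ^ (v 1).val =
        (u ^ (v 0).val * w ^ (v 1).val) * w ^ (v 0).val := by
      rw [mul_assoc, mul_assoc, (Commute.refl w).pow_pow _ _ |>.eq]
    rw [h3, hv, one_mul] at h1
    exact h1
  have h0 := val_eq_zero_of_pow w hwp hw1 _ h2
  rw [h0] at hv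
  simp only [ZMod.val_zero, pow_zero, one_mul] at hv
  have h4 := val_eq_zero_of_pow w hwp hw1 _ hv
  show Multiplicative.ofAdd v = Multiplicative.ofAdd 0
  congr 1
  ext i
  fin_cases i
  · exact h0
  · exact h4

/-- the graph of the action on the plane -/
def graphSub (E : Multiplicative (Fin 2 → ZMod p) →* G) : Subgroup (G × SL2 (ZMod p)) where
  carrier := {γ | ∀ v : Fin 2 → ZMod p, γ.1 * E (Multiplicative.ofAdd v) * γ.1⁻¹ =
    E (Multiplicative.ofAdd (γ.2.1.mulVec v))}
  one_mem' := by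
    intro v
    simp
  mul_mem' := by
    intro a b ha hb v
    have h1 : (a * b).1 * E (Multiplicative.ofAdd v) * (a * b).1⁻¹ =
        a.1 * (b.1 * E (Multiplicative.ofAdd v) * b.1⁻¹) * a.1⁻¹ := by
      rw [Prod.fst_mul]; group
    rw [h1, hb v, ha, Prod.snd_mul, Matrix.SpecialLinearGroup.coe_mul, Matrix.mulVec_mulVec]
  inv_mem' := by
    intro a ha v
    have h1 := ha ((a.2⁻¹).1.mulVec v)
    rw [Matrix.mulVec_mulVec, ← Matrix.SpecialLinearGroup.coe_mul, mul_inv_cancel,
      Matrix.SpecialLinearGroup.coe_one, Matrix.one_mulVec] at h1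
    rw [Prod.fst_inv, Prod.snd_inv, ← h1]
    group

theorem mem_graphSub (E : Multiplicative (Fin 2 → ZMod p) →* G) (γ : G × SL2 (ZMod p)) :
    γ ∈ graphSub E ↔ ∀ v : Fin 2 → ZMod p, γ.1 * E (Multiplicative.ofAdd v) * γ.1⁻¹ =
    E (Multiplicative.ofAdd (γ.2.1.mulVec v)) := Iff.rfl

/-- a group containing a plane `E` on which suitable elements induce `tU 1` and `sL 1`
involves `Qd(p)` -/
theorem qd_of_plane [Fact p.Prime] (hp2 : p ≠ 2) [Finite G]
    (E : Multiplicative (Fin 2 → ZMod p) →* G) (hE : Function.Injective E) (x y : G)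
    (hx : (x, tU 1) ∈ graphSub E) (hy : (y, sL 1) ∈ graphSub E) : Inv (qd p) G := by
  haveI : Finite (SL2 (ZMod p)) := Subtype.finite
  have hmem : ∀ v, (E.prod (1 : Multiplicative (Fin 2 → ZMod p) →* SL2 (ZMod p))) v ∈
      graphSub E := by
    intro v v'
    simp only [MonoidHom.prod_apply, MonoidHom.one_apply, Matrix.SpecialLinearGroup.coe_one,
      Matrix.one_mulVec]
    rw [← map_inv, ← map_mul, ← map_mul, mul_comm v, mul_inv_cancel_right]
  have h1 : Inv (qd p) (graphSub E) := by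
    refine qd_abs hp2 ((MonoidHom.snd G (SL2 (ZMod p))).comp (graphSub E).subtype) ?_
      ((E.prod 1).codRestrict (graphSub E) hmem) ?_ ?_
    · rw [← MonoidHom.range_eq_top, eq_top_iff, ← closure_tU_sL, Subgroup.closure_le]
      rintro _ (rfl | h)
      · exact ⟨⟨_, hx⟩, rfl⟩
      · rw [Set.mem_singleton_iff.mp h]
        exact ⟨⟨_, hy⟩, rfl⟩
    · intro a b hab
      have := congrArg (fun γ : graphSub E => γ.1.1) hab
      exact hE this
    · intro γ v
      apply Subtype.ext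
      apply Prod.ext
      · exact γ.2 v
      · simp
  refine h1.of_injective ((MonoidHom.fst G (SL2 (ZMod p))).comp (graphSub E).subtype) ?_
  intro a b hab
  have h2 : a.1.1 = b.1.1 := hab
  apply Subtype.ext
  apply Prod.ext h2
  apply Subtype.ext
  apply Matrix.mulVec_injective
  funext v
  have ha := a.2 v
  have hb := b.2 v
  rw [h2, hb] at ha
  exact (hE ha).symm

theorem tU_one_mulVec [Fact p.Prime] (v : Fin 2 → ZMod p) : (tU (1 : ZMod p)).1.mulVec v = ![v 0 + v 1, v 1] := by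
  ext i
  fin_cases i <;> simp [tU, Matrix.mulVec, dotProduct, Fin.sum_univ_two]

theorem sL_one_mulVec [Fact p.Prime] (v : Fin 2 → ZMod p) : (sL (1 : ZMod p)).1.mulVec v = ![v 0, v 0 + v 1] := by
  ext i
  fin_cases i <;> simp [sL, Matrix.mulVec, dotProduct, Fin.sum_univ_two]

/-- **`Qd(p)` from four elements.** -/
theorem qd_of_elements [Fact p.Prime] (hp2 : p ≠ 2) [Finite G] (u w x y : G)
    (hu1 : u ≠ 1) (hup : u ^ p = 1) (hwp : w ^ p = 1) (huw : u * w = w * u)
    (hxu : x * u * x⁻¹ = u) (hxw : x * w * x⁻¹ = w * u) (hyu : y * u * y⁻¹ = u * w)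
    (hyw : y * w * y⁻¹ = w) : Inv (qd p) G := by
  have hc : Commute u w := huw
  refine qd_of_plane hp2 (planeHom u w hup hwp huw)
    (planeHom_injective u w x y hu1 hup hwp huw hxw hyu hyw) x y ?_ ?_
  · intro v
    show x * planeHom u w hup hwp huw (Multiplicative.ofAdd v) * x⁻¹ =
      planeHom u w hup hwp huw (Multiplicative.ofAdd ((tU (1 : ZMod p)).1.mulVec v))
    rw [tU_one_mulVec, planeHom_apply, planeHom_apply, conj_mul_pow, hxu, hxw, hc.symm.mul_pow]
    simp only [Matrix.cons_val_zero, Matrix.cons_val_one, Matrix.cons_val_fin_one]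
    rw [pow_val_add u hup, mul_assoc, (hc.pow_pow _ _).eq]
  · intro v
    show y * planeHom u w hup hwp huw (Multiplicative.ofAdd v) * y⁻¹ =
      planeHom u w hup hwp huw (Multiplicative.ofAdd ((sL (1 : ZMod p)).1.mulVec v))
    rw [sL_one_mulVec, planeHom_apply, planeHom_apply, conj_mul_pow, hyu, hyw, hc.mul_pow]
    simp only [Matrix.cons_val_zero, Matrix.cons_val_one, Matrix.cons_val_fin_one]
    rw [pow_val_add w hwp, mul_assoc]

end Cfsg.Agent.Lib.Helper5
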