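import Cfsg.Agent.Lib.Helper5.DK9

set_option autoImplicit false
set_option linter.style.haveILetI false
set_option linter.unusedSectionVars false

namespace Cfsg.Agent.Lib.Helper5

open MulAction OnePoint

local notation "SL2" => Matrix.SpecialLinearGroup (Fin 2)

variable {K : Type*} [Field K]

theorem dk_dich [DecidableEq K] {p : ℕ} [Fact p.Prime] [CharP K p] (hp2 : p ≠ 2)
    (hK : ∀ t : K, ∃ x : K, x * x - t * x + 1 = 0)
    (H : Subgroup (SL2 K)) [Finite H] (hneg : negOne ∈ H) (l c : K) (hl : l ≠ 0) (hc : c ≠ 0)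
    (hlH : tU l ∈ H) (hcH : sL c ∈ H) :
    tU c⁻¹ ∈ H ∨ (p = 3 ∧ (l * c) ^ 2 = -1) := by
  have h2 : (2 : K) ≠ 0 := two_ne_zero_of_char hp2
  rcases dk_main hp2 hK H hneg l c hl hc hlH hcH with h | ⟨hp3, htri⟩
  · exact Or.inl h
  subst hp3
  have h3 : (3 : K) = 0 := by
    have := CharP.cast_eq_zero K 3
    exact_mod_cast this
  have hx0 : l * c ≠ 0 := mul_ne_zero hl hc
  have hlH' : tU (-l) ∈ H := by rw [← tU_inv]; exact H.inv_mem hlH
  have hone : l * c = 1 → tU c⁻¹ ∈ H := by
    intro h
    have : c⁻¹ = l := by field_simp; linear_combination -h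
    rw [this]; exact hlH
  have hmone : l * c = -1 → tU c⁻¹ ∈ H := by
    intro h
    have : c⁻¹ = -l := by field_simp; linear_combination h
    rw [this]; exact hlH'
  by_cases hdone : tU c⁻¹ ∈ H
  · exact Or.inl hdone
  right
  refine ⟨rfl, ?_⟩
  have hn1 : l * c ≠ 1 := fun h => hdone (hone h)
  have hn2 : l * c ≠ -1 := fun h => hdone (hmone h)
  have hq1 : (2 + l * c) ^ 4 + 1 = 0 := by
    obtain ⟨e00, -, -, e11⟩ := tU_sL_entries l c
    have ht := htri _ (H.mul_mem hlH hcH) (not_sc_tU_sL l c hl)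
    have hq := quartic_of_pow_ten h2 (tU l * sL c) (not_sc_tU_sL l c hl)
    rw [e00, e11] at ht hq
    rcases ht with ht | ht | ht
    · exfalso
      have : (l * c) * (l * c + 1) = 0 := by linear_combination ht - (l * c) * h3
      rcases mul_eq_zero.mp this with h | h
      · exact hx0 h
      · exact hn2 (by linear_combination h)
    · exfalso
      exact hn1 (by linear_combination ht - h3)
    · linear_combination hq ht + (1 + l * c + 1) ^ 2 * h3
  have hq2 : (2 - l * c) ^ 4 + 1 = 0 := by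
    obtain ⟨e00, -, -, e11⟩ := tU_sL_entries (-l) c
    have hl' : -l ≠ 0 := neg_ne_zero.mpr hl
    have ht := htri _ (H.mul_mem hlH' hcH) (not_sc_tU_sL (-l) c hl')
    have hq := quartic_of_pow_ten h2 (tU (-l) * sL c) (not_sc_tU_sL (-l) c hl')
    rw [e00, e11] at ht hq
    rcases ht with ht | ht | ht
    · exfalso
      have : (l * c) * (l * c - 1) = 0 := by linear_combination ht + (l * c) * h3
      rcases mul_eq_zero.mp this with h | h
      · exact hx0 h
      · exact hn1 (by linear_combination h)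
    · exfalso
      exact hn2 (by linear_combination -ht + h3)
    · linear_combination hq ht + (1 + -l * c + 1) ^ 2 * h3
  have : (l * c) * ((l * c) ^ 2 + 1) = 0 := by
    linear_combination hq1 - hq2 - (21 * (l * c) + 5 * (l * c) ^ 3) * h3
  rcases mul_eq_zero.mp this with h | h
  · exact absurd h hx0
  · linear_combination h

theorem slmap_tU {F : Type*} [Field F] (f : F →+* K) (l : F) :
    Matrix.SpecialLinearGroup.map (n := Fin 2) f (tU l) = tU (f l) := by
  apply Subtype.ext
  rw [Matrix.SpecialLinearGroup.map_apply_coe, RingHom.mapMatrix_apply]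
  apply ext2 <;> simp [tU, Matrix.map_apply]

theorem slmap_sL {F : Type*} [Field F] (f : F →+* K) (l : F) :
    Matrix.SpecialLinearGroup.map (n := Fin 2) f (sL l) = sL (f l) := by
  apply Subtype.ext
  rw [Matrix.SpecialLinearGroup.map_apply_coe, RingHom.mapMatrix_apply]
  apply ext2 <;> simp [sL, Matrix.map_apply]

/-- **Dickson's dichotomy** for a normalized pair of transvections, over any field. -/
theorem dickson_dich {F : Type*} [Field F] {p : ℕ} [Fact p.Prime] [CharP F p] (hp2 : p ≠ 2)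
    (H : Subgroup (SL2 F)) [Finite H] (l c : F) (hl : l ≠ 0) (hc : c ≠ 0)
    (hlH : tU l ∈ H) (hcH : sL c ∈ H) :
    tU c⁻¹ ∈ H ∨ (p = 3 ∧ (l * c) ^ 2 = -1) := by
  classical
  obtain ⟨f, hf⟩ : ∃ f : F →+* AlgebraicClosure F, f = algebraMap F (AlgebraicClosure F) := ⟨_, rfl⟩
  obtain ⟨ι, hι⟩ : ∃ ι : SL2 F →* SL2 (AlgebraicClosure F),
    ι = Matrix.SpecialLinearGroup.map f := ⟨_, rfl⟩
  have hinj : Function.Injective ι := hι ▸ slmap_injective _
  haveI : CharP (AlgebraicClosure F) p := charP_of_injective_algebraMap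
    (algebraMap F (AlgebraicClosure F)).injective p
  have hK : ∀ t : AlgebraicClosure F, ∃ x : AlgebraicClosure F, x * x - t * x + 1 = 0 := by
    intro t
    obtain ⟨x, hx⟩ := IsAlgClosed.exists_root
      (Polynomial.X ^ 2 - Polynomial.C t * Polynomial.X + 1 : Polynomial (AlgebraicClosure F)) (by
        have : (Polynomial.X ^ 2 - Polynomial.C t * Polynomial.X + 1 :
            Polynomial (AlgebraicClosure F)).degree = 2 := by compute_degree!
        rw [this]; norm_num)
    refine ⟨x, ?_⟩
    simp only [Polynomial.IsRoot.def, Polynomial.eval_add, Polynomial.eval_sub, Polynomial.eval_pow,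
      Polynomial.eval_X, Polynomial.eval_mul, Polynomial.eval_C, Polynomial.eval_one] at hx
    linear_combination hx
  haveI : Finite (H.map ι) :=
    Finite.of_surjective _ (H.equivMapOfInjective _ hinj).surjective
  have hl' : f l ≠ 0 := (map_ne_zero f).mpr hl
  have hc' : f c ≠ 0 := (map_ne_zero f).mpr hc
  have h1 : tU (f l) ∈ H.map ι := ⟨tU l, hlH, by rw [hι, slmap_tU]⟩
  have h2 : sL (f c) ∈ H.map ι := ⟨sL c, hcH, by rw [hι, slmap_sL]⟩
  rcases dk_dich hp2 hK (H.map ι) (negOne_mem_of hp2 _ _ _ hl' hc' h1 h2) (f l) (f c) hl' hc' h1 h2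
    with h | ⟨h3, h4⟩
  · left
    obtain ⟨r, hr, hr2⟩ := h
    have : ι r = ι (tU c⁻¹) := by rw [hr2, hι, slmap_tU, map_inv₀]
    rw [← hinj this]; exact hr
  · right
    refine ⟨h3, f.injective ?_⟩
    rw [map_pow, map_mul, h4, map_neg, map_one]

end Cfsg.Agent.Lib.Helper5
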