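import Cfsg.Agent.Lib.Helper5.QP2

set_option autoImplicit false
set_option linter.style.haveILetI false

namespace Cfsg.Agent.Lib.Helper5

universe u v w

local notation "SL2" => Matrix.SpecialLinearGroup (Fin 2)

section
variable {k : Type v} [Field k] {V : Type u} [AddCommGroup V] [Module k V] {X : Type w} [Group X]

theorem rep_inv_apply (ρ : Representation k X V) (g : X) (v : V) : ρ g⁻¹ (ρ g v) = v := by
  rw [← Module.End.mul_apply, ← map_mul, inv_mul_cancel, map_one, Module.End.one_apply]

theorem rep_apply_inv (ρ : Representation k X V) (g : X) (v : V) : ρ g (ρ g⁻¹ v) = v := by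
  rw [← Module.End.mul_apply, ← map_mul, mul_inv_cancel, map_one, Module.End.one_apply]

/-- A submodule stable under `ρ x - 1` and `ρ y - 1` is invariant. -/
theorem invariant_of_gens (ρ : Representation k X V) (x y : X)
    (hgen : Subgroup.closure {x, y} = ⊤) (hx : QuadOn ρ x) (hy : QuadOn ρ y) (U : Submodule k V)
    (hUx : ∀ v ∈ U, ρ x v ∈ U) (hUy : ∀ v ∈ U, ρ y v ∈ U) : ∀ g, U ≤ U.comap (ρ g) := by
  have hinv : ∀ t : X, QuadOn ρ t → (∀ v ∈ U, ρ t v ∈ U) → ∀ v ∈ U, ρ t⁻¹ v ∈ U := by
    intro t ht hUt v hv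
    have e : ρ t⁻¹ v = v - (ρ t v - v) := by
      have h1 : ρ t (v - (ρ t v - v)) = v := by
        rw [map_sub, ht v]; abel
      rw [← h1, rep_inv_apply, h1]
    rw [e]
    exact U.sub_mem hv (U.sub_mem (hUt v hv) hv)
  have key : ∀ g : X, g ∈ Subgroup.closure {x, y} →
      (∀ v ∈ U, ρ g v ∈ U) ∧ (∀ v ∈ U, ρ g⁻¹ v ∈ U) := by
    intro g hg
    induction hg using Subgroup.closure_induction with
    | mem t ht =>
      rcases ht with rfl | ht
      · exact ⟨hUx, hinv _ hx hUx⟩
      · rw [Set.mem_singleton_iff.mp ht]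
        exact ⟨hUy, hinv _ hy hUy⟩
    | one => simp
    | mul s t _ _ hs ht =>
      refine ⟨fun v hv => ?_, fun v hv => ?_⟩
      · rw [map_mul, Module.End.mul_apply]; exact hs.1 _ (ht.1 v hv)
      · rw [mul_inv_rev, map_mul, Module.End.mul_apply]; exact ht.2 _ (hs.2 v hv)
    | inv t _ ht => exact ⟨ht.2, by rw [inv_inv]; exact ht.1⟩
  intro g v hv
  exact (key g (hgen ▸ Subgroup.mem_top g)).1 v hv

/-- an endomorphism commuting with `ρ x` and `ρ y` commutes with everything -/
theorem commute_of_gens (ρ : Representation k X V) (x y : X)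
    (hgen : Subgroup.closure {x, y} = ⊤) (z : Module.End k V) (hzx : ρ x * z = z * ρ x)
    (hzy : ρ y * z = z * ρ y) : ∀ g, ρ g * z = z * ρ g := by
  have key : ∀ g : X, g ∈ Subgroup.closure {x, y} → ρ g * z = z * ρ g := by
    intro g hg
    induction hg using Subgroup.closure_induction with
    | mem t ht =>
      rcases ht with rfl | ht
      · exact hzx
      · rw [Set.mem_singleton_iff.mp ht]; exact hzy
    | one => simp
    | mul s t _ _ hs ht => rw [map_mul, mul_assoc, ht, ← mul_assoc, hs, mul_assoc]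
    | inv t _ ht =>
      have e1 : ρ t⁻¹ * ρ t = 1 := by rw [← map_mul, inv_mul_cancel, map_one]
      have e2 : ρ t * ρ t⁻¹ = 1 := by rw [← map_mul, mul_inv_cancel, map_one]
      calc ρ t⁻¹ * z = ρ t⁻¹ * z * (ρ t * ρ t⁻¹) := by rw [e2, mul_one]
        _ = ρ t⁻¹ * (z * ρ t) * ρ t⁻¹ := by simp only [mul_assoc]
        _ = ρ t⁻¹ * (ρ t * z) * ρ t⁻¹ := by rw [ht]
        _ = (ρ t⁻¹ * ρ t) * z * ρ t⁻¹ := by simp only [mul_assoc]
        _ = z * ρ t⁻¹ := by rw [e1, one_mul]
  intro g
  exact key g (hgen ▸ Subgroup.mem_top g)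

theorem exists_fixed_of_quad [Nontrivial V] (ρ : Representation k X V) (x : X) (hx : QuadOn ρ x) :
    ∃ u : V, u ≠ 0 ∧ ρ x u = u := by
  by_cases h : ∀ v : V, ρ x v = v
  · obtain ⟨u, hu⟩ := exists_ne (0 : V)
    exact ⟨u, hu, h u⟩
  · push Not at h
    obtain ⟨v, hv⟩ := h
    exact ⟨ρ x v - v, sub_ne_zero.mpr hv, hx v⟩

end

set_option linter.deprecated false in
theorem irr_case {p : ℕ} [Fact p.Prime] {k : Type v} [Field k] [CharP k p] {V : Type u}
    [AddCommGroup V] [Module k V] [Finite V] {X : Type w} [Group X] (ρ : Representation k X V)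
    (x y : X) (hgen : Subgroup.closure {x, y} = ⊤) (hirr : IrrRep ρ) (hx : QuadOn ρ x)
    (hy : QuadOn ρ y) (hnp : ¬ PAct p ρ) :
    ∃ (K : Type u) (_ : Field K) (_ : Finite K) (_ : CharP K p) (l : K) (π : X →* SL2 K),
      l ≠ 0 ∧ π x = tU l ∧ π y = sL 1 := by
  haveI : Nontrivial V := by
    by_contra h
    rw [not_nontrivial_iff_subsingleton] at h
    exact hnp (fun g => ⟨0, fun v => Subsingleton.elim _ _⟩)
  obtain ⟨a, ha⟩ : ∃ a : Module.End k V, a = ρ x - 1 := ⟨_, rfl⟩
  obtain ⟨b, hb⟩ : ∃ b : Module.End k V, b = ρ y - 1 := ⟨_, rfl⟩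
  have haa : a * a = 0 := by
    ext v
    have := hx v
    simp only [ha, Module.End.mul_apply, LinearMap.sub_apply, Module.End.one_apply,
      LinearMap.zero_apply]
    rw [this, sub_self]
  have hbb : b * b = 0 := by
    ext v
    have := hy v
    simp only [hb, Module.End.mul_apply, LinearMap.sub_apply, Module.End.one_apply,
      LinearMap.zero_apply]
    rw [this, sub_self]
  obtain ⟨z, hz⟩ : ∃ z : Module.End k V, z = a * b + b * a := ⟨_, rfl⟩
  have hza : a * z = z * a := by
    rw [hz, mul_add, add_mul, ← mul_assoc, haa, zero_mul, zero_add, mul_assoc b a a, haa, mul_zero,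
      add_zero, mul_assoc]
  have hzb : b * z = z * b := by
    rw [hz, mul_add, add_mul, ← mul_assoc b b a, hbb, zero_mul, add_zero, mul_assoc a b b, hbb,
      mul_zero, zero_add, mul_assoc]
  have hρx : ρ x = a + 1 := by rw [ha]; abel
  have hρy : ρ y = b + 1 := by rw [hb]; abel
  have hzg : ∀ g, ρ g * z = z * ρ g := by
    apply commute_of_gens ρ x y hgen
    · rw [hρx, add_mul, mul_add, hza, one_mul, mul_one]
    · rw [hρy, add_mul, mul_add, hzb, one_mul, mul_one]
  set Kz : Subalgebra k (Module.End k V) := Algebra.adjoin k {z} with hKz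
  have hKg : ∀ c ∈ Kz, ∀ g, ρ g * c = c * ρ g := by
    intro c hc g
    have hle : Kz ≤ Subalgebra.centralizer k {ρ g} := by
      apply Algebra.adjoin_le
      intro t ht
      rw [Set.mem_singleton_iff.mp ht]
      rw [SetLike.mem_coe, Subalgebra.mem_centralizer_iff]
      intro s hs
      rw [Set.mem_singleton_iff.mp hs]
      exact hzg g
    exact (Subalgebra.mem_centralizer_iff k).mp (hle hc) _ rfl
  have hker : ∀ c ∈ Kz, c = 0 ∨ Function.Injective c := by
    intro c hc
    rcases hirr (LinearMap.ker c) (by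
      intro g v hv
      rw [Submodule.mem_comap, LinearMap.mem_ker, ← Module.End.mul_apply, ← hKg c hc g,
        Module.End.mul_apply, LinearMap.mem_ker.mp hv, map_zero]) with h | h
    · right; exact LinearMap.ker_eq_bot.mp h
    · left; exact LinearMap.ker_eq_top.mp h
  letI iC : CommRing Kz := Algebra.adjoinCommRingOfComm k (by
    intro s hs t ht
    rw [Set.mem_singleton_iff.mp hs, Set.mem_singleton_iff.mp ht])
  haveI : Finite (Module.End k V) :=
    Finite.of_injective (fun f : Module.End k V => (f : V → V)) DFunLike.coe_injective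
  haveI : Finite Kz := inferInstance
  haveI : IsDomain Kz := by
    haveI : NoZeroDivisors Kz := ⟨by
      intro s t hst
      rcases hker s s.2 with h | h
      · left; exact Subtype.ext h
      · right
        apply Subtype.ext
        ext v
        apply h
        have := congrArg (fun c : Kz => (c : Module.End k V) v) hst
        simpa using this⟩
    exact NoZeroDivisors.to_isDomain Kz
  letI iF : Field Kz := (Finite.isField_of_domain Kz).toField
  have hsm : ∀ (c : Kz) (v : V), c • v = (c : Module.End k V) v := fun c v => rfl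
  obtain ⟨u, hu0, hxu⟩ := exists_fixed_of_quad ρ x hx
  set w : V := ρ y u - u with hw
  set l : Kz := ⟨z, Algebra.subset_adjoin rfl⟩ with hl
  have hau : a u = 0 := by rw [ha, LinearMap.sub_apply, Module.End.one_apply, hxu, sub_self]
  have hbu : b u = w := by rw [hb, LinearMap.sub_apply, Module.End.one_apply]
  have hbw : b w = 0 := by rw [← hbu, ← Module.End.mul_apply, hbb, LinearMap.zero_apply]
  have haw : a w = z u := by
    rw [hz, LinearMap.add_apply, Module.End.mul_apply, Module.End.mul_apply, hau, map_zero, add_zero,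
      hbu]
  have hca : ∀ c ∈ Kz, ∀ v, a (c v) = c (a v) := by
    intro c hc v
    have := hKg c hc x
    rw [ha, LinearMap.sub_apply, LinearMap.sub_apply, Module.End.one_apply, Module.End.one_apply,
      map_sub, ← Module.End.mul_apply, this, Module.End.mul_apply]
  have hcb : ∀ c ∈ Kz, ∀ v, b (c v) = c (b v) := by
    intro c hc v
    have := hKg c hc y
    rw [hb, LinearMap.sub_apply, LinearMap.sub_apply, Module.End.one_apply, Module.End.one_apply,
      map_sub, ← Module.End.mul_apply, this, Module.End.mul_apply]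
  -- the span
  set U : Submodule k V :=
    { carrier := {v | ∃ c₁ c₂ : Kz, v = c₁ • u + c₂ • w}
      add_mem' := by
        rintro _ _ ⟨c₁, c₂, rfl⟩ ⟨d₁, d₂, rfl⟩
        exact ⟨c₁ + d₁, c₂ + d₂, by rw [add_smul, add_smul]; abel⟩
      zero_mem' := ⟨0, 0, by simp⟩
      smul_mem' := by
        rintro r _ ⟨c₁, c₂, rfl⟩
        refine ⟨r • c₁, r • c₂, ?_⟩
        simp only [hsm, smul_add]
        rfl } with hU
  have hUmem : ∀ v, v ∈ U ↔ ∃ c₁ c₂ : Kz, v = c₁ • u + c₂ • w := fun v => Iff.rfl
  have hUa : ∀ v ∈ U, a v ∈ U := by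
    rintro _ ⟨c₁, c₂, rfl⟩
    refine ⟨c₂ * l, 0, ?_⟩
    simp only [hsm, map_add]
    rw [hca _ c₁.2, hca _ c₂.2, hau, haw, map_zero, zero_add]
    simp [hl]
  have hUb : ∀ v ∈ U, b v ∈ U := by
    rintro _ ⟨c₁, c₂, rfl⟩
    refine ⟨0, c₁, ?_⟩
    simp only [hsm, map_add]
    rw [hcb _ c₁.2, hcb _ c₂.2, hbu, hbw, map_zero, add_zero]
    simp
  have hUinv : ∀ g, U ≤ U.comap (ρ g) := by
    apply invariant_of_gens ρ x y hgen hx hy
    · intro v hv
      rw [hρx, LinearMap.add_apply, Module.End.one_apply]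
      exact U.add_mem (hUa v hv) hv
    · intro v hv
      rw [hρy, LinearMap.add_apply, Module.End.one_apply]
      exact U.add_mem (hUb v hv) hv
  have hUtop : U = ⊤ := by
    rcases hirr U hUinv with h | h
    · exfalso
      have : u ∈ U := ⟨1, 0, by simp⟩
      rw [h, Submodule.mem_bot] at this
      exact hu0 this
    · exact h
  have hsp : ∀ v : V, ∃ c₁ c₂ : Kz, v = c₁ • u + c₂ • w := by
    intro v
    exact (hUmem v).mp (hUtop ▸ Submodule.mem_top)
  have hl0 : l ≠ 0 := by
    intro h0
    have hz0 : z = 0 := congrArg Subtype.val h0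
    apply hnp
    have ha0 : a = 0 := by
      ext v
      obtain ⟨c₁, c₂, rfl⟩ := hsp v
      simp only [hsm, map_add]
      rw [hca _ c₁.2, hca _ c₂.2, hau, haw, hz0]
      simp
    have hb0 : b = 0 := by
      rcases hirr (LinearMap.ker b) (by
        apply invariant_of_gens ρ x y hgen hx hy
        · intro v hv
          rw [hρx, ha0, zero_add, Module.End.one_apply]; exact hv
        · intro v hv
          rw [hρy, LinearMap.add_apply, Module.End.one_apply, LinearMap.mem_ker.mp hv, zero_add]
          exact hv) with h | h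
      · exfalso
        obtain ⟨u', hu', hyu'⟩ := exists_fixed_of_quad ρ y hy
        have : u' ∈ LinearMap.ker b := by
          rw [LinearMap.mem_ker, hb, LinearMap.sub_apply, Module.End.one_apply, hyu', sub_self]
        rw [h, Submodule.mem_bot] at this
        exact hu' this
      · exact LinearMap.ker_eq_top.mp h
    have h1 : ρ = 1 := by
      apply MonoidHom.eq_of_eqOn_dense hgen
      intro g hg
      rcases hg with rfl | hg
      · rw [hρx, ha0, zero_add]; rfl
      · rw [Set.mem_singleton_iff.mp hg, hρy, hb0, zero_add]; rfl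
    intro g
    exact ⟨0, fun v => by rw [h1]; rfl⟩
  haveI : CharP Kz p := charP_of_injective_algebraMap (algebraMap k Kz).injective p
  obtain ⟨π, h1, h2⟩ := irr_abs (K := Kz) ρ x y hgen (by
      intro c g v
      rw [hsm, hsm, ← Module.End.mul_apply, hKg c c.2 g, Module.End.mul_apply]) l hl0 u hu0 hxu (by
      show ρ x w = w + l • u
      rw [hρx, LinearMap.add_apply, Module.End.one_apply, haw, hsm, add_comm]) (hy u) hsp
  exact ⟨Kz, iF, inferInstance, inferInstance, l, π, hl0, h1, h2⟩

/-- Main theorem on quadratic pairs (linear form). -/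
theorem quad_pair_main {p : ℕ} [Fact p.Prime] {k : Type v} [Field k] [CharP k p] {V : Type u}
    [AddCommGroup V] [Module k V] [Finite V] {X : Type w} [Group X] (ρ : Representation k X V)
    (x y : X) (hgen : Subgroup.closure {x, y} = ⊤) (hx : QuadOn ρ x)
    (hy : QuadOn ρ y) (hnp : ¬ PAct p ρ) :
    ∃ (K : Type u) (_ : Field K) (_ : Finite K) (_ : CharP K p) (l : K) (π : X →* SL2 K),
      l ≠ 0 ∧ π x = tU l ∧ π y = sL 1 := by
  obtain ⟨V', i1, i2, i3, ρ', h1, h2, h3⟩ := exists_irr_constituent (p := p) _ V ρ rfl hnp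
  exact irr_case ρ' x y hgen h1 (h3 x hx) (h3 y hy) h2

end Cfsg.Agent.Lib.Helper5
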