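import Cfsg.Agent.Lib.Helper5.QD5
import Cfsg.Agent.Lib.Helper5.QP3

set_option autoImplicit false
set_option linter.style.haveILetI false
set_option linter.unusedSectionVars false

namespace Cfsg.Agent.Lib.Helper5

local notation "SL2" => Matrix.SpecialLinearGroup (Fin 2)

/-- The two-dimensional core, with the matrix formula. -/
theorem core_sl2' {K : Type*} [Field K] {V : Type*} [AddCommGroup V] [Module K V] {X : Type*}
    [Group X] (σ : Representation K X V) (x y : X) (hgen : Subgroup.closure {x, y} = ⊤)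
    (l : K) (u w : V) (hxu : σ x u = u) (hxw : σ x w = w + l • u) (hyu : σ y u = u + w)
    (hyw : σ y w = w) (hli : LinearIndependent K ![u, w])
    (hsp : ⊤ ≤ Submodule.span K (Set.range ![u, w])) :
    ∃ π : X →* SL2 K, π x = tU l ∧ π y = sL 1 ∧
      ∀ g, σ g u = (π g).1 0 0 • u + (π g).1 1 0 • w ∧
        σ g w = (π g).1 0 1 • u + (π g).1 1 1 • w := by
  classical
  set B : Module.Basis (Fin 2) K V := Module.Basis.mk hli hsp with hB
  have hB0 : B 0 = u := by rw [hB, Module.Basis.mk_apply]; rfl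
  have hB1 : B 1 = w := by rw [hB, Module.Basis.mk_apply]; rfl
  set M : X →* Matrix (Fin 2) (Fin 2) K :=
    ((LinearMap.toMatrixAlgEquiv B).toAlgHom.toRingHom.toMonoidHom).comp σ with hM
  have hMapp : ∀ g i j, M g i j = B.repr (σ g (B j)) i := by
    intro g i j
    exact LinearMap.toMatrixAlgEquiv_apply B (σ g) i j
  have hMx : M x = !![1, l; 0, 1] := by
    apply ext2
    · rw [hMapp, hB0, hxu, ← hB0]; simp
    · rw [hMapp, hB1, hxw, ← hB0, ← hB1]; simp
    · rw [hMapp, hB0, hxu, ← hB0]; simp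
    · rw [hMapp, hB1, hxw, ← hB0, ← hB1]; simp
  have hMy : M y = !![1, 0; 1, 1] := by
    apply ext2
    · rw [hMapp, hB0, hyu, ← hB0, ← hB1]; simp
    · rw [hMapp, hB1, hyw, ← hB1]; simp
    · rw [hMapp, hB0, hyu, ← hB0, ← hB1]; simp
    · rw [hMapp, hB1, hyw, ← hB1]; simp
  have hdet : ∀ g, (M g).det = 1 := by
    have : (Matrix.detMonoidHom.comp M : X →* K) = 1 := by
      apply MonoidHom.eq_of_eqOn_dense hgen
      intro g hg
      rcases hg with rfl | hg
      · simp [hMx, Matrix.det_fin_two]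
      · rw [Set.mem_singleton_iff.mp hg]
        simp [hMy, Matrix.det_fin_two]
    intro g
    exact DFunLike.congr_fun this g
  refine ⟨MonoidHom.mk' (fun g => (⟨M g, hdet g⟩ : SL2 K)) ?_, ?_, ?_, ?_⟩
  · intro g h
    apply Subtype.ext
    exact map_mul M g h
  · apply Subtype.ext
    exact hMx
  · apply Subtype.ext
    exact hMy
  · intro g
    constructor
    · show σ g u = M g 0 0 • u + M g 1 0 • w
      rw [hMapp, hMapp, hB0]
      have := (B.sum_repr (σ g u)).symm
      rwa [Fin.sum_univ_two, hB0, hB1] at this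
    · show σ g w = M g 0 1 • u + M g 1 1 • w
      rw [hMapp, hMapp, hB1]
      have := (B.sum_repr (σ g w)).symm
      rwa [Fin.sum_univ_two, hB0, hB1] at this

theorem irr_abs' {k : Type*} [Field k] {K : Type*} [Field K] {V : Type*} [AddCommGroup V]
    [Module k V] [Module K V] {X : Type*} [Group X] (ρ : Representation k X V) (x y : X)
    (hgen : Subgroup.closure {x, y} = ⊤)
    (hlin : ∀ (c : K) (g : X) (v : V), ρ g (c • v) = c • ρ g v)
    (l : K) (hl : l ≠ 0) (u : V) (hu : u ≠ 0) (hxu : ρ x u = u)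
    (hz : ρ x (ρ y u - u) = (ρ y u - u) + l • u)
    (hyw : ρ y (ρ y u - u) = ρ y u - u)
    (hsp : ∀ v : V, ∃ c₁ c₂ : K, v = c₁ • u + c₂ • (ρ y u - u)) :
    ∃ π : X →* SL2 K, π x = tU l ∧ π y = sL 1 ∧
      ∀ g, ρ g u = (π g).1 0 0 • u + (π g).1 1 0 • (ρ y u - u) ∧
        ρ g (ρ y u - u) = (π g).1 0 1 • u + (π g).1 1 1 • (ρ y u - u) := by
  set σ : Representation K X V :=
    { toFun := fun g => { toFun := ρ g, map_add' := map_add _, map_smul' := fun c v => hlin c g v }
      map_one' := by ext v; simp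
      map_mul' := by intro g h; ext v; simp } with hσ
  have hσa : ∀ g v, σ g v = ρ g v := fun _ _ => rfl
  apply core_sl2' σ x y hgen l u (ρ y u - u)
  · exact hxu
  · exact hz
  · rw [hσa]; abel
  · exact hyw
  · rw [LinearIndependent.pair_iff]
    intro s t hst
    have h1 : ρ x (s • u + t • (ρ y u - u)) = 0 := by rw [hst, map_zero]
    rw [map_add, hlin, hlin, hxu, hz, smul_add, ← add_assoc, hst, zero_add, smul_smul] at h1
    have ht : t = 0 := by
      rcases smul_eq_zero.mp h1 with h | h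
      · exact (mul_eq_zero.mp h).resolve_right hl
      · exact absurd h hu
    rw [ht, zero_smul, add_zero] at hst
    exact ⟨(smul_eq_zero.mp hst).resolve_right hu, ht⟩
  · intro v _
    obtain ⟨c₁, c₂, rfl⟩ := hsp v
    apply Submodule.add_mem
    · exact Submodule.smul_mem _ _ (Submodule.subset_span ⟨0, rfl⟩)
    · exact Submodule.smul_mem _ _ (Submodule.subset_span ⟨1, rfl⟩)

/-- the natural plane: elements `x' y'` and vectors `u' w'` with the relations of the natural
module of `SL₂(p)` -/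
def Star {k : Type*} [Field k] {V : Type*} [AddCommGroup V] [Module k V] {X : Type*} [Group X]
    (ρ : Representation k X V) (N : Submodule k V) : Prop :=
  ∃ (x' y' : X) (u' w' : V), (∀ n ∈ N, ρ x' n ∈ N) ∧ (∀ n ∈ N, ρ y' n ∈ N) ∧ u' ∉ N ∧
    ρ x' u' - u' ∈ N ∧ ρ x' w' - (w' + u') ∈ N ∧ ρ y' u' - (u' + w') ∈ N ∧ ρ y' w' - w' ∈ N

theorem star_of_abs {p : ℕ} [Fact p.Prime] (hp2 : p ≠ 2) {k : Type*} [Field k] {K : Type*} [Field K]
    [Finite K] [CharP K p] {V : Type*} [AddCommGroup V]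
    [Module k V] [Module K V] {X : Type*} [Group X] (ρ : Representation k X V) (x y : X)
    (hgen : Subgroup.closure {x, y} = ⊤)
    (hlin : ∀ (c : K) (g : X) (v : V), ρ g (c • v) = c • ρ g v)
    (l : K) (hl : l ≠ 0) (u : V) (hu : u ≠ 0) (hxu : ρ x u = u)
    (hz : ρ x (ρ y u - u) = (ρ y u - u) + l • u)
    (hyw : ρ y (ρ y u - u) = ρ y u - u)
    (hsp : ∀ v : V, ∃ c₁ c₂ : K, v = c₁ • u + c₂ • (ρ y u - u)) : Star ρ ⊥ := by
  obtain ⟨π, h1, h2, hform⟩ := irr_abs' ρ x y hgen hlin l hl u hu hxu hz hyw hsp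
  obtain ⟨w, hw⟩ : ∃ w, w = ρ y u - u := ⟨_, rfl⟩
  rw [← hw] at hz hyw hform
  have hyu : ρ y u = u + w := by rw [hw]; abel
  haveI : Finite (SL2 K) := Subtype.finite
  have hbot : ∀ g : X, ∀ n ∈ (⊥ : Submodule k V), ρ g n ∈ (⊥ : Submodule k V) := by
    intro g n hn
    rw [Submodule.mem_bot] at hn ⊢
    rw [hn, map_zero]
  rcases dickson_dich (p := p) hp2 π.range l 1 hl one_ne_zero ⟨x, h1⟩ ⟨y, h2⟩ with h | ⟨-, h4⟩
  · rw [inv_one] at h
    obtain ⟨x', hx'⟩ := h
    refine ⟨x', y, u, w, hbot _, hbot _, by simpa using hu, ?_, ?_, ?_, ?_⟩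
    · have := (hform x').1
      rw [hx'] at this
      rw [this]; simp [tU]
    · have := (hform x').2
      rw [hx'] at this
      rw [this]; simp [tU, add_comm]
    · rw [hyu]; simp
    · rw [hyw]; simp
  · have hll : l * l = -1 := by rw [mul_one, pow_two] at h4; exact h4
    have hinv : l⁻¹ = -l := by
      apply inv_eq_of_mul_eq_one_left
      rw [neg_mul, hll, neg_neg]
    have hxiu : ρ x⁻¹ u = u := by
      have := rep_inv_apply ρ x u
      rwa [hxu] at this
    have hxiw : ρ x⁻¹ w = w - l • u := by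
      have h5 : ρ x (w - l • u) = w := by
        rw [map_sub, hz, hlin, hxu]; abel
      have := rep_inv_apply ρ x (w - l • u)
      rwa [h5] at this
    have hw0 : w ≠ 0 := by
      intro h0
      rw [h0, map_zero, zero_add] at hz
      exact (smul_ne_zero hl hu) hz.symm
    have e1 : ρ (x * y * x⁻¹) (u + l⁻¹ • w) = u + l⁻¹ • w := by
      rw [map_mul, map_mul, Module.End.mul_apply, Module.End.mul_apply, map_add, hlin, hxiu, hxiw]
      have : u + l⁻¹ • (w - l • u) = l⁻¹ • w := by
        rw [smul_sub, smul_smul, inv_mul_cancel₀ hl, one_smul]; abel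
      rw [this, hlin, hyw, hlin, hz, smul_add, smul_smul, inv_mul_cancel₀ hl, one_smul, add_comm]
    have e2 : ρ (x * y * x⁻¹) w = w + (u + l⁻¹ • w) := by
      rw [map_mul, map_mul, Module.End.mul_apply, Module.End.mul_apply, hxiw, map_sub, hlin, hyw,
        hyu, map_sub, hlin, map_add, hz, hxu, hinv]
      have : w + l • u - l • (u + (w + l • u)) = w - l • w - (l * l) • u := by module
      rw [this, hll]
      module
    have e3 : ρ y (u + l⁻¹ • w) = (u + l⁻¹ • w) + w := by
      rw [map_add, hlin, hyw, hyu]; abel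
    refine ⟨x * y * x⁻¹, y, u + l⁻¹ • w, w, hbot _, hbot _, ?_, ?_, ?_, ?_, ?_⟩
    · rw [Submodule.mem_bot]
      intro h0
      rw [h0, map_zero, zero_add] at e3
      exact hw0 e3.symm
    · rw [e1]; simp
    · rw [e2]; simp
    · rw [e3]; simp
    · rw [hyw]; simp

end Cfsg.Agent.Lib.Helper5
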