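import Cfsg.Agent.Lib.Helper5.QD6

set_option autoImplicit false
set_option linter.style.haveILetI false
set_option linter.unusedSectionVars false

namespace Cfsg.Agent.Lib.Helper5

universe u v w

local notation "SL2" => Matrix.SpecialLinearGroup (Fin 2)

set_option linter.deprecated false in
theorem irr_case' {p : ℕ} [Fact p.Prime] (hp2 : p ≠ 2) {k : Type v} [Field k] [CharP k p] {V : Type u}
    [AddCommGroup V] [Module k V] [Finite V] {X : Type w} [Group X] (ρ : Representation k X V)
    (x y : X) (hgen : Subgroup.closure {x, y} = ⊤) (hirr : IrrRep ρ) (hx : QuadOn ρ x)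
    (hy : QuadOn ρ y) (hnp : ¬ PAct p ρ) :
    Star ρ ⊥ := by
  haveI : Nontrivial V := by
    by_contra h
    rw [not_nontrivial_iff_subsingleton] at h
    exact hnp (fun g => ⟨0, fun v => Subsingleton.elim _ _⟩)
  obtain ⟨a, ha⟩ : ∃ a : Module.End k V, a = ρ x - 1 := ⟨_, rfl⟩
  obtain ⟨b, hb⟩ : ∃ b : Module.End k V, b = ρ y - 1 := ⟨_, rfl⟩
  have haa : a * a = 0 := by
    ext v
    have := hx v
    simp only [ha, Module.End.mul_apply, LinearMap.sub_apply, Module.End.one_apply,
      LinearMap.zero_apply]
    rw [this, sub_self]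
  have hbb : b * b = 0 := by
    ext v
    have := hy v
    simp only [hb, Module.End.mul_apply, LinearMap.sub_apply, Module.End.one_apply,
      LinearMap.zero_apply]
    rw [this, sub_self]
  obtain ⟨z, hz⟩ : ∃ z : Module.End k V, z = a * b + b * a := ⟨_, rfl⟩
  have hza : a * z = z * a := by
    rw [hz, mul_add, add_mul, ← mul_assoc, haa, zero_mul, zero_add, mul_assoc b a a, haa, mul_zero,
      add_zero, mul_assoc]
  have hzb : b * z = z * b := by
    rw [hz, mul_add, add_mul, ← mul_assoc b b a, hbb, zero_mul, add_zero, mul_assoc a b b, hbb,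
      mul_zero, zero_add, mul_assoc]
  have hρx : ρ x = a + 1 := by rw [ha]; abel
  have hρy : ρ y = b + 1 := by rw [hb]; abel
  have hzg : ∀ g, ρ g * z = z * ρ g := by
    apply commute_of_gens ρ x y hgen
    · rw [hρx, add_mul, mul_add, hza, one_mul, mul_one]
    · rw [hρy, add_mul, mul_add, hzb, one_mul, mul_one]
  set Kz : Subalgebra k (Module.End k V) := Algebra.adjoin k {z} with hKz
  have hKg : ∀ c ∈ Kz, ∀ g, ρ g * c = c * ρ g := by
    intro c hc g
    have hle : Kz ≤ Subalgebra.centralizer k {ρ g} := by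
      apply Algebra.adjoin_le
      intro t ht
      rw [Set.mem_singleton_iff.mp ht]
      rw [SetLike.mem_coe, Subalgebra.mem_centralizer_iff]
      intro s hs
      rw [Set.mem_singleton_iff.mp hs]
      exact hzg g
    exact (Subalgebra.mem_centralizer_iff k).mp (hle hc) _ rfl
  have hker : ∀ c ∈ Kz, c = 0 ∨ Function.Injective c := by
    intro c hc
    rcases hirr (LinearMap.ker c) (by
      intro g v hv
      rw [Submodule.mem_comap, LinearMap.mem_ker, ← Module.End.mul_apply, ← hKg c hc g,
        Module.End.mul_apply, LinearMap.mem_ker.mp hv, map_zero]) with h | h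
    · right; exact LinearMap.ker_eq_bot.mp h
    · left; exact LinearMap.ker_eq_top.mp h
  letI iC : CommRing Kz := Algebra.adjoinCommRingOfComm k (by
    intro s hs t ht
    rw [Set.mem_singleton_iff.mp hs, Set.mem_singleton_iff.mp ht])
  haveI : Finite (Module.End k V) :=
    Finite.of_injective (fun f : Module.End k V => (f : V → V)) DFunLike.coe_injective
  haveI : Finite Kz := inferInstance
  haveI : IsDomain Kz := by
    haveI : NoZeroDivisors Kz := ⟨by
      intro s t hst
      rcases hker s s.2 with h | h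
      · left; exact Subtype.ext h
      · right
        apply Subtype.ext
        ext v
        apply h
        have := congrArg (fun c : Kz => (c : Module.End k V) v) hst
        simpa using this⟩
    exact NoZeroDivisors.to_isDomain Kz
  letI iF : Field Kz := (Finite.isField_of_domain Kz).toField
  have hsm : ∀ (c : Kz) (v : V), c • v = (c : Module.End k V) v := fun c v => rfl
  obtain ⟨u, hu0, hxu⟩ := exists_fixed_of_quad ρ x hx
  set w : V := ρ y u - u with hw
  set l : Kz := ⟨z, Algebra.subset_adjoin rfl⟩ with hl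
  have hau : a u = 0 := by rw [ha, LinearMap.sub_apply, Module.End.one_apply, hxu, sub_self]
  have hbu : b u = w := by rw [hb, LinearMap.sub_apply, Module.End.one_apply]
  have hbw : b w = 0 := by rw [← hbu, ← Module.End.mul_apply, hbb, LinearMap.zero_apply]
  have haw : a w = z u := by
    rw [hz, LinearMap.add_apply, Module.End.mul_apply, Module.End.mul_apply, hau, map_zero, add_zero,
      hbu]
  have hca : ∀ c ∈ Kz, ∀ v, a (c v) = c (a v) := by
    intro c hc v
    have := hKg c hc x
    rw [ha, LinearMap.sub_apply, LinearMap.sub_apply, Module.End.one_apply, Module.End.one_apply,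
      map_sub, ← Module.End.mul_apply, this, Module.End.mul_apply]
  have hcb : ∀ c ∈ Kz, ∀ v, b (c v) = c (b v) := by
    intro c hc v
    have := hKg c hc y
    rw [hb, LinearMap.sub_apply, LinearMap.sub_apply, Module.End.one_apply, Module.End.one_apply,
      map_sub, ← Module.End.mul_apply, this, Module.End.mul_apply]
  -- the span
  set U : Submodule k V :=
    { carrier := {v | ∃ c₁ c₂ : Kz, v = c₁ • u + c₂ • w}
      add_mem' := by
        rintro _ _ ⟨c₁, c₂, rfl⟩ ⟨d₁, d₂, rfl⟩
        exact ⟨c₁ + d₁, c₂ + d₂, by rw [add_smul, add_smul]; abel⟩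
      zero_mem' := ⟨0, 0, by simp⟩
      smul_mem' := by
        rintro r _ ⟨c₁, c₂, rfl⟩
        refine ⟨r • c₁, r • c₂, ?_⟩
        simp only [hsm, smul_add]
        rfl } with hU
  have hUmem : ∀ v, v ∈ U ↔ ∃ c₁ c₂ : Kz, v = c₁ • u + c₂ • w := fun v => Iff.rfl
  have hUa : ∀ v ∈ U, a v ∈ U := by
    rintro _ ⟨c₁, c₂, rfl⟩
    refine ⟨c₂ * l, 0, ?_⟩
    simp only [hsm, map_add]
    rw [hca _ c₁.2, hca _ c₂.2, hau, haw, map_zero, zero_add]
    simp [hl]
  have hUb : ∀ v ∈ U, b v ∈ U := by
    rintro _ ⟨c₁, c₂, rfl⟩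
    refine ⟨0, c₁, ?_⟩
    simp only [hsm, map_add]
    rw [hcb _ c₁.2, hcb _ c₂.2, hbu, hbw, map_zero, add_zero]
    simp
  have hUinv : ∀ g, U ≤ U.comap (ρ g) := by
    apply invariant_of_gens ρ x y hgen hx hy
    · intro v hv
      rw [hρx, LinearMap.add_apply, Module.End.one_apply]
      exact U.add_mem (hUa v hv) hv
    · intro v hv
      rw [hρy, LinearMap.add_apply, Module.End.one_apply]
      exact U.add_mem (hUb v hv) hv
  have hUtop : U = ⊤ := by
    rcases hirr U hUinv with h | h
    · exfalso
      have : u ∈ U := ⟨1, 0, by simp⟩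
      rw [h, Submodule.mem_bot] at this
      exact hu0 this
    · exact h
  have hsp : ∀ v : V, ∃ c₁ c₂ : Kz, v = c₁ • u + c₂ • w := by
    intro v
    exact (hUmem v).mp (hUtop ▸ Submodule.mem_top)
  have hl0 : l ≠ 0 := by
    intro h0
    have hz0 : z = 0 := congrArg Subtype.val h0
    apply hnp
    have ha0 : a = 0 := by
      ext v
      obtain ⟨c₁, c₂, rfl⟩ := hsp v
      simp only [hsm, map_add]
      rw [hca _ c₁.2, hca _ c₂.2, hau, haw, hz0]
      simp
    have hb0 : b = 0 := by
      rcases hirr (LinearMap.ker b) (by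
        apply invariant_of_gens ρ x y hgen hx hy
        · intro v hv
          rw [hρx, ha0, zero_add, Module.End.one_apply]; exact hv
        · intro v hv
          rw [hρy, LinearMap.add_apply, Module.End.one_apply, LinearMap.mem_ker.mp hv, zero_add]
          exact hv) with h | h
      · exfalso
        obtain ⟨u', hu', hyu'⟩ := exists_fixed_of_quad ρ y hy
        have : u' ∈ LinearMap.ker b := by
          rw [LinearMap.mem_ker, hb, LinearMap.sub_apply, Module.End.one_apply, hyu', sub_self]
        rw [h, Submodule.mem_bot] at this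
        exact hu' this
      · exact LinearMap.ker_eq_top.mp h
    have h1 : ρ = 1 := by
      apply MonoidHom.eq_of_eqOn_dense hgen
      intro g hg
      rcases hg with rfl | hg
      · rw [hρx, ha0, zero_add]; rfl
      · rw [Set.mem_singleton_iff.mp hg, hρy, hb0, zero_add]; rfl
    intro g
    exact ⟨0, fun v => by rw [h1]; rfl⟩
  haveI : CharP Kz p := charP_of_injective_algebraMap (algebraMap k Kz).injective p
  exact star_of_abs (p := p) hp2 (K := Kz) ρ x y hgen (by
      intro c g v
      rw [hsm, hsm, ← Module.End.mul_apply, hKg c c.2 g, Module.End.mul_apply]) l hl0 u hu0 hxu (by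
      show ρ x w = w + l • u
      rw [hρx, LinearMap.add_apply, Module.End.one_apply, haw, hsm, add_comm]) (hy u) hsp

theorem Star.of_sub {k : Type v} [Field k] {V : Type u} [AddCommGroup V] [Module k V] {X : Type w}
    [Group X] (ρ : Representation k X V) (U : Submodule k V) (hU : ∀ g, U ≤ U.comap (ρ g))
    (N : Submodule k U) (h : Star (ρ.subrepresentation U hU) N) : Star ρ (N.map U.subtype) := by
  obtain ⟨x', y', u', w', h1, h2, h3, h4, h5, h6, h7⟩ := h
  have hc : ∀ (g : X) (v : U), ((ρ.subrepresentation U hU g v : U) : V) = ρ g v := fun _ _ => rfl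
  have hm : ∀ v : U, (v : V) ∈ N.map U.subtype ↔ v ∈ N := by
    intro v
    constructor
    · rintro ⟨v', hv', e⟩
      rwa [← U.subtype_injective e]
    · intro hv
      exact ⟨v, hv, rfl⟩
  refine ⟨x', y', u', w', ?_, ?_, ?_, ?_, ?_, ?_, ?_⟩
  · rintro _ ⟨n, hn, rfl⟩
    exact (hm _).mpr (h1 n hn)
  · rintro _ ⟨n, hn, rfl⟩
    exact (hm _).mpr (h2 n hn)
  · exact fun h => h3 ((hm _).mp h)
  · exact (hm _).mpr h4
  · exact (hm _).mpr h5
  · exact (hm _).mpr h6
  · exact (hm _).mpr h7

theorem Star.of_quot {k : Type v} [Field k] {V : Type u} [AddCommGroup V] [Module k V] {X : Type w}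
    [Group X] (ρ : Representation k X V) (U : Submodule k V) (hU : ∀ g, U ≤ U.comap (ρ g))
    (N : Submodule k (V ⧸ U)) (h : Star (ρ.quotient U hU) N) : Star ρ (N.comap U.mkQ) := by
  obtain ⟨x', y', u', w', h1, h2, h3, h4, h5, h6, h7⟩ := h
  obtain ⟨u', rfl⟩ := Submodule.Quotient.mk_surjective U u'
  obtain ⟨w', rfl⟩ := Submodule.Quotient.mk_surjective U w'
  have hc : ∀ (g : X) (v : V), ρ.quotient U hU g (Submodule.Quotient.mk v) =
      Submodule.Quotient.mk (ρ g v) := by
    intro g v
    rw [Representation.quotient_apply, Submodule.mapQ_apply]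
  have hm : ∀ v : V, v ∈ N.comap U.mkQ ↔ (Submodule.Quotient.mk v : V ⧸ U) ∈ N := fun _ => Iff.rfl
  refine ⟨x', y', u', w', ?_, ?_, ?_, ?_, ?_, ?_, ?_⟩
  · intro n hn
    rw [hm, ← hc]
    exact h1 _ hn
  · intro n hn
    rw [hm, ← hc]
    exact h2 _ hn
  · exact h3
  · rw [hm, Submodule.Quotient.mk_sub, ← hc]; exact h4
  · rw [hm, Submodule.Quotient.mk_sub, Submodule.Quotient.mk_add, ← hc]; exact h5
  · rw [hm, Submodule.Quotient.mk_sub, Submodule.Quotient.mk_add, ← hc]; exact h6
  · rw [hm, Submodule.Quotient.mk_sub, ← hc]; exact h7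

/-- a quadratic pair not acting as a `p`-group produces a natural plane in a section -/
theorem star_of_not_pAct {p : ℕ} [Fact p.Prime] (hp2 : p ≠ 2) {k : Type v} [Field k] [CharP k p]
    {X : Type w} [Group X] (x y : X) (hgen : Subgroup.closure {x, y} = ⊤) :
    ∀ (n : ℕ) (V : Type u) [AddCommGroup V] [Module k V] [Finite V] (ρ : Representation k X V),
      Nat.card V = n → ¬ PAct p ρ → QuadOn ρ x → QuadOn ρ y → ∃ N : Submodule k V, Star ρ N := by
  intro n
  induction n using Nat.strong_induction_on with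
  | _ n IH =>
    intro V _ _ _ ρ hn hnp hx hy
    by_cases hirr : IrrRep ρ
    · exact ⟨⊥, irr_case' hp2 ρ x y hgen hirr hx hy hnp⟩
    · unfold IrrRep at hirr
      push Not at hirr
      obtain ⟨U, hU, hbot, htop⟩ := hirr
      haveI : Finite (V ⧸ U) := Finite.of_surjective _ (Submodule.Quotient.mk_surjective U)
      have hmul : Nat.card U * Nat.card (V ⧸ U) = Nat.card V := by
        have := AddSubgroup.card_eq_card_quotient_mul_card_addSubgroup U.toAddSubgroup
        rw [this, mul_comm]
        rfl
      have hU1 : 1 < Nat.card U := by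
        haveI : Nontrivial U := Submodule.nontrivial_iff_ne_bot.mpr hbot
        exact Finite.one_lt_card
      have hQ1 : 1 < Nat.card (V ⧸ U) := by
        haveI : Nontrivial (V ⧸ U) := Submodule.Quotient.nontrivial_iff.mpr htop
        exact Finite.one_lt_card
      by_cases h1 : PAct p (ρ.subrepresentation U hU)
      · by_cases h2 : PAct p (ρ.quotient U hU)
        · exact absurd (pAct_of_sub_quot ρ U hU h1 h2) hnp
        · have hlt : Nat.card (V ⧸ U) < n := by
            rw [← hn, ← hmul]
            exact lt_mul_of_one_lt_left Nat.card_pos hU1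
          obtain ⟨N, hN⟩ := IH _ hlt (V ⧸ U) (ρ.quotient U hU) rfl h2 (quadOn_quot ρ U hU x hx)
            (quadOn_quot ρ U hU y hy)
          exact ⟨_, hN.of_quot⟩
      · have hlt : Nat.card U < n := by
          rw [← hn, ← hmul]
          exact lt_mul_of_one_lt_right Nat.card_pos hQ1
        obtain ⟨N, hN⟩ := IH _ hlt U (ρ.subrepresentation U hU) rfl h1 (quadOn_sub ρ U hU x hx)
          (quadOn_sub ρ U hU y hy)
        exact ⟨_, hN.of_sub⟩

end Cfsg.Agent.Lib.Helper5
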