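import Cfsg.Agent.Lib.Helper5.QP3

set_option autoImplicit false
set_option linter.style.haveILetI false

namespace Cfsg.Agent.Lib.Helper5

universe u v w

open scoped commutatorElement

local notation "SL2" => Matrix.SpecialLinearGroup (Fin 2)

/-- Quadratic pairs acting on an abstract elementary abelian `p`-group. -/
theorem quad_pair_mulAut {p : ℕ} [Fact p.Prime] {A : Type u} [CommGroup A] [Finite A]
    (hA : ∀ a : A, a ^ p = 1) {X : Type w} [Group X] (φ : X →* MulAut A) (x y : X)
    (hgen : Subgroup.closure {x, y} = ⊤) (hx : ∀ a, φ x (φ x a / a) = φ x a / a)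
    (hy : ∀ a, φ y (φ y a / a) = φ y a / a)
    (hnp : ¬ ∀ g : X, ∃ n : ℕ, ∀ a, φ (g ^ p ^ n) a = a) :
    ∃ (K : Type u) (_ : Field K) (_ : Finite K) (_ : CharP K p) (l : K) (π : X →* SL2 K),
      l ≠ 0 ∧ π x = tU l ∧ π y = sL 1 := by
  have h0 : ∀ a : Additive A, p • a = 0 := by
    intro a
    exact congrArg Additive.ofMul (hA a.toMul)
  obtain ⟨iM⟩ : Nonempty (Module (ZMod p) (Additive A)) := ⟨AddCommGroup.zmodModule h0⟩
  let ρ : Representation (ZMod p) X (Additive A) :=
    ({ toFun := fun g => ((MonoidHom.toAdditive (φ g).toMonoidHom).toZModLinearMap p :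
        Module.End (ZMod p) (Additive A))
       map_one' := by
        apply LinearMap.ext
        intro a
        show Additive.ofMul (φ 1 a.toMul) = a
        rw [map_one]; rfl
       map_mul' := by
        intro g h
        apply LinearMap.ext
        intro a
        show Additive.ofMul (φ (g * h) a.toMul) = Additive.ofMul (φ g (φ h a.toMul))
        rw [map_mul]; rfl } : X →* Module.End (ZMod p) (Additive A))
  have hρ : ∀ g (a : Additive A), (ρ g : Additive A →ₗ[ZMod p] Additive A) a =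
      Additive.ofMul (φ g a.toMul) := fun _ _ => rfl
  apply quad_pair_main (p := p) ρ x y hgen
  · intro a
    rw [hρ, hρ]
    exact congrArg Additive.ofMul (hx a.toMul)
  · intro a
    rw [hρ, hρ]
    exact congrArg Additive.ofMul (hy a.toMul)
  · intro h
    apply hnp
    intro g
    obtain ⟨n, hn⟩ := h g
    exact ⟨n, fun a => congrArg Additive.toMul (hn (Additive.ofMul a))⟩

theorem quad_elem {G : Type*} [Group G] (V : Subgroup G) (a : G)
    (hq : ⁅⁅V, Subgroup.zpowers a⁆, Subgroup.zpowers a⁆ = ⊥) (v : G) (hv : v ∈ V) :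
    a * (a * v * a⁻¹ * v⁻¹) * a⁻¹ = a * v * a⁻¹ * v⁻¹ := by
  have m1 : ⁅a, v⁆ ∈ ⁅V, Subgroup.zpowers a⁆ := by
    rw [Subgroup.commutator_comm]
    exact Subgroup.commutator_mem_commutator (Subgroup.mem_zpowers a) hv
  have m2 : ⁅a, ⁅a, v⁆⁆ ∈ ⁅⁅V, Subgroup.zpowers a⁆, Subgroup.zpowers a⁆ := by
    rw [Subgroup.commutator_comm]
    exact Subgroup.commutator_mem_commutator (Subgroup.mem_zpowers a) m1
  rw [hq, Subgroup.mem_bot, commutatorElement_eq_one_iff_mul_comm, commutatorElement_def] at m2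
  rw [m2, mul_inv_cancel_right]

theorem closure_pair_top {G : Type*} [Group G] (H : Subgroup G) (a b : G)
    (hH : H = Subgroup.closure {a, b}) (ha : a ∈ H) (hb : b ∈ H) :
    Subgroup.closure {(⟨a, ha⟩ : H), ⟨b, hb⟩} = ⊤ := by
  subst hH
  have := Subgroup.closure_closure_coe_preimage (k := ({a, b} : Set G))
  rw [← this]
  congr 1
  ext ⟨g, hg⟩
  simp [Subtype.ext_iff]

/-- Quadratic pairs on a normal elementary abelian subgroup. -/
theorem quad_pair_normal {p : ℕ} [Fact p.Prime] {G : Type u} [Group G] (V : Subgroup G)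
    [hVn : V.Normal] [Finite V] (hVc : IsMulCommutative V) (hVp : ∀ v ∈ V, v ^ p = 1)
    (H : Subgroup G) (a b : G) (hH : H = Subgroup.closure {a, b})
    (ha : ⁅⁅V, Subgroup.zpowers a⁆, Subgroup.zpowers a⁆ = ⊥)
    (hb : ⁅⁅V, Subgroup.zpowers b⁆, Subgroup.zpowers b⁆ = ⊥)
    (hnp : ¬ ∀ g ∈ H, ∃ n : ℕ, g ^ p ^ n ∈ Subgroup.centralizer (V : Set G)) :
    ∃ (K : Type u) (_ : Field K) (_ : Finite K) (_ : CharP K p) (l : K) (π : H →* SL2 K),
      l ≠ 0 ∧ tU l ∈ π.range ∧ sL 1 ∈ π.range := by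
  have haH : a ∈ H := hH ▸ Subgroup.subset_closure (by simp)
  have hbH : b ∈ H := hH ▸ Subgroup.subset_closure (by simp)
  letI : CommGroup V := { (inferInstance : Group V) with mul_comm := hVc.is_comm.comm }
  obtain ⟨K, i1, i2, i3, l, π, h1, h2, h3⟩ := quad_pair_mulAut (p := p) (A := V)
    (fun v => Subtype.ext (by simpa using hVp v v.2))
    ((MulAut.conjNormal (H := V)).comp H.subtype) ⟨a, haH⟩ ⟨b, hbH⟩
    (closure_pair_top H a b hH haH hbH)
    (by
      intro v
      apply Subtype.ext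
      simpa [div_eq_mul_inv, mul_assoc] using quad_elem V a ha v v.2)
    (by
      intro v
      apply Subtype.ext
      simpa [div_eq_mul_inv, mul_assoc] using quad_elem V b hb v v.2)
    (by
      intro h
      apply hnp
      intro g hg
      obtain ⟨n, hn⟩ := h ⟨g, hg⟩
      refine ⟨n, ?_⟩
      rw [Subgroup.mem_centralizer_iff]
      intro v hv
      have := congrArg Subtype.val (hn ⟨v, hv⟩)
      simp only [MonoidHom.comp_apply, Subgroup.subtype_apply, MulAut.conjNormal_apply,
        Subgroup.coe_pow] at this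
      calc v * g ^ p ^ n = (g ^ p ^ n * v * (g ^ p ^ n)⁻¹) * g ^ p ^ n := by rw [this]
        _ = g ^ p ^ n * v := by group)
  exact ⟨K, i1, i2, i3, l, π, h1, ⟨_, h2⟩, ⟨_, h3⟩⟩

end Cfsg.Agent.Lib.Helper5
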