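import Cfsg.Agent.Lib.Helper5.QD4
import Cfsg.Agent.Lib.Helper5.QD7
import Cfsg.Agent.Lib.Helper5.QP4
import Cfsg.Agent.Lib.Helper5.PPrimeQuot

set_option autoImplicit false
set_option linter.style.haveILetI false
set_option linter.unusedSectionVars false
set_option linter.unusedSimpArgs false

namespace Cfsg.Agent.Lib.Helper5

open Cfsg

universe u v w

local notation "SL2" => Matrix.SpecialLinearGroup (Fin 2)

/-- `Qd(p)` from four elements modulo a subgroup they normalize -/
theorem qd_of_elements_mod {p : ℕ} [Fact p.Prime] (hp2 : p ≠ 2) {G : Type*} [Group G] [Finite G]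
    (N : Subgroup G) (u w x y : G)
    (hxN : ∀ n ∈ N, x * n * x⁻¹ ∈ N) (hyN : ∀ n ∈ N, y * n * y⁻¹ ∈ N)
    (huN : ∀ n ∈ N, u * n * u⁻¹ ∈ N) (hwN : ∀ n ∈ N, w * n * w⁻¹ ∈ N)
    (hu1 : u ∉ N) (hup : u ^ p ∈ N) (hwp : w ^ p ∈ N) (huw : (u * w)⁻¹ * (w * u) ∈ N)
    (hxu : (x * u * x⁻¹)⁻¹ * u ∈ N) (hxw : (x * w * x⁻¹)⁻¹ * (w * u) ∈ N)
    (hyu : (y * u * y⁻¹)⁻¹ * (u * w) ∈ N) (hyw : (y * w * y⁻¹)⁻¹ * w ∈ N) : Inv (qd p) G := by
  have hx := mem_normalizer_of_conj_le hxN
  have hy := mem_normalizer_of_conj_le hyN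
  have hu := mem_normalizer_of_conj_le huN
  have hw := mem_normalizer_of_conj_le hwN
  haveI : (N.subgroupOf (Subgroup.normalizer (N : Set G))).Normal := Subgroup.normal_in_normalizer
  apply Inv.of_subgroup (Subgroup.normalizer (N : Set G))
  apply Inv.of_surjective (QuotientGroup.mk' (N.subgroupOf (Subgroup.normalizer (N : Set G))))
    (QuotientGroup.mk'_surjective _)
  have key : ∀ a b : Subgroup.normalizer (N : Set G), (a.1)⁻¹ * b.1 ∈ N →
      QuotientGroup.mk' (N.subgroupOf (Subgroup.normalizer (N : Set G))) a =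
        QuotientGroup.mk' (N.subgroupOf (Subgroup.normalizer (N : Set G))) b := by
    intro a b h
    rw [QuotientGroup.mk'_apply, QuotientGroup.mk'_apply, QuotientGroup.eq, Subgroup.mem_subgroupOf]
    exact h
  have key1 : ∀ a : Subgroup.normalizer (N : Set G), a.1 ∈ N →
      QuotientGroup.mk' (N.subgroupOf (Subgroup.normalizer (N : Set G))) a = 1 := by
    intro a h
    rw [QuotientGroup.mk'_apply, QuotientGroup.eq_one_iff, Subgroup.mem_subgroupOf]
    exact h
  refine qd_of_elements hp2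
    (QuotientGroup.mk' (N.subgroupOf (Subgroup.normalizer (N : Set G))) ⟨u, hu⟩)
    (QuotientGroup.mk' (N.subgroupOf (Subgroup.normalizer (N : Set G))) ⟨w, hw⟩)
    (QuotientGroup.mk' (N.subgroupOf (Subgroup.normalizer (N : Set G))) ⟨x, hx⟩)
    (QuotientGroup.mk' (N.subgroupOf (Subgroup.normalizer (N : Set G))) ⟨y, hy⟩) ?_ ?_ ?_ ?_ ?_ ?_ ?_ ?_
  · intro h
    rw [QuotientGroup.mk'_apply, QuotientGroup.eq_one_iff, Subgroup.mem_subgroupOf] at h
    exact hu1 h
  · rw [← map_pow]; exact key1 _ hup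
  · rw [← map_pow]; exact key1 _ hwp
  · rw [← map_mul, ← map_mul]; exact key _ _ huw
  · rw [← map_inv, ← map_mul, ← map_mul]; exact key _ _ hxu
  · rw [← map_inv, ← map_mul, ← map_mul, ← map_mul]; exact key _ _ hxw
  · rw [← map_inv, ← map_mul, ← map_mul, ← map_mul]; exact key _ _ hyu
  · rw [← map_inv, ← map_mul, ← map_mul]; exact key _ _ hyw

/-- Quadratic pairs acting on an abstract elementary abelian `p`-group: the natural plane. -/
theorem star_mulAut {p : ℕ} [Fact p.Prime] (hp2 : p ≠ 2) {A : Type u} [CommGroup A] [Finite A]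
    (hA : ∀ a : A, a ^ p = 1) {X : Type w} [Group X] (φ : X →* MulAut A) (x y : X)
    (hgen : Subgroup.closure {x, y} = ⊤) (hx : ∀ a, φ x (φ x a / a) = φ x a / a)
    (hy : ∀ a, φ y (φ y a / a) = φ y a / a)
    (hnp : ¬ ∀ g : X, ∃ n : ℕ, ∀ a, φ (g ^ p ^ n) a = a) :
    ∃ (x' y' : X) (u' w' : A) (N : Subgroup A), (∀ n ∈ N, φ x' n ∈ N) ∧ (∀ n ∈ N, φ y' n ∈ N) ∧
      u' ∉ N ∧ φ x' u' / u' ∈ N ∧ φ x' w' / (w' * u') ∈ N ∧ φ y' u' / (u' * w') ∈ N ∧
      φ y' w' / w' ∈ N := by
  have h0 : ∀ a : Additive A, p • a = 0 := by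
    intro a
    exact congrArg Additive.ofMul (hA a.toMul)
  obtain ⟨iM⟩ : Nonempty (Module (ZMod p) (Additive A)) := ⟨AddCommGroup.zmodModule h0⟩
  let ρ : Representation (ZMod p) X (Additive A) :=
    ({ toFun := fun g => ((MonoidHom.toAdditive (φ g).toMonoidHom).toZModLinearMap p :
        Module.End (ZMod p) (Additive A))
       map_one' := by
        apply LinearMap.ext
        intro a
        show Additive.ofMul (φ 1 a.toMul) = a
        rw [map_one]; rfl
       map_mul' := by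
        intro g h
        apply LinearMap.ext
        intro a
        show Additive.ofMul (φ (g * h) a.toMul) = Additive.ofMul (φ g (φ h a.toMul))
        rw [map_mul]; rfl } : X →* Module.End (ZMod p) (Additive A))
  have hρ : ∀ g (a : Additive A), (ρ g : Additive A →ₗ[ZMod p] Additive A) a =
      Additive.ofMul (φ g a.toMul) := fun _ _ => rfl
  obtain ⟨N, x', y', u', w', h1, h2, h3, h4, h5, h6, h7⟩ :=
    star_of_not_pAct (p := p) hp2 x y hgen _ (Additive A) ρ rfl (by
      intro h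
      apply hnp
      intro g
      obtain ⟨n, hn⟩ := h g
      exact ⟨n, fun a => congrArg Additive.toMul (hn (Additive.ofMul a))⟩) (by
      intro a
      rw [hρ, hρ]
      exact congrArg Additive.ofMul (hx a.toMul)) (by
      intro a
      rw [hρ, hρ]
      exact congrArg Additive.ofMul (hy a.toMul))
  refine ⟨x', y', u'.toMul, w'.toMul, AddSubgroup.toSubgroup' N.toAddSubgroup, ?_, ?_, h3, h4, h5,
    h6, h7⟩
  · intro n hn
    exact h1 (Additive.ofMul n) hn
  · intro n hn
    exact h2 (Additive.ofMul n) hn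

end Cfsg.Agent.Lib.Helper5
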