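import Cfsg.Agent.Lib.Helper5.QD14

set_option autoImplicit false
set_option linter.style.haveILetI false
set_option linter.unusedSectionVars false
set_option linter.unusedSimpArgs false

namespace Cfsg.Agent.Lib.Helper5

open Cfsg Cfsg.Agent.Lib.Helper13

universe u

local notation "SL2" => Matrix.SpecialLinearGroup (Fin 2)

variable {p : ℕ}

theorem ext_hom_of_ker_le {L N Y : Type*} [Group L] [Group N] [Group Y] (C : Subgroup N)
    [C.Normal] (ι : L →* N) (β : L →* Y) (hβ : Function.Surjective β)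
    (hk : ∀ l : L, ι l ∈ C → β l = 1) :
    ∃ (H : Subgroup N) (Φ : H →* Y), Function.Surjective Φ ∧ C ≤ H ∧
      ∀ (c : N) (hc : c ∈ H), c ∈ C → Φ ⟨c, hc⟩ = 1 := by
  obtain ⟨q0, hq0⟩ : ∃ q0 : L →* N ⧸ C, q0 = (QuotientGroup.mk' C).comp ι := ⟨_, rfl⟩
  obtain ⟨q, hq⟩ : ∃ q : L →* q0.range, q = q0.rangeRestrict := ⟨_, rfl⟩
  have hqs : Function.Surjective q := hq ▸ q0.rangeRestrict_surjective
  have hker : q.ker ≤ β.ker := by
    intro x hx
    rw [MonoidHom.mem_ker, hq] at hx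
    have h1 : q0 x = 1 := congrArg Subtype.val hx
    rw [hq0] at h1
    exact hk x ((QuotientGroup.eq_one_iff _).mp h1)
  obtain ⟨γ, hγ⟩ : ∃ γ : q0.range →* Y, ∀ l, γ (q l) = β l :=
    ⟨q.liftOfSurjective hqs ⟨β, hker⟩, fun l => by rw [MonoidHom.liftOfRightInverse_comp_apply]⟩
  refine ⟨q0.range.comap (QuotientGroup.mk' C),
    γ.comp ((QuotientGroup.mk' C).subgroupComap q0.range), ?_, ?_, ?_⟩
  · intro y
    obtain ⟨l, rfl⟩ := hβ y
    have hl : ι l ∈ q0.range.comap (QuotientGroup.mk' C) := by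
      rw [Subgroup.mem_comap]
      exact ⟨l, by rw [hq0]; rfl⟩
    refine ⟨⟨ι l, hl⟩, ?_⟩
    rw [← hγ, MonoidHom.comp_apply]
    congr 1
    apply Subtype.ext
    rw [hq]
    show QuotientGroup.mk' C (ι l) = q0 l
    rw [hq0]; rfl
  · intro c hc
    rw [Subgroup.mem_comap, QuotientGroup.mk'_apply, (QuotientGroup.eq_one_iff c).mpr hc]
    exact one_mem _
  · intro c hc hcC
    have h1 : (QuotientGroup.mk' C).subgroupComap q0.range ⟨c, hc⟩ = 1 :=
      Subtype.ext ((QuotientGroup.eq_one_iff c).mpr hcC)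
    rw [MonoidHom.comp_apply, h1, map_one]

theorem section_of_surj' {X Y : Type*} [Group X] [Group Y] (H : Subgroup X) (f : H →* Y)
    (hf : Function.Surjective f) :
    ∃ _ : ((f.ker.map H.subtype).subgroupOf H).Normal,
      Nonempty (H ⧸ (f.ker.map H.subtype).subgroupOf H ≃* Y) := by
  have h1 : (f.ker.map H.subtype).subgroupOf H = f.ker := by
    ext x
    rw [Subgroup.mem_subgroupOf, Subgroup.mem_map]
    constructor
    · rintro ⟨y, hy, hyx⟩
      rwa [← H.subtype_injective hyx]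
    · intro hx
      exact ⟨x, hx, rfl⟩
  have hn : ((f.ker.map H.subtype).subgroupOf H).Normal := by
    rw [h1]; infer_instance
  exact ⟨hn, ⟨(QuotientGroup.quotientMulEquivOfEq h1).trans
    (QuotientGroup.quotientKerEquivOfSurjective f hf)⟩⟩

theorem mem_ker_qdB_iff [Fact p.Prime] (q : qd p) :
    q ∈ (qdB p).ker ↔ ∃ v, q = qdMk (p := p) 1 v := by
  rw [MonoidHom.mem_ker]
  constructor
  · intro h
    obtain ⟨A, v, rfl⟩ := qdMk_surj q
    rw [qdB_qdMk] at h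
    exact ⟨v, by rw [h]⟩
  · rintro ⟨v, rfl⟩
    exact qdB_qdMk 1 v

theorem ker_qdB_isPGroup [Fact p.Prime] : IsPGroup p (qdB p).ker := by
  rintro ⟨q, hq⟩
  obtain ⟨v, rfl⟩ := (mem_ker_qdB_iff q).mp hq
  refine ⟨1, Subtype.ext ?_⟩
  show (qdMk (p := p) 1 v) ^ (p ^ 1) = 1
  rw [pow_one, qdMk_one_pow, ← qdMk_one]
  congr 1
  ext i
  simp

theorem mem_ker_qdB_of_comm [Fact p.Prime] (q : qd p)
    (h : ∀ t ∈ (qdB p).ker, t * q = q * t) : q ∈ (qdB p).ker := by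
  obtain ⟨A, v, rfl⟩ := qdMk_surj q
  refine (mem_ker_qdB_iff _).mpr ⟨v, ?_⟩
  congr 1
  apply Subtype.ext
  have key : ∀ w : Fin 2 → ZMod p, A.1.mulVec w = w := by
    intro w
    have := h (qdMk 1 w) ((mem_ker_qdB_iff _).mpr ⟨w, rfl⟩)
    rw [qdMk_mul, qdMk_mul] at this
    have h2 := (qdMk_inj this).2
    rw [Matrix.SpecialLinearGroup.coe_one, Matrix.one_mulVec, add_comm] at h2
    exact (add_right_cancel h2).symm
  rw [Matrix.SpecialLinearGroup.coe_one]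
  apply Matrix.ext_of_mulVec_single
  intro i
  rw [key, Matrix.one_mulVec]

theorem qdB_surjective [Fact p.Prime] : Function.Surjective (qdB p) :=
  fun A => ⟨qdMk A 0, qdB_qdMk A 0⟩

/-- if no `N_G(Q)/C_G(Q)`, `Q` a `p`-subgroup, involves `SL₂(p)`, then `G` is `Qd(p)`-free -/
theorem qdFree_of_aut_free {G : Type*} [Group G] [Finite G] [Fact p.Prime]
    (hfree : ∀ Q : Subgroup G, IsPGroup p ↥Q →
      ¬ ∃ (H K : Subgroup G) (_ : (K.subgroupOf H).Normal),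
      Subgroup.centralizer (Q : Set G) ≤ K ∧ K ≤ H ∧ H ≤ Subgroup.normalizer (Q : Set G) ∧
      Nonempty ((↥H ⧸ K.subgroupOf H) ≃* SL2 (ZMod p))) : QdFree p G := by
  rintro ⟨K0, f, hf⟩
  obtain ⟨β, hβ⟩ : ∃ β : K0 →* SL2 (ZMod p), β = (qdB p).comp f := ⟨_, rfl⟩
  have hβs : Function.Surjective β := hβ ▸ qdB_surjective.comp hf
  obtain ⟨V0⟩ : Nonempty (Sylow p β.ker) := inferInstance
  have hfr := Sylow.normalizer_sup_eq_top V0
  obtain ⟨V1, hV1⟩ : ∃ V1 : Subgroup K0, V1 = (V0 : Subgroup β.ker).map β.ker.subtype := ⟨_, rfl⟩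
  rw [← hV1] at hfr
  have hV1p : IsPGroup p V1 := hV1 ▸ V0.2.map _
  -- `f` maps `V1` onto the translations
  have hcover : ∀ t ∈ (qdB p).ker, ∃ v ∈ V1, f v = t := by
    obtain ⟨fV, hfV⟩ : ∃ fV : β.ker →* (qdB p).ker, ∀ x, ((fV x : (qdB p).ker) : qd p) = f x.1 := by
      refine ⟨(f.comp β.ker.subtype).codRestrict _ (fun x => ?_), fun x => rfl⟩
      have h1 : β x.1 = 1 := x.2
      have h2 : ∀ k : K0, β k = qdB p (f k) := fun k => by rw [hβ]; rfl
      rw [h2] at h1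
      exact h1
    have hfVs : Function.Surjective fV := by
      rintro ⟨t, ht⟩
      obtain ⟨k, rfl⟩ := hf t
      exact ⟨⟨k, by rw [MonoidHom.mem_ker, hβ]; exact ht⟩, Subtype.ext (hfV _)⟩
    have htop : ((V0.mapSurjective hfVs : Sylow p (qdB p).ker) : Subgroup (qdB p).ker) = ⊤ :=
      ((V0.mapSurjective hfVs).3 (ker_qdB_isPGroup.to_subgroup ⊤) le_top).symm
    intro t ht
    have h1 : (⟨t, ht⟩ : (qdB p).ker) ∈
        ((V0.mapSurjective hfVs : Sylow p (qdB p).ker) : Subgroup (qdB p).ker) := by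
      rw [htop]; trivial
    obtain ⟨v, hv, hvt⟩ := h1
    refine ⟨v.1, by rw [hV1]; exact ⟨v, hv, rfl⟩, ?_⟩
    rw [← hfV, hvt]
  obtain ⟨Q, hQ⟩ : ∃ Q : Subgroup G, Q = V1.map K0.subtype := ⟨_, rfl⟩
  have hQp : IsPGroup p Q := hQ ▸ hV1p.map _
  apply hfree Q hQp
  obtain ⟨L0, hL0⟩ : ∃ L0 : Subgroup K0, L0 = Subgroup.normalizer (V1 : Set K0) := ⟨_, rfl⟩
  rw [← hL0] at hfr
  have hLN : ∀ l : L0, ((l : K0) : G) ∈ Subgroup.normalizer (Q : Set G) := by
    intro l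
    rw [hQ]
    exact map_mem_normalizer K0.subtype (hL0 ▸ l.2)
  obtain ⟨ι, hι⟩ : ∃ ι : L0 →* Subgroup.normalizer (Q : Set G), ∀ l, ((ι l : _) : G) = ((l : K0) : G) :=
    ⟨(K0.subtype.comp L0.subtype).codRestrict _ hLN, fun l => rfl⟩
  have hβL : Function.Surjective (β.comp L0.subtype) := by
    intro s
    obtain ⟨k, rfl⟩ := hβs s
    have hk : k ∈ L0 ⊔ β.ker := by rw [hfr]; trivial
    rw [Subgroup.mem_sup_of_normal_right] at hk
    obtain ⟨l, hl, v, hv, rfl⟩ := hk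
    refine ⟨⟨l, hl⟩, ?_⟩
    rw [map_mul, MonoidHom.mem_ker.mp hv, mul_one]
    rfl
  haveI : ((Subgroup.centralizer (Q : Set G)).subgroupOf
      (Subgroup.normalizer (Q : Set G))).Normal := by
    rw [← Subgroup.normalizerMonoidHom_ker]
    infer_instance
  obtain ⟨H', Φ, hΦs, hCH, hΦC⟩ := ext_hom_of_ker_le
    ((Subgroup.centralizer (Q : Set G)).subgroupOf (Subgroup.normalizer (Q : Set G))) ι
    (β.comp L0.subtype) hβL (by
      intro l hl
      rw [Subgroup.mem_subgroupOf, hι, Subgroup.mem_centralizer_iff] at hl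
      show β l.1 = 1
      rw [hβ]
      apply mem_ker_qdB_of_comm
      intro t ht
      obtain ⟨v, hv, rfl⟩ := hcover t ht
      rw [← map_mul, ← map_mul]
      congr 1
      apply Subtype.ext
      exact hl v.1 (by rw [hQ]; exact ⟨v, hv, rfl⟩))
  obtain ⟨e, he⟩ : ∃ e : H' ≃* H'.map (Subgroup.normalizer (Q : Set G)).subtype,
    e = H'.equivMapOfInjective _ (Subgroup.subtype_injective _) := ⟨_, rfl⟩
  have hes : ∀ (x : Subgroup.normalizer (Q : Set G)) (hx : x ∈ H')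
      (hx' : (x : G) ∈ H'.map (Subgroup.normalizer (Q : Set G)).subtype),
      e.symm ⟨(x : G), hx'⟩ = ⟨x, hx⟩ := by
    intro x hx hx'
    rw [MulEquiv.symm_apply_eq, he]
    rfl
  obtain ⟨hn, hiso⟩ := section_of_surj' (H'.map (Subgroup.normalizer (Q : Set G)).subtype)
    (Φ.comp e.symm.toMonoidHom) (hΦs.comp e.symm.surjective)
  refine ⟨_, _, hn, ?_, Subgroup.map_subtype_le _, Subgroup.map_subtype_le _, hiso⟩
  intro c hc
  have hcN : c ∈ Subgroup.normalizer (Q : Set G) := Subgroup.centralizer_le_normalizer _ hc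
  have hcC : (⟨c, hcN⟩ : Subgroup.normalizer (Q : Set G)) ∈
      (Subgroup.centralizer (Q : Set G)).subgroupOf (Subgroup.normalizer (Q : Set G)) :=
    Subgroup.mem_subgroupOf.mpr hc
  have hcH : c ∈ H'.map (Subgroup.normalizer (Q : Set G)).subtype := ⟨⟨c, hcN⟩, hCH hcC, rfl⟩
  refine ⟨⟨c, hcH⟩, ?_, rfl⟩
  show Φ (e.symm ⟨c, hcH⟩) = 1
  rw [hes ⟨c, hcN⟩ (hCH hcC) hcH]
  exact hΦC _ _ hcC

end Cfsg.Agent.Lib.Helper5
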