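import Cfsg.Agent.Lib.Helper5.QE1
import Cfsg.Agent.Lib.Helper13.QdSolv
import Cfsg.Agent.Lib.Helper27.FusionSolvable
import Cfsg.Agent.Lib.Helper27.FusionCoreRadical
import Cfsg.Agent.Lib.Helper26.GroupFusion
import Cfsg.Agent.Lib.Helper26.Model

set_option autoImplicit false
set_option linter.style.haveILetI false
set_option linter.unusedSectionVars false
set_option linter.unusedSimpArgs false

namespace Cfsg.Agent.Lib.Helper5

open Cfsg Cfsg.FusionSystem Cfsg.Agent.Lib.Helper13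

universe u

variable {p : ℕ} [Fact p.Prime]

theorem groupFS_normal_control {G : Type*} [Group G] [Finite G] {S Q : Subgroup G}
    (hQ : (groupFusionSystem S).IsNormal Q) (A : Subgroup G) (hA : A ≤ S) (g : G)
    (hg : ∀ a ∈ A, g * a * g⁻¹ ∈ S) :
    ∃ h ∈ Subgroup.normalizer (Q : Set G), ∀ a ∈ A, h * a * h⁻¹ = g * a * g⁻¹ := by
  obtain ⟨hQS, hQ'⟩ := Helper26.isNormal_iff.mp hQ
  obtain ⟨g', hg', h1, h2⟩ := hQ' A (fun x => g * x * g⁻¹)
    (Helper26.isMap_groupFS.mpr ⟨hA, hg, g, fun _ _ => rfl⟩)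
  obtain ⟨-, -, h, hh⟩ := Helper26.isMap_groupFS.mp hg'
  refine ⟨h, ?_, fun a ha => ?_⟩
  · apply mem_normalizer_of_conj_le
    intro q hq
    have h3 : g' q ∈ Helper26.img Q g' := Helper26.mem_img_of_mem hq
    rw [h2, hh q (le_sup_right (a := A) hq)] at h3
    exact h3
  · rw [← hh a (le_sup_left (b := Q) ha), h1 a ha]

theorem centric_group {G : Type*} [Group G] [Finite G] (P : Sylow p G) (Q : Subgroup G)
    (hQP : Q ≤ (P : Subgroup G)) (hPN : (P : Subgroup G) ≤ Subgroup.normalizer (Q : Set G))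
    (hc : (P : Subgroup G) ⊓ Subgroup.centralizer (Q : Set G) ≤ Q) :
    ∃ R : Sylow p ↥(Subgroup.centralizer (Q : Set G)),
      (R : Subgroup ↥(Subgroup.centralizer (Q : Set G))).map
        (Subgroup.centralizer (Q : Set G)).subtype = Q ⊓ Subgroup.centralizer (Q : Set G) := by
  have hsyl : ¬ p ∣ ((P : Subgroup G) ⊓ Subgroup.centralizer (Q : Set G)).relIndex
      (Subgroup.centralizer (Q : Set G)) :=
    not_dvd_relIndex_inf_of_normal (N := Subgroup.normalizer (Q : Set G))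
      (centralizer_le_normalizer'' Q) (normalizer_le_normalizer_centralizer' Q)
      (not_dvd_relIndex_of_sylow P hPN)
  have hTp : IsPGroup p ↥((P : Subgroup G) ⊓ Subgroup.centralizer (Q : Set G)) :=
    P.2.to_le inf_le_left
  refine ⟨(hTp.comap_subtype : IsPGroup p (((P : Subgroup G) ⊓
    Subgroup.centralizer (Q : Set G)).subgroupOf (Subgroup.centralizer (Q : Set G)))).toSylow hsyl,
    ?_⟩
  show ((((P : Subgroup G) ⊓ Subgroup.centralizer (Q : Set G)).subgroupOf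
    (Subgroup.centralizer (Q : Set G)))).map (Subgroup.centralizer (Q : Set G)).subtype = _
  rw [Subgroup.map_subgroupOf_eq_of_le inf_le_right]
  exact le_antisymm (le_inf hc inf_le_right) (inf_le_inf_right _ hQP)

theorem normalizer_le_normalizer_sup_centralizer {G : Type*} [Group G] (T : Subgroup G) :
    Subgroup.normalizer (T : Set G) ≤
      Subgroup.normalizer ((T ⊔ Subgroup.centralizer (T : Set G) : Subgroup G) : Set G) := by
  intro n hn
  rw [mem_normalizer_iff_cj] at hn ⊢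
  rw [cj_sup, cj_centralizer, hn]

theorem radical_group {G : Type*} [Group G] [Finite G] {S Q : Subgroup G} (hQS : Q ≤ S)
    (hQp : IsPGroup p Q) (hrad : (groupFusionSystem S).IsRadical p Q) (X : Subgroup G)
    (hXN : X ≤ Subgroup.normalizer (Q : Set G))
    (hXn : ∀ n ∈ Subgroup.normalizer (Q : Set G), X.map (MulAut.conj n).toMonoidHom = X)
    (hle : Q ⊔ Subgroup.centralizer (Q : Set G) ≤ X) (k : ℕ)
    (hk : (Q ⊔ Subgroup.centralizer (Q : Set G)).relIndex X = p ^ k) :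
    X = Q ⊔ Subgroup.centralizer (Q : Set G) := by
  have hr := hrad.2
  rw [Helper26.groupFS_autGroup hQS, Helper26.autInducedBy_top_eq_range] at hr
  have hα : ∀ (n : Subgroup.normalizer (Q : Set G)) (y : Q),
      ((Q.normalizerMonoidHom n y : Q) : G) = n * y * (n : G)⁻¹ := fun _ _ => rfl
  have hαker : ∀ n : Subgroup.normalizer (Q : Set G),
      (n : G) ∈ Subgroup.centralizer (Q : Set G) → Q.normalizerMonoidHom n = 1 := by
    intro n hn
    have : n ∈ Q.normalizerMonoidHom.ker := by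
      rw [Subgroup.normalizerMonoidHom_ker]; exact Subgroup.mem_subgroupOf.mpr hn
    exact this
  -- powers
  haveI hDn : ((Q ⊔ Subgroup.centralizer (Q : Set G)).subgroupOf X).Normal :=
    (Subgroup.normal_subgroupOf_iff_le_normalizer hle).mpr
      (hXN.trans (normalizer_le_normalizer_sup_centralizer Q))
  have hpow : ∀ x ∈ X, ∃ j : ℕ, x ^ p ^ j ∈ Subgroup.centralizer (Q : Set G) := by
    intro x hx
    have h1 := Subgroup.pow_index_mem ((Q ⊔ Subgroup.centralizer (Q : Set G)).subgroupOf X) ⟨x, hx⟩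
    have h2 : x ^ p ^ k ∈ Q ⊔ Subgroup.centralizer (Q : Set G) := by
      have h3 : ((Q ⊔ Subgroup.centralizer (Q : Set G)).subgroupOf X).index = p ^ k := hk
      rw [h3] at h1
      exact h1
    rw [Cfsg.Agent.Lib.Helper9.mem_sup_of_le_normalizer (centralizer_le_normalizer'' Q)] at h2
    obtain ⟨q, hq, c, hc, e⟩ := h2
    obtain ⟨m, hm⟩ := hQp ⟨q, hq⟩
    have hm' : q ^ p ^ m = 1 := congrArg Subtype.val hm
    refine ⟨k + m, ?_⟩
    have hcomm : Commute q c := (Subgroup.mem_centralizer_iff.mp hc q hq)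
    rw [pow_add, pow_mul, ← e, hcomm.mul_pow, hm', one_mul]
    exact pow_mem hc _
  obtain ⟨𝔛, h𝔛⟩ : ∃ 𝔛 : Subgroup Q.normalizerMonoidHom.range,
      𝔛 = ((X.subgroupOf (Subgroup.normalizer (Q : Set G))).map
        Q.normalizerMonoidHom).subgroupOf Q.normalizerMonoidHom.range := ⟨_, rfl⟩
  have hmem : ∀ y : Q.normalizerMonoidHom.range, y ∈ 𝔛 ↔
      ∃ (x : Subgroup.normalizer (Q : Set G)), (x : G) ∈ X ∧ Q.normalizerMonoidHom x = y.1 := by
    intro y
    rw [h𝔛, Subgroup.mem_subgroupOf, Subgroup.mem_map]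
    constructor
    · rintro ⟨x, hx, e⟩
      exact ⟨x, Subgroup.mem_subgroupOf.mp hx, e⟩
    · rintro ⟨x, hx, e⟩
      exact ⟨x, Subgroup.mem_subgroupOf.mpr hx, e⟩
  have h𝔛n : 𝔛.Normal := by
    constructor
    rintro y hy ⟨_, n, rfl⟩
    obtain ⟨x, hx, e⟩ := (hmem y).mp hy
    refine (hmem _).mpr ⟨n * x * n⁻¹, ?_, ?_⟩
    · have h1 : (n : G) * x * (n : G)⁻¹ ∈ X.map (MulAut.conj (n : G)).toMonoidHom := ⟨x, hx, rfl⟩
      rw [hXn n n.2] at h1
      exact h1
    · rw [map_mul, map_mul, map_inv, e]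
      rfl
  have h𝔛p : IsPGroup p 𝔛 := by
    rintro ⟨y, hy⟩
    obtain ⟨x, hx, e⟩ := (hmem y).mp hy
    obtain ⟨j, hj⟩ := hpow x hx
    refine ⟨j, Subtype.ext (Subtype.ext ?_)⟩
    show (y.1) ^ p ^ j = 1
    rw [← e, ← map_pow]
    exact hαker _ hj
  have hle2 : 𝔛 ≤ pCore p Q.normalizerMonoidHom.range := le_pCore h𝔛n h𝔛p
  refine le_antisymm ?_ hle
  intro x hx
  have h1 : Q.normalizerMonoidHom ⟨x, hXN hx⟩ ∈ Inn Q := by
    rw [← hr]
    exact ⟨⟨_, ⟨⟨x, hXN hx⟩, rfl⟩⟩, hle2 ((hmem _).mpr ⟨⟨x, hXN hx⟩, hx, rfl⟩), rfl⟩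
  obtain ⟨q, hq⟩ := h1
  have h2 : (q : G)⁻¹ * x ∈ Subgroup.centralizer (Q : Set G) := by
    rw [Subgroup.mem_centralizer_iff]
    intro y hy
    have h3 := congrArg (fun a : MulAut Q => ((a ⟨y, hy⟩ : Q) : G)) hq
    simp only [hα] at h3
    have h4 : (q : G) * y * (q : G)⁻¹ = x * y * x⁻¹ := h3
    calc y * ((q : G)⁻¹ * x) = (q : G)⁻¹ * ((q : G) * y * (q : G)⁻¹) * x := by group
      _ = (q : G)⁻¹ * (x * y * x⁻¹) * x := by rw [h4]
      _ = (q : G)⁻¹ * x * y := by group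
  have h5 := Subgroup.mul_mem _ (Subgroup.mem_sup_left (T := Subgroup.centralizer (Q : Set G)) q.2)
    (Subgroup.mem_sup_right (S := Q) h2)
  rwa [mul_inv_cancel_left] at h5

theorem le_of_cr {G : Type*} [Group G] [Finite G] (P : Sylow p G) (Q : Subgroup G)
    (hQP : Q ≤ (P : Subgroup G)) (hPQ : (P : Subgroup G) ≤ Subgroup.normalizer (Q : Set G))
    (hctl : ∀ A : Subgroup G, A ≤ (P : Subgroup G) → ∀ g : G,
      (∀ a ∈ A, g * a * g⁻¹ ∈ (P : Subgroup G)) →
      ∃ h ∈ Subgroup.normalizer (Q : Set G), ∀ a ∈ A, h * a * h⁻¹ = g * a * g⁻¹)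
    (T : Subgroup G) (hTP : T ≤ (P : Subgroup G))
    (hTc : ∃ R : Sylow p ↥(Subgroup.centralizer (T : Set G)),
      (R : Subgroup ↥(Subgroup.centralizer (T : Set G))).map
        (Subgroup.centralizer (T : Set G)).subtype = T ⊓ Subgroup.centralizer (T : Set G))
    (hTr : ∀ X : Subgroup G, X ≤ Subgroup.normalizer (T : Set G) →
        (∀ n ∈ Subgroup.normalizer (T : Set G), X.map (MulAut.conj n).toMonoidHom = X) →
        T ⊔ Subgroup.centralizer (T : Set G) ≤ X →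
        (∃ k : ℕ, (T ⊔ Subgroup.centralizer (T : Set G)).relIndex X = p ^ k) →
        X = T ⊔ Subgroup.centralizer (T : Set G)) : Q ≤ T := by
  obtain ⟨NQ, hNQ⟩ : ∃ NQ, NQ = Q ⊓ Subgroup.normalizer (T : Set G) := ⟨_, rfl⟩
  obtain ⟨D, hD⟩ : ∃ D, D = T ⊔ Subgroup.centralizer (T : Set G) := ⟨_, rfl⟩
  rw [← hD] at hTr
  have hDN : D ≤ Subgroup.normalizer (T : Set G) :=
    hD ▸ sup_le Subgroup.le_normalizer (centralizer_le_normalizer'' T)
  have hND : Subgroup.normalizer (T : Set G) ≤ Subgroup.normalizer (D : Set G) :=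
    hD ▸ normalizer_le_normalizer_sup_centralizer T
  have hNQN : NQ ≤ Subgroup.normalizer (T : Set G) := hNQ ▸ inf_le_right
  have hNQp : IsPGroup p NQ := P.2.to_le (hNQ ▸ inf_le_left.trans hQP)
  have hX1 : D ⊔ NQ ≤ Subgroup.normalizer (T : Set G) := sup_le hDN hNQN
  have hinv : ∀ n ∈ Subgroup.normalizer (T : Set G), cj (D ⊔ NQ) n = D ⊔ NQ := by
    intro n hn
    obtain ⟨h, hh, e⟩ := hctl T hTP n⁻¹ (by
      intro a ha
      have := conj_mem_cj (g := n) ha
      rw [mem_normalizer_iff_cj.mp hn] at this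
      rw [inv_inv]
      exact hTP this)
    -- `h⁻¹` acts on `T` as `n`
    have hc : h * n ∈ Subgroup.centralizer (T : Set G) := by
      rw [Subgroup.mem_centralizer_iff]
      intro t ht
      have ht' : n * t * n⁻¹ ∈ T := by
        have := conj_mem_cj (g := n⁻¹) ht
        rw [mem_normalizer_iff_cj.mp (inv_mem hn), inv_inv] at this
        exact this
      have e1 := e _ ht'
      have e2 : h * (n * t * n⁻¹) * h⁻¹ = t := by rw [e1]; group
      calc t * (h * n) = (h * (n * t * n⁻¹) * h⁻¹) * (h * n) := by rw [e2]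
        _ = h * n * t := by group
    have hhT : h⁻¹ ∈ Subgroup.normalizer (T : Set G) := by
      have h1 : h⁻¹ = n * (h * n)⁻¹ := by group
      rw [h1]
      exact mul_mem hn (inv_mem (centralizer_le_normalizer'' T hc))
    have hhQ : h⁻¹ ∈ Subgroup.normalizer (Q : Set G) := inv_mem hh
    have e3 : n = h⁻¹ * (h * n) := by group
    have hcX : h * n ∈ D ⊔ NQ := Subgroup.mem_sup_left (hD ▸ Subgroup.mem_sup_right hc)
    have e4 : cj (D ⊔ NQ) h⁻¹ = D ⊔ NQ := by
      rw [cj_sup, mem_normalizer_iff_cj.mp (hND hhT), hNQ, cj_inf, cj_normalizer,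
        mem_normalizer_iff_cj.mp hhT, mem_normalizer_iff_cj.mp hhQ]
    rw [e3, ← cj_cj, e4, cj_eq_self_of_mem hcX]
  have hDX : D ≤ D ⊔ NQ := le_sup_left
  haveI hDn : (D.subgroupOf (D ⊔ NQ)).Normal :=
    (Subgroup.normal_subgroupOf_iff_le_normalizer hDX).mpr (hX1.trans hND)
  have hquot : IsPGroup p ((D ⊔ NQ : Subgroup G) ⧸ D.subgroupOf (D ⊔ NQ)) := by
    intro y
    obtain ⟨⟨x, hx⟩, rfl⟩ := QuotientGroup.mk'_surjective _ y
    have hx' := hx
    rw [Cfsg.Agent.Lib.Helper9.mem_sup_of_le_normalizer (hNQN.trans hND)] at hx'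
    obtain ⟨d, hd, a, ha, e⟩ := hx'
    obtain ⟨m, hm⟩ := hNQp ⟨a, ha⟩
    have hm' : a ^ p ^ m = 1 := congrArg Subtype.val hm
    refine ⟨m, ?_⟩
    have e1 : QuotientGroup.mk' (D.subgroupOf (D ⊔ NQ)) ⟨x, hx⟩ =
        QuotientGroup.mk' (D.subgroupOf (D ⊔ NQ)) ⟨a, Subgroup.mem_sup_right ha⟩ := by
      have e2 : (⟨x, hx⟩ : (D ⊔ NQ : Subgroup G)) =
          ⟨d, Subgroup.mem_sup_left hd⟩ * ⟨a, Subgroup.mem_sup_right ha⟩ := Subtype.ext e.symm
      rw [e2, map_mul]
      have e3 : QuotientGroup.mk' (D.subgroupOf (D ⊔ NQ))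
          (⟨d, Subgroup.mem_sup_left hd⟩ : (D ⊔ NQ : Subgroup G)) = 1 :=
        (QuotientGroup.eq_one_iff _).mpr (Subgroup.mem_subgroupOf.mpr hd)
      rw [e3, one_mul]
    rw [e1, ← map_pow]
    have e4 : (⟨a, Subgroup.mem_sup_right ha⟩ : (D ⊔ NQ : Subgroup G)) ^ p ^ m = 1 :=
      Subtype.ext hm'
    rw [e4, map_one]
  obtain ⟨k, hk⟩ := IsPGroup.iff_card.mp hquot
  have hXD := hTr (D ⊔ NQ) hX1 (by
    intro n hn
    rw [map_conj_eq_cj]
    exact hinv _ (inv_mem hn)) hDX ⟨k, by rw [← hk]; rfl⟩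
  have hNQD : NQ ≤ D := by rw [← hXD]; exact le_sup_right
  -- `p`-elements of `C(T)` lie in `T`
  obtain ⟨R, hR⟩ := hTc
  have hRn : (R : Subgroup ↥(Subgroup.centralizer (T : Set G))).Normal := by
    constructor
    intro r hr c
    have h1 : (r : G) ∈ T ⊓ Subgroup.centralizer (T : Set G) := by
      rw [← hR]; exact ⟨r, hr, rfl⟩
    have h2 := (Subgroup.mem_centralizer_iff.mp c.2) r (Subgroup.mem_inf.mp h1).1
    have h3 : c * r * c⁻¹ = r := by
      apply Subtype.ext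
      show (c : G) * r * (c : G)⁻¹ = r
      rw [← h2, mul_inv_cancel_right]
    rw [h3]; exact hr
  have hpel : ∀ c ∈ (P : Subgroup G) ⊓ Subgroup.centralizer (T : Set G), c ∈ T := by
    intro c hc
    obtain ⟨hc1, hc2⟩ := Subgroup.mem_inf.mp hc
    have hz : IsPGroup p (Subgroup.zpowers (⟨c, hc2⟩ : Subgroup.centralizer (T : Set G))) := by
      have h1 : IsPGroup p (Subgroup.zpowers c) := P.2.to_le (Subgroup.zpowers_le.mpr hc1)
      have h2 : (Subgroup.zpowers (⟨c, hc2⟩ : Subgroup.centralizer (T : Set G))).map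
          (Subgroup.centralizer (T : Set G)).subtype = Subgroup.zpowers c := by
        rw [MonoidHom.map_zpowers]; rfl
      rw [← h2] at h1
      exact h1.of_equiv ((Subgroup.equivMapOfInjective _ _ (Subgroup.subtype_injective _)).symm)
    obtain ⟨R', hR'⟩ := hz.exists_le_sylow
    haveI := Sylow.unique_of_normal R hRn
    have e : R' = R := Subsingleton.elim _ _
    rw [e] at hR'
    have h3 : c ∈ T ⊓ Subgroup.centralizer (T : Set G) := by
      rw [← hR]; exact ⟨⟨c, hc2⟩, hR' (Subgroup.mem_zpowers _), rfl⟩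
    exact (Subgroup.mem_inf.mp h3).1
  have hNQT : NQ ≤ T := by
    intro q hq
    have h1 := hNQD hq
    rw [hD, Cfsg.Agent.Lib.Helper9.mem_sup_of_le_normalizer (centralizer_le_normalizer'' T)] at h1
    obtain ⟨t, ht, c, hc, e⟩ := h1
    have hqP : q ∈ (P : Subgroup G) := hQP ((hNQ ▸ hq : q ∈ Q ⊓ _).1)
    have hcP : c ∈ (P : Subgroup G) := by
      have : c = t⁻¹ * q := by rw [← e]; group
      rw [this]
      exact mul_mem (inv_mem (hTP ht)) hqP
    rw [← e]
    exact mul_mem ht (hpel c (Subgroup.mem_inf.mpr ⟨hcP, hc⟩))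
  -- normalizers grow
  by_contra hcon
  have hlt : T < Q ⊔ T := by
    refine lt_of_le_of_ne le_sup_right (fun h => hcon ?_)
    rw [h]; exact le_sup_left
  have h1 := lt_inf_normalizer (P.2.to_le (sup_le hQP hTP)) hlt
  apply h1.not_ge
  intro x hx
  obtain ⟨hx1, hx2⟩ := Subgroup.mem_inf.mp hx
  rw [Cfsg.Agent.Lib.Helper9.mem_sup_of_le_normalizer (hTP.trans hPQ)] at hx1
  obtain ⟨q, hq, t, ht, e⟩ := hx1
  have hqN : q ∈ Subgroup.normalizer (T : Set G) := by
    have : q = x * t⁻¹ := by rw [← e]; group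
    rw [this]
    exact mul_mem hx2 (inv_mem (Subgroup.le_normalizer ht))
  rw [← e]
  exact mul_mem (hNQT (hNQ ▸ Subgroup.mem_inf.mpr ⟨hq, hqN⟩)) ht

end Cfsg.Agent.Lib.Helper5
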