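import Cfsg.Agent.Lib.Helper5.QD7

set_option autoImplicit false
set_option linter.style.haveILetI false
set_option linter.unusedSectionVars false

namespace Cfsg.Agent.Lib.Helper5

universe u v w

open Polynomial

local notation "SL2" => Matrix.SpecialLinearGroup (Fin 2)

theorem exists_ker_of_nilpotent {k : Type*} [Field k] {V : Type*} [AddCommGroup V] [Module k V]
    [Nontrivial V] (N : Module.End k V) (n : ℕ) (h : N ^ n = 0) : ∃ v : V, v ≠ 0 ∧ N v = 0 := by
  induction n with
  | zero =>
    exfalso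
    obtain ⟨v, hv⟩ := exists_ne (0 : V)
    apply hv
    have := congrArg (fun f : Module.End k V => f v) h
    simpa using this
  | succ n ih =>
    by_cases h' : N ^ n = 0
    · exact ih h'
    · obtain ⟨v, hv⟩ : ∃ v, (N ^ n) v ≠ 0 := by
        by_contra hcon
        push Not at hcon
        apply h'
        ext v
        exact hcon v
      refine ⟨(N ^ n) v, hv, ?_⟩
      rw [← Module.End.mul_apply, ← pow_succ', h]
      rfl

theorem exists_eigen_of_prod {k : Type*} [Field k] [DecidableEq k] {V : Type*} [AddCommGroup V]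
    [Module k V] (T : Module.End k V) (s : Finset k) :
    ∀ v : V, v ≠ 0 → aeval T (∏ a ∈ s, (X - C a) : k[X]) v = 0 →
      ∃ (a : k) (w : V), w ≠ 0 ∧ T w = a • w := by
  induction s using Finset.induction_on with
  | empty =>
    intro v hv h
    exfalso
    apply hv
    simpa using h
  | insert a s ha ih =>
    intro v hv h
    rw [Finset.prod_insert ha, map_mul, Module.End.mul_apply] at h
    by_cases h' : aeval T (∏ a ∈ s, (X - C a) : k[X]) v = 0
    · exact ih v hv h'
    · refine ⟨a, _, h', ?_⟩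
      rw [map_sub, aeval_X, aeval_C, LinearMap.sub_apply, sub_eq_zero] at h
      rw [h]
      rfl

theorem exists_eigen_of_order {k : Type*} [Field k] [Fintype k] {p : ℕ} [Fact p.Prime] [CharP k p]
    {V : Type*} [AddCommGroup V] [Module k V] [Nontrivial V] (T : Module.End k V) (e m : ℕ)
    (hT : T ^ (p ^ e * m) = 1) (hm : m ∣ Fintype.card k - 1) :
    ∃ (a : k) (w : V), w ≠ 0 ∧ T w = a • w := by
  classical
  obtain ⟨q, hq⟩ : ∃ q, q = Fintype.card k := ⟨_, rfl⟩
  have hq1 : 1 < q := hq ▸ Fintype.one_lt_card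
  have hQ : (X ^ q - X : k[X]) = ∏ a : k, (X - C a) := by
    have hmonic : (X ^ q - X : k[X]).Monic := by
      apply monic_X_pow_sub
      rw [degree_X]
      exact_mod_cast hq1
    have h1 := Polynomial.prod_multiset_X_sub_C_of_monic_of_roots_card_eq hmonic (by
      rw [hq, FiniteField.roots_X_pow_card_sub_X, FiniteField.X_pow_card_sub_X_natDegree_eq k (hq ▸ hq1)]
      simp)
    rw [hq, FiniteField.roots_X_pow_card_sub_X] at h1
    rw [hq]
    exact h1.symm
  have hdvd1 : (X ^ m - 1 : k[X]) ∣ X ^ q - X := by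
    obtain ⟨c, hc⟩ := hm
    have h1 : (X ^ m - 1 : k[X]) ∣ (X ^ m) ^ c - 1 ^ c := sub_dvd_pow_sub_pow _ _ _
    have h2 : (X ^ q - X : k[X]) = X * ((X ^ m) ^ c - 1 ^ c) := by
      rw [← pow_mul, ← hc, one_pow, mul_sub, mul_one, ← pow_succ', ← hq]
      congr 2
      omega
    rw [h2]
    exact h1.mul_left _
  have hP : (X ^ (p ^ e * m) - 1 : k[X]) = (X ^ m - 1) ^ (p ^ e) := by
    rw [sub_pow_char_pow, one_pow, ← pow_mul, mul_comm]
  have h0 : aeval T ((X ^ q - X : k[X]) ^ (p ^ e)) = 0 := by
    obtain ⟨R, hR⟩ := pow_dvd_pow_of_dvd hdvd1 (p ^ e)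
    rw [hR, ← hP, map_mul, map_sub, map_pow, aeval_X, map_one, hT, sub_self, zero_mul]
  rw [map_pow] at h0
  obtain ⟨v, hv, hv0⟩ := exists_ker_of_nilpotent _ _ h0
  rw [hQ] at hv0
  exact exists_eigen_of_prod T Finset.univ v hv hv0

theorem irr_case_sl2 {p : ℕ} [Fact p.Prime] {k : Type v} [Field k] [CharP k p] {V : Type u}
    [AddCommGroup V] [Module k V] [Finite V] {X : Type w} [Group X] (ρ : Representation k X V)
    (x y : X) (hgen : Subgroup.closure {x, y} = ⊤) (hirr : IrrRep ρ) (hx : QuadOn ρ x)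
    (hy : QuadOn ρ y) (hnp : ¬ PAct p ρ)
    (heig : ∃ (c : k) (w : V), w ≠ 0 ∧ ρ (x * y) w = c • w) :
    ∃ π : X →* SL2 k, ¬ IsPGroup p π.range := by
  haveI : Nontrivial V := by
    by_contra h
    rw [not_nontrivial_iff_subsingleton] at h
    exact hnp (fun g => ⟨0, fun v => Subsingleton.elim _ _⟩)
  obtain ⟨a, ha⟩ : ∃ a : Module.End k V, a = ρ x - 1 := ⟨_, rfl⟩
  obtain ⟨b, hb⟩ : ∃ b : Module.End k V, b = ρ y - 1 := ⟨_, rfl⟩
  have haa : a * a = 0 := by
    ext v
    have := hx v
    simp only [ha, Module.End.mul_apply, LinearMap.sub_apply, Module.End.one_apply,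
      LinearMap.zero_apply]
    rw [this, sub_self]
  have hbb : b * b = 0 := by
    ext v
    have := hy v
    simp only [hb, Module.End.mul_apply, LinearMap.sub_apply, Module.End.one_apply,
      LinearMap.zero_apply]
    rw [this, sub_self]
  obtain ⟨z, hz⟩ : ∃ z : Module.End k V, z = a * b + b * a := ⟨_, rfl⟩
  have hza : a * z = z * a := by
    rw [hz, mul_add, add_mul, ← mul_assoc, haa, zero_mul, zero_add, mul_assoc b a a, haa, mul_zero,
      add_zero, mul_assoc]
  have hzb : b * z = z * b := by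
    rw [hz, mul_add, add_mul, ← mul_assoc b b a, hbb, zero_mul, add_zero, mul_assoc a b b, hbb,
      mul_zero, zero_add, mul_assoc]
  have hρx : ρ x = a + 1 := by rw [ha]; abel
  have hρy : ρ y = b + 1 := by rw [hb]; abel
  have hzg : ∀ g, ρ g * z = z * ρ g := by
    apply commute_of_gens ρ x y hgen
    · rw [hρx, add_mul, mul_add, hza, one_mul, mul_one]
    · rw [hρy, add_mul, mul_add, hzb, one_mul, mul_one]
  -- the eigenvalue of `z`
  obtain ⟨c, w₀, hw₀, hTw⟩ := heig
  obtain ⟨T', hT'⟩ : ∃ T' : Module.End k V, T' = (1 - b) * (1 - a) := ⟨_, rfl⟩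
  have hT : ρ (x * y) = (a + 1) * (b + 1) := by rw [map_mul, hρx, hρy]
  have hT'T : T' * ρ (x * y) = 1 := by
    rw [hT, hT']
    calc (1 - b) * (1 - a) * ((a + 1) * (b + 1)) = (1 - b) * (1 - a * a) * (b + 1) := by noncomm_ring
      _ = 1 - b * b := by rw [haa]; noncomm_ring
      _ = 1 := by rw [hbb, sub_zero]
  have hc0 : c ≠ 0 := by
    rintro rfl
    apply hw₀
    have := congrArg (fun f : Module.End k V => f w₀) hT'T
    simp only [Module.End.mul_apply, Module.End.one_apply] at this
    rw [hTw, zero_smul, map_zero] at this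
    exact this.symm
  have hT'w : T' w₀ = c⁻¹ • w₀ := by
    have := congrArg (fun f : Module.End k V => f w₀) hT'T
    simp only [Module.End.mul_apply, Module.End.one_apply] at this
    rw [hTw, map_smul] at this
    calc T' w₀ = c⁻¹ • (c • T' w₀) := by rw [smul_smul, inv_mul_cancel₀ hc0, one_smul]
      _ = c⁻¹ • w₀ := by rw [this]
  obtain ⟨μ, hμ⟩ : ∃ μ : k, μ = c + c⁻¹ - 2 := ⟨_, rfl⟩
  have hzT : z = ρ (x * y) + T' - (1 + 1) := by
    rw [hT, hT', hz]; noncomm_ring
  have hzw₀ : z w₀ = μ • w₀ := by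
    rw [hzT, LinearMap.sub_apply, LinearMap.add_apply, hTw, hT'w, hμ, sub_smul, add_smul]
    congr 1
    rw [two_smul, LinearMap.add_apply, Module.End.one_apply]
  have hzμ : ∀ v, z v = μ • v := by
    rcases hirr (LinearMap.ker (z - μ • (1 : Module.End k V))) (by
      intro g v hv
      rw [LinearMap.mem_ker, LinearMap.sub_apply, LinearMap.smul_apply, Module.End.one_apply,
        sub_eq_zero] at hv
      rw [Submodule.mem_comap, LinearMap.mem_ker, LinearMap.sub_apply, LinearMap.smul_apply,
        Module.End.one_apply, sub_eq_zero, ← Module.End.mul_apply, ← hzg g, Module.End.mul_apply, hv,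
        map_smul]) with h | h
    · exfalso
      have : w₀ ∈ LinearMap.ker (z - μ • (1 : Module.End k V)) := by
        rw [LinearMap.mem_ker, LinearMap.sub_apply, LinearMap.smul_apply, Module.End.one_apply,
          sub_eq_zero]
        exact hzw₀
      rw [h, Submodule.mem_bot] at this
      exact hw₀ this
    · intro v
      have : v ∈ LinearMap.ker (z - μ • (1 : Module.End k V)) := h ▸ Submodule.mem_top
      rwa [LinearMap.mem_ker, LinearMap.sub_apply, LinearMap.smul_apply, Module.End.one_apply,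
        sub_eq_zero] at this
  obtain ⟨u, hu0, hxu⟩ := exists_fixed_of_quad ρ x hx
  obtain ⟨w, hw⟩ : ∃ w : V, w = ρ y u - u := ⟨_, rfl⟩
  have hau : a u = 0 := by rw [ha, LinearMap.sub_apply, Module.End.one_apply, hxu, sub_self]
  have hbu : b u = w := by rw [hb, LinearMap.sub_apply, Module.End.one_apply, hw]
  have hbw : b w = 0 := by rw [← hbu, ← Module.End.mul_apply, hbb, LinearMap.zero_apply]
  have haw : a w = μ • u := by
    rw [← hzμ, hz, LinearMap.add_apply, Module.End.mul_apply, Module.End.mul_apply, hau, map_zero,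
      add_zero, hbu]
  obtain ⟨U, hU⟩ : ∃ U : Submodule k V, U = Submodule.span k {u, w} := ⟨_, rfl⟩
  have hUmem : ∀ v, v ∈ U ↔ ∃ c₁ c₂ : k, c₁ • u + c₂ • w = v := by
    intro v
    rw [hU, Submodule.mem_span_pair]
  have hUa : ∀ v ∈ U, a v ∈ U := by
    intro v hv
    obtain ⟨c₁, c₂, rfl⟩ := (hUmem v).mp hv
    refine (hUmem _).mpr ⟨c₂ * μ, 0, ?_⟩
    rw [map_add, map_smul, map_smul, hau, haw, smul_zero, zero_add, zero_smul, add_zero, smul_smul]
  have hUb : ∀ v ∈ U, b v ∈ U := by
    intro v hv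
    obtain ⟨c₁, c₂, rfl⟩ := (hUmem v).mp hv
    refine (hUmem _).mpr ⟨0, c₁, ?_⟩
    rw [map_add, map_smul, map_smul, hbu, hbw, smul_zero, add_zero, zero_smul, zero_add]
  have hUinv : ∀ g, U ≤ U.comap (ρ g) := by
    apply invariant_of_gens ρ x y hgen hx hy
    · intro v hv
      rw [hρx, LinearMap.add_apply, Module.End.one_apply]
      exact U.add_mem (hUa v hv) hv
    · intro v hv
      rw [hρy, LinearMap.add_apply, Module.End.one_apply]
      exact U.add_mem (hUb v hv) hv
  have hUtop : U = ⊤ := by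
    rcases hirr U hUinv with h | h
    · exfalso
      have : u ∈ U := (hUmem u).mpr ⟨1, 0, by simp⟩
      rw [h, Submodule.mem_bot] at this
      exact hu0 this
    · exact h
  have hsp : ∀ v : V, ∃ c₁ c₂ : k, v = c₁ • u + c₂ • w := by
    intro v
    obtain ⟨c₁, c₂, h⟩ := (hUmem v).mp (hUtop ▸ Submodule.mem_top)
    exact ⟨c₁, c₂, h.symm⟩
  have hμ0 : μ ≠ 0 := by
    intro h0
    apply hnp
    have ha0 : a = 0 := by
      ext v
      obtain ⟨c₁, c₂, rfl⟩ := hsp v
      rw [map_add, map_smul, map_smul, hau, haw, h0]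
      simp
    have hb0 : b = 0 := by
      rcases hirr (LinearMap.ker b) (by
        apply invariant_of_gens ρ x y hgen hx hy
        · intro v hv
          rw [hρx, ha0, zero_add, Module.End.one_apply]; exact hv
        · intro v hv
          rw [hρy, LinearMap.add_apply, Module.End.one_apply, LinearMap.mem_ker.mp hv, zero_add]
          exact hv) with h | h
      · exfalso
        obtain ⟨u', hu', hyu'⟩ := exists_fixed_of_quad ρ y hy
        have : u' ∈ LinearMap.ker b := by
          rw [LinearMap.mem_ker, hb, LinearMap.sub_apply, Module.End.one_apply, hyu', sub_self]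
        rw [h, Submodule.mem_bot] at this
        exact hu' this
      · exact LinearMap.ker_eq_top.mp h
    have h1 : ρ = 1 := by
      apply MonoidHom.eq_of_eqOn_dense hgen
      intro g hg
      rcases hg with rfl | hg
      · rw [hρx, ha0, zero_add]; rfl
      · rw [Set.mem_singleton_iff.mp hg, hρy, hb0, zero_add]; rfl
    intro g
    exact ⟨0, fun v => by rw [h1]; rfl⟩
  rw [hw] at hsp
  obtain ⟨π, -, -, hform⟩ := irr_abs' (K := k) ρ x y hgen (fun c g v => map_smul _ _ _) μ hμ0 u hu0 hxu
    (by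
      rw [← hw, hρx, LinearMap.add_apply, Module.End.one_apply, haw, add_comm]) (hy u) hsp
  refine ⟨π, fun hP => hnp ?_⟩
  intro g
  obtain ⟨n, hn⟩ := hP ⟨π g, g, rfl⟩
  have h1 : π (g ^ p ^ n) = 1 := by
    have := congrArg Subtype.val hn
    simpa using this
  refine ⟨n, fun v => ?_⟩
  obtain ⟨c₁, c₂, rfl⟩ := hsp v
  rw [map_add, map_smul, map_smul, (hform _).1, (hform _).2, h1]
  simp

theorem sl2_of_not_pAct {p : ℕ} [Fact p.Prime] {k : Type v} [Field k] [Fintype k] [CharP k p]
    {X : Type w} [Group X] (x y : X) (hgen : Subgroup.closure {x, y} = ⊤)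
    (e m : ℕ) (hxy : (x * y) ^ (p ^ e * m) = 1) (hm : m ∣ Fintype.card k - 1) :
    ∀ (n : ℕ) (V : Type u) [AddCommGroup V] [Module k V] [Finite V] (ρ : Representation k X V),
      Nat.card V = n → ¬ PAct p ρ → QuadOn ρ x → QuadOn ρ y →
        ∃ π : X →* SL2 k, ¬ IsPGroup p π.range := by
  intro n
  induction n using Nat.strong_induction_on with
  | _ n IH =>
    intro V _ _ _ ρ hn hnp hx hy
    by_cases hirr : IrrRep ρ
    · haveI : Nontrivial V := by
        by_contra h
        rw [not_nontrivial_iff_subsingleton] at h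
        exact hnp (fun g => ⟨0, fun v => Subsingleton.elim _ _⟩)
      exact irr_case_sl2 ρ x y hgen hirr hx hy hnp
        (exists_eigen_of_order (p := p) (ρ (x * y)) e m (by rw [← map_pow, hxy, map_one]) hm)
    · unfold IrrRep at hirr
      push Not at hirr
      obtain ⟨U, hU, hbot, htop⟩ := hirr
      haveI : Finite (V ⧸ U) := Finite.of_surjective _ (Submodule.Quotient.mk_surjective U)
      have hmul : Nat.card U * Nat.card (V ⧸ U) = Nat.card V := by
        have := AddSubgroup.card_eq_card_quotient_mul_card_addSubgroup U.toAddSubgroup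
        rw [this, mul_comm]
        rfl
      have hU1 : 1 < Nat.card U := by
        haveI : Nontrivial U := Submodule.nontrivial_iff_ne_bot.mpr hbot
        exact Finite.one_lt_card
      have hQ1 : 1 < Nat.card (V ⧸ U) := by
        haveI : Nontrivial (V ⧸ U) := Submodule.Quotient.nontrivial_iff.mpr htop
        exact Finite.one_lt_card
      by_cases h1 : PAct p (ρ.subrepresentation U hU)
      · by_cases h2 : PAct p (ρ.quotient U hU)
        · exact absurd (pAct_of_sub_quot ρ U hU h1 h2) hnp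
        · have hlt : Nat.card (V ⧸ U) < n := by
            rw [← hn, ← hmul]
            exact lt_mul_of_one_lt_left Nat.card_pos hU1
          exact IH _ hlt (V ⧸ U) (ρ.quotient U hU) rfl h2 (quadOn_quot ρ U hU x hx)
            (quadOn_quot ρ U hU y hy)
      · have hlt : Nat.card U < n := by
          rw [← hn, ← hmul]
          exact lt_mul_of_one_lt_right Nat.card_pos hQ1
        exact IH _ hlt U (ρ.subrepresentation U hU) rfl h1 (quadOn_sub ρ U hU x hx)
          (quadOn_sub ρ U hU y hy)

theorem sl2_hom_of_quad_pair {K : Type*} [Field K] [Fintype K] {p : ℕ} [Fact p.Prime] [CharP K p]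
    {W : Type*} [AddCommGroup W] [Module K W] [Finite W]
    (H : Subgroup (W ≃ₗ[K] W)) (a b : W ≃ₗ[K] W) (hH : H = Subgroup.closure {a, b})
    (ha : ∀ w : W, a (a w - w) = a w - w) (hb : ∀ w : W, b (b w - w) = b w - w)
    (hnp : ¬ IsPGroup p H)
    (hk : ∃ e k : ℕ, orderOf (a * b) = p ^ e * k ∧ k ∣ Fintype.card K - 1) :
    ∃ φ : H →* SL2 K, ¬ IsPGroup p φ.range := by
  obtain ⟨e, m, hord, hm⟩ := hk
  have haH : a ∈ H := hH ▸ Subgroup.subset_closure (by simp)
  have hbH : b ∈ H := hH ▸ Subgroup.subset_closure (by simp)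
  obtain ⟨ρ, hρ⟩ : ∃ ρ : Representation K H W, ∀ (h : H) (w : W), ρ h w = (h : W ≃ₗ[K] W) w :=
    ⟨LinearEquiv.automorphismGroup.toLinearMapMonoidHom.comp H.subtype, fun _ _ => rfl⟩
  have hgen : Subgroup.closure {(⟨a, haH⟩ : H), ⟨b, hbH⟩} = ⊤ := by
    apply Subgroup.map_injective H.subtype_injective
    rw [MonoidHom.map_closure, ← MonoidHom.range_eq_map, Subgroup.range_subtype, Set.image_pair]
    exact hH.symm
  apply sl2_of_not_pAct (p := p) (⟨a, haH⟩ : H) ⟨b, hbH⟩ hgen e m ?_ hm _ W ρ rfl ?_ ?_ ?_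
  · apply Subtype.ext
    show (a * b) ^ (p ^ e * m) = 1
    rw [← hord]
    exact pow_orderOf_eq_one _
  · intro hP
    apply hnp
    intro g
    obtain ⟨n, hn⟩ := hP g
    refine ⟨n, ?_⟩
    apply Subtype.ext
    ext w
    have := hn w
    rw [hρ] at this
    exact this
  · intro w
    simp only [hρ]
    exact ha w
  · intro w
    simp only [hρ]
    exact hb w

end Cfsg.Agent.Lib.Helper5
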