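import Cfsg.Agent.Lib.Helper5.SLN1
import Cfsg.Agent.Lib.Helper5.Card
import Cfsg.Agent.Lib.Helper1.CoprimeSylow
import Cfsg.Agent.Lib.Helper12.SL2Sylow
import Cfsg.Agent.S0016

set_option autoImplicit false
set_option linter.style.haveILetI false
set_option linter.unusedSectionVars false

namespace Cfsg.Agent.Lib.Helper5

local notation "SL2" => Matrix.SpecialLinearGroup (Fin 2)

/-- the `2`-group part -/
theorem sl2_norm_two_group {F : Type*} [Field F] [Finite F] {p : ℕ} [Fact p.Prime] [CharP F p]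
    (hp : p ≠ 2) (a : SL2 F) (R : Subgroup (SL2 F))
    (hR : (Nat.card R).Coprime p) (hpa : IsPGroup p (Subgroup.zpowers a))
    (haR : a ∈ Subgroup.normalizer (R : Set (SL2 F)))
    (key : ∀ b ∈ R, b * (a * b * a⁻¹) = (a * b * a⁻¹) * b → b = 1 ∨ b = negOne) :
    IsPGroup 2 R := by
  classical
  have h2 : (2 : F) ≠ 0 := two_ne_zero_of_char hp
  have hprime : ∀ {r : ℕ}, r.Prime → r ∣ Nat.card R → r = 2 := by
    intro r hr hdvd
    haveI : Fact r.Prime := ⟨hr⟩
    have hcop : (Nat.card (Subgroup.zpowers a)).Coprime (Nat.card R) := by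
      obtain ⟨n, hn⟩ := IsPGroup.iff_card.mp hpa
      rw [hn]
      exact (Nat.Coprime.pow_right n hR).symm
    obtain ⟨⟨S, hS⟩, -⟩ := Cfsg.Agent.Lib.Helper1.invariant_sylow (Subgroup.zpowers a) R
      (by rw [Subgroup.zpowers_le]; exact haR) hcop (Or.inl inferInstance) r
    have hSne : (S : Subgroup R) ≠ ⊥ := S.ne_bot_of_dvd_card hdvd
    haveI : Nontrivial (S : Subgroup R) := (Subgroup.nontrivial_iff_ne_bot _).mpr hSne
    haveI := S.2.center_nontrivial
    obtain ⟨z, hz⟩ := exists_ne (1 : Subgroup.center (S : Subgroup R))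
    obtain ⟨b, hb⟩ : ∃ b : SL2 F, b = ((z : (S : Subgroup R)) : R) := ⟨_, rfl⟩
    have hbR : b ∈ R := by rw [hb]; exact Subtype.property _
    have hb1 : b ≠ 1 := by
      intro h
      apply hz
      apply Subtype.ext; apply Subtype.ext; apply Subtype.ext
      rw [← hb, h]; rfl
    have haS := hS (Subgroup.mem_zpowers a)
    have hbS : b ∈ (S : Subgroup R).map R.subtype := ⟨_, (z : (S : Subgroup R)).2, hb.symm⟩
    obtain ⟨y, hy, hy2⟩ := (Subgroup.mem_normalizer_iff.mp haS b).mp hbS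
    have hzc := Subgroup.mem_center_iff.mp z.2 ⟨y, hy⟩
    have hcomm : b * (a * b * a⁻¹) = (a * b * a⁻¹) * b := by
      have := congrArg (fun w : (S : Subgroup R) => ((w : R) : SL2 F)) hzc
      simp only [Subgroup.coe_mul] at this
      rw [← hy2, hb]
      exact this.symm
    have hbn : b = negOne := (key b hbR hcomm).resolve_left hb1
    obtain ⟨j, hj⟩ := S.2 (z : (S : Subgroup R))
    have hbj : b ^ (r ^ j) = 1 := by
      have := congrArg (fun w : (S : Subgroup R) => ((w : R) : SL2 F)) hj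
      simp only [Subgroup.coe_pow, Subgroup.coe_one] at this
      rw [hb]; exact this
    have ho : orderOf b = 2 := orderOf_eq_prime (by rw [pow_two, hbn, negOne_mul_self]) hb1
    have h3 : 2 ∣ r ^ j := ho ▸ orderOf_dvd_of_pow_eq_one hbj
    exact ((Nat.prime_dvd_prime_iff_eq Nat.prime_two hr).mp (Nat.prime_two.dvd_of_dvd_pow h3)).symm
  exact IsPGroup.of_card (Nat.eq_prime_pow_of_unique_prime_dvd Nat.card_pos.ne' hprime)

/-- the quaternion part -/
theorem sl2_norm_quaternion {F : Type*} [Field F] [Finite F] (h2 : (2 : F) ≠ 0)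
    (a : SL2 F) (R : Subgroup (SL2 F)) (h2grp : IsPGroup 2 R)
    (hconj : ∀ r ∈ R, a * r * a⁻¹ ∈ R)
    (key : ∀ b ∈ R, b * (a * b * a⁻¹) = (a * b * a⁻¹) * b → b = 1 ∨ b = negOne)
    (hnab : ¬ ∀ x ∈ R, ∀ y ∈ R, x * y = y * x) :
    Nonempty (R ≃* QuaternionGroup 2) := by
  classical
  haveI : Fact (Nat.Prime 2) := ⟨Nat.prime_two⟩
  have hmem : ∀ H : Subgroup R, Nat.card H = 2 → ∀ x : R, x ∈ H ↔ (x.1 = 1 ∨ x.1 = negOne) := by
    intro H hH x
    have hsq : ∀ y ∈ H, (y : SL2 F) = 1 ∨ (y : SL2 F) = negOne := by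
      intro y hy
      apply sq_eq_one_sl2 h2
      have := pow_card_eq_one' (G := H) (x := ⟨y, hy⟩)
      rw [hH, pow_two] at this
      exact congrArg (fun w : H => ((w : R) : SL2 F)) this
    constructor
    · exact hsq x
    · rintro (h | h)
      · have : x = 1 := Subtype.ext h
        rw [this]; exact H.one_mem
      · haveI : Nontrivial H := by
          rw [← Finite.one_lt_card_iff_nontrivial, hH]; norm_num
        obtain ⟨y, hy⟩ := exists_ne (1 : H)
        have hy1 : ((y : R) : SL2 F) ≠ 1 := by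
          intro h1
          apply hy
          apply Subtype.ext; apply Subtype.ext
          exact h1
        have := (hsq y y.2).resolve_left hy1
        have hxy : x = y := Subtype.ext (h.trans this.symm)
        rw [hxy]; exact y.2
  have huniq : ∀ H K : Subgroup R, Nat.card H = 2 → Nat.card K = 2 → H = K := by
    intro H K hH hK
    ext x
    rw [hmem H hH, hmem K hK]
  have hnab' : ¬ ∀ x y : R, x * y = y * x := by
    intro h
    apply hnab
    intro x hx y hy
    exact congrArg Subtype.val (h ⟨x, hx⟩ ⟨y, hy⟩)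
  rcases Cfsg.Agent.S0016.result 2 h2grp huniq with hc | ⟨-, n, ⟨e⟩⟩
  · exfalso
    apply hnab'
    intro x y
    obtain ⟨g, hg⟩ := IsCyclic.exists_generator (α := R)
    obtain ⟨i, rfl⟩ := Subgroup.mem_zpowers_iff.mp (hg x)
    obtain ⟨j, rfl⟩ := Subgroup.mem_zpowers_iff.mp (hg y)
    rw [← zpow_add, ← zpow_add, add_comm]
  · rcases n with _ | _ | n
    · exfalso
      have hcard : Nat.card R = 2 ^ 2 := by
        rw [Nat.card_congr e.toEquiv, Nat.card_eq_fintype_card, QuaternionGroup.card]; norm_num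
      haveI := IsPGroup.isMulCommutative_of_card_eq_prime_sq hcard
      exact hnab' (fun x y => mul_comm' x y)
    · exact ⟨e⟩
    · exfalso
      obtain ⟨m, hm⟩ : ∃ m : ℕ, m = 2 ^ (n + 1 + 1) := ⟨_, rfl⟩
      have hm4 : 4 ≤ m := by
        rw [hm, pow_succ, pow_succ]
        have : 1 ≤ 2 ^ n := Nat.one_le_two_pow
        omega
      rw [← hm] at e
      obtain ⟨x, hx⟩ : ∃ x : R, x = e.symm (QuaternionGroup.a 1) := ⟨_, rfl⟩
      have hex : e x = QuaternionGroup.a 1 := by rw [hx]; simp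
      have hx4 : x ^ 4 ≠ 1 := by
        intro h
        have h1 : (QuaternionGroup.a 1 : QuaternionGroup m) ^ 4 = 1 := by
          rw [← hex, ← map_pow, h, map_one]
        have h3 := orderOf_dvd_of_pow_eq_one h1
        rw [QuaternionGroup.orderOf_a_one] at h3
        have := Nat.le_of_dvd (by norm_num) h3
        omega
      obtain ⟨y, hy⟩ : ∃ y : R, y = ⟨a * x.1 * a⁻¹, hconj _ x.2⟩ := ⟨_, rfl⟩
      have hy4 : y ^ 4 ≠ 1 := by
        intro h
        apply hx4
        have h1 := congrArg Subtype.val h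
        rw [hy] at h1
        simp only [Subgroup.coe_pow, Subgroup.coe_one, conj_pow] at h1
        apply Subtype.ext
        simp only [Subgroup.coe_pow, Subgroup.coe_one]
        have h3 := mul_inv_eq_one.mp h1
        exact mul_left_cancel (h3.trans (mul_one a).symm)
      have hcomm : x * y = y * x := by
        apply e.injective
        rw [map_mul, map_mul, hex]
        rcases hey : e y with j | j
        · rw [QuaternionGroup.a_mul_a, QuaternionGroup.a_mul_a, add_comm]
        · exfalso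
          apply hy4
          apply e.injective
          rw [map_pow, hey, QuaternionGroup.xa_pow_four, map_one]
      have h5 := congrArg Subtype.val hcomm
      rw [hy] at h5
      simp only [Subgroup.coe_mul] at h5
      have h6 := key x.1 x.2 h5
      apply hx4
      apply Subtype.ext
      simp only [Subgroup.coe_pow, Subgroup.coe_one]
      rcases h6 with h | h
      · rw [h, one_pow]
      · rw [h, show (4 : ℕ) = 2 * 2 from rfl, pow_mul, pow_two negOne, negOne_mul_self, one_pow]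

/-- A `p`-element of `SL₂(F)` acting nontrivially on a `p'`-subgroup `R`: `p = 3`, `R ≅ Q₈`,
`R⟨a⟩ ≅ SL₂(3)`. -/
theorem sl2_normalizing {F : Type*} [Field F] [Finite F] {p : ℕ} [Fact p.Prime] [CharP F p]
    (hp : p ≠ 2) (a : SL2 F) (ha : IsPGroup p (Subgroup.zpowers a)) (R : Subgroup (SL2 F))
    (hR : (Nat.card R).Coprime p) (haR : a ∈ Subgroup.normalizer (R : Set (SL2 F)))
    (hnt : ∃ r ∈ R, a * r * a⁻¹ ≠ r) :
    p = 3 ∧ Nonempty (R ≃* QuaternionGroup 2) ∧
      Nonempty (↥(R ⊔ Subgroup.zpowers a) ≃* SL2 (ZMod 3)) := by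
  classical
  have h2 : (2 : F) ≠ 0 := two_ne_zero_of_char hp
  have hpp : p.Prime := Fact.out
  obtain ⟨k, hk⟩ : ∃ k : ℕ, a ^ (p ^ k) = 1 := by
    obtain ⟨k, hk⟩ := ha ⟨a, Subgroup.mem_zpowers a⟩
    exact ⟨k, by simpa using congrArg Subtype.val hk⟩
  have ha1 : a ≠ 1 := by
    rintro rfl
    obtain ⟨r, _, hr⟩ := hnt
    simp at hr
  have hconj : ∀ r ∈ R, a * r * a⁻¹ ∈ R := fun r hr => (Subgroup.mem_normalizer_iff.mp haR r).mp hr
  have hconj' : ∀ r ∈ R, a⁻¹ * r * a ∈ R := by
    intro r hr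
    have := (Subgroup.mem_normalizer_iff.mp (Subgroup.inv_mem _ haR) r).mp hr
    rwa [inv_inv] at this
  have hpowR : ∀ b ∈ R, b ^ Nat.card R = 1 := by
    intro b hb
    have := pow_card_eq_one' (G := R) (x := ⟨b, hb⟩)
    exact congrArg Subtype.val this
  have key : ∀ b ∈ R, b * (a * b * a⁻¹) = (a * b * a⁻¹) * b → b = 1 ∨ b = negOne := by
    intro b hb h
    exact sc_of_comm_conj hp a b ⟨k, hk⟩ ha1 (Nat.card R) hR (hpowR b hb) h
  have hcent : ∀ b : SL2 F, (b = 1 ∨ b = negOne) → a * b * a⁻¹ = b := by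
    rintro b (rfl | rfl)
    · simp
    · rw [sc_comm negOne a ((sc_iff _).mpr (Or.inr rfl))]; group
  have hnab : ¬ ∀ x ∈ R, ∀ y ∈ R, x * y = y * x := by
    intro hab
    obtain ⟨r, hr, hr2⟩ := hnt
    exact hr2 (hcent r (key r hr (hab r hr _ (hconj r hr))))
  have h2grp := sl2_norm_two_group hp a R hR ha haR key
  obtain ⟨e⟩ := sl2_norm_quaternion h2 a R h2grp hconj key hnab
  have hcardR : Nat.card R = 8 := by
    rw [Nat.card_congr e.toEquiv, Nat.card_eq_fintype_card, QuaternionGroup.card]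
  have hap : a ^ p = 1 := pow_char_of_trace_two a (trace_of_pelt a k hk)
  have hcarda : Nat.card (Subgroup.zpowers a) = p := by
    rw [Nat.card_zpowers, orderOf_eq_prime hap ha1]
  have hcardH : Nat.card ↥(R ⊔ Subgroup.zpowers a) ≤ p * 8 := by
    have h := card_sup_mul_card_inf (Subgroup.zpowers a) R (by rw [Subgroup.zpowers_le]; exact haR)
    rw [hcarda, hcardR, sup_comm] at h
    exact Nat.le_of_dvd (by have := hpp.pos; omega) (Dvd.intro _ h)
  -- non-commuting conjugates
  obtain ⟨r, hr, hr2⟩ : ∃ r ∈ R, a * (r * a * r⁻¹) ≠ (r * a * r⁻¹) * a := by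
    by_contra hcon
    push Not at hcon
    obtain ⟨r, hr, hr2⟩ := hnt
    apply hr2
    have hc := hcon r hr
    obtain ⟨c, hc0⟩ : ∃ c : SL2 F, c = a⁻¹ * (r * a * r⁻¹) := ⟨_, rfl⟩
    have hcR : c ∈ R := by
      have : c = (a⁻¹ * r * a) * r⁻¹ := by rw [hc0]; group
      rw [this]
      exact R.mul_mem (hconj' r hr) (R.inv_mem hr)
    have hcp : c ^ (p ^ k) = 1 := by
      have hcm : Commute a⁻¹ (r * a * r⁻¹) := (show Commute a (r * a * r⁻¹) from hc).inv_left
      rw [hc0, hcm.mul_pow, inv_pow, hk, conj_pow, hk]; simp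
    have hc1 : c = 1 := by
      rw [← orderOf_eq_one_iff]
      exact Nat.eq_one_of_dvd_coprimes (Nat.Coprime.pow_right k hR)
        (orderOf_dvd_of_pow_eq_one (hpowR c hcR)) (orderOf_dvd_of_pow_eq_one hcp)
    rw [hc0] at hc1
    have h3 : r * a * r⁻¹ = a := by
      have := inv_mul_eq_one.mp hc1
      exact this.symm
    have h4 : r * a = a * r := mul_inv_eq_iff_eq_mul.mp h3
    rw [← h4]; group
  have haH : a ∈ R ⊔ Subgroup.zpowers a :=
    (le_sup_right : Subgroup.zpowers a ≤ _) (Subgroup.mem_zpowers a)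
  have hrH : r ∈ R ⊔ Subgroup.zpowers a := (le_sup_left : R ≤ _) hr
  obtain ⟨φ, hφ, hrange⟩ := dickson_general hp (R ⊔ Subgroup.zpowers a) a (r * a * r⁻¹) haH
    (Subgroup.mul_mem _ (Subgroup.mul_mem _ hrH haH) (Subgroup.inv_mem _ hrH)) ⟨k, hk⟩
    ⟨k, by rw [conj_pow, hk]; simp⟩ hr2
  have hcardS : Nat.card (SL2 (ZMod p)) = p * (p ^ 2 - 1) := by
    rw [Cfsg.Agent.Lib.Helper12.card_SL2, ZMod.card]
  have hcardr : Nat.card φ.range = p * (p ^ 2 - 1) := by
    rw [← hcardS]
    exact (Nat.card_congr (MonoidHom.ofInjective hφ).toEquiv).symm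
  have hle : p * (p ^ 2 - 1) ≤ Nat.card ↥(R ⊔ Subgroup.zpowers a) := by
    rw [← hcardr]
    exact Subgroup.card_le_of_le hrange
  have hp3 : p = 3 := by
    have h5 : p ^ 2 - 1 ≤ 8 := Nat.le_of_mul_le_mul_left (hle.trans hcardH) hpp.pos
    have h6 : p < 4 := by
      by_contra h
      push Not at h
      have : 16 ≤ p ^ 2 := by nlinarith
      omega
    have h7 := hpp.two_le
    omega
  subst hp3
  refine ⟨rfl, ⟨e⟩, ?_⟩
  have heq : φ.range = R ⊔ Subgroup.zpowers a := by
    apply Subgroup.eq_of_le_of_card_ge hrange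
    rw [hcardr]
    exact hcardH
  exact ⟨((MonoidHom.ofInjective hφ).trans (MulEquiv.subgroupCongr heq)).symm⟩

end Cfsg.Agent.Lib.Helper5
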