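import Cfsg.Agent.Lib.Helper5.QD7
import Cfsg.Agent.Lib.Helper5.SLN2

set_option autoImplicit false
set_option linter.style.haveILetI false
set_option linter.unusedSectionVars false

namespace Cfsg.Agent.Lib.Helper5

universe u v w

local notation "SL2" => Matrix.SpecialLinearGroup (Fin 2)

/-- the element `g` acts on `V` as a `p`-element. -/
def PActE {k : Type v} [Field k] {X : Type w} [Group X] (p : ℕ) {V : Type u} [AddCommGroup V]
    [Module k V] (ρ : Representation k X V) (g : X) : Prop :=
  ∃ n : ℕ, ∀ v : V, ρ (g ^ (p ^ n)) v = v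

set_option linter.deprecated false in
theorem irr_case_faith {p : ℕ} [Fact p.Prime] {k : Type v} [Field k] [CharP k p] {V : Type u}
    [AddCommGroup V] [Module k V] [Finite V] {X : Type w} [Group X] (ρ : Representation k X V)
    (x y : X) (hgen : Subgroup.closure {x, y} = ⊤) (hirr : IrrRep ρ) (hx : QuadOn ρ x)
    (hy : QuadOn ρ y) (hnp : ¬ PAct p ρ) :
    ∃ (K : Type u) (_ : Field K) (_ : Finite K) (_ : CharP K p) (l : K) (π : X →* SL2 K),
      l ≠ 0 ∧ π x = tU l ∧ π y = sL 1 ∧ ∀ g, π g = 1 → ∀ v, ρ g v = v := by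
  haveI : Nontrivial V := by
    by_contra h
    rw [not_nontrivial_iff_subsingleton] at h
    exact hnp (fun g => ⟨0, fun v => Subsingleton.elim _ _⟩)
  obtain ⟨a, ha⟩ : ∃ a : Module.End k V, a = ρ x - 1 := ⟨_, rfl⟩
  obtain ⟨b, hb⟩ : ∃ b : Module.End k V, b = ρ y - 1 := ⟨_, rfl⟩
  have haa : a * a = 0 := by
    ext v
    have := hx v
    simp only [ha, Module.End.mul_apply, LinearMap.sub_apply, Module.End.one_apply,
      LinearMap.zero_apply]
    rw [this, sub_self]
  have hbb : b * b = 0 := by
    ext v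
    have := hy v
    simp only [hb, Module.End.mul_apply, LinearMap.sub_apply, Module.End.one_apply,
      LinearMap.zero_apply]
    rw [this, sub_self]
  obtain ⟨z, hz⟩ : ∃ z : Module.End k V, z = a * b + b * a := ⟨_, rfl⟩
  have hza : a * z = z * a := by
    rw [hz, mul_add, add_mul, ← mul_assoc, haa, zero_mul, zero_add, mul_assoc b a a, haa, mul_zero,
      add_zero, mul_assoc]
  have hzb : b * z = z * b := by
    rw [hz, mul_add, add_mul, ← mul_assoc b b a, hbb, zero_mul, add_zero, mul_assoc a b b, hbb,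
      mul_zero, zero_add, mul_assoc]
  have hρx : ρ x = a + 1 := by rw [ha]; abel
  have hρy : ρ y = b + 1 := by rw [hb]; abel
  have hzg : ∀ g, ρ g * z = z * ρ g := by
    apply commute_of_gens ρ x y hgen
    · rw [hρx, add_mul, mul_add, hza, one_mul, mul_one]
    · rw [hρy, add_mul, mul_add, hzb, one_mul, mul_one]
  set Kz : Subalgebra k (Module.End k V) := Algebra.adjoin k {z} with hKz
  have hKg : ∀ c ∈ Kz, ∀ g, ρ g * c = c * ρ g := by
    intro c hc g
    have hle : Kz ≤ Subalgebra.centralizer k {ρ g} := by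
      apply Algebra.adjoin_le
      intro t ht
      rw [Set.mem_singleton_iff.mp ht]
      rw [SetLike.mem_coe, Subalgebra.mem_centralizer_iff]
      intro s hs
      rw [Set.mem_singleton_iff.mp hs]
      exact hzg g
    exact (Subalgebra.mem_centralizer_iff k).mp (hle hc) _ rfl
  have hker : ∀ c ∈ Kz, c = 0 ∨ Function.Injective c := by
    intro c hc
    rcases hirr (LinearMap.ker c) (by
      intro g v hv
      rw [Submodule.mem_comap, LinearMap.mem_ker, ← Module.End.mul_apply, ← hKg c hc g,
        Module.End.mul_apply, LinearMap.mem_ker.mp hv, map_zero]) with h | h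
    · right; exact LinearMap.ker_eq_bot.mp h
    · left; exact LinearMap.ker_eq_top.mp h
  letI iC : CommRing Kz := Algebra.adjoinCommRingOfComm k (by
    intro s hs t ht
    rw [Set.mem_singleton_iff.mp hs, Set.mem_singleton_iff.mp ht])
  haveI : Finite (Module.End k V) :=
    Finite.of_injective (fun f : Module.End k V => (f : V → V)) DFunLike.coe_injective
  haveI : Finite Kz := inferInstance
  haveI : IsDomain Kz := by
    haveI : NoZeroDivisors Kz := ⟨by
      intro s t hst
      rcases hker s s.2 with h | h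
      · left; exact Subtype.ext h
      · right
        apply Subtype.ext
        ext v
        apply h
        have := congrArg (fun c : Kz => (c : Module.End k V) v) hst
        simpa using this⟩
    exact NoZeroDivisors.to_isDomain Kz
  letI iF : Field Kz := (Finite.isField_of_domain Kz).toField
  have hsm : ∀ (c : Kz) (v : V), c • v = (c : Module.End k V) v := fun c v => rfl
  obtain ⟨u, hu0, hxu⟩ := exists_fixed_of_quad ρ x hx
  set w : V := ρ y u - u with hw
  set l : Kz := ⟨z, Algebra.subset_adjoin rfl⟩ with hl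
  have hau : a u = 0 := by rw [ha, LinearMap.sub_apply, Module.End.one_apply, hxu, sub_self]
  have hbu : b u = w := by rw [hb, LinearMap.sub_apply, Module.End.one_apply]
  have hbw : b w = 0 := by rw [← hbu, ← Module.End.mul_apply, hbb, LinearMap.zero_apply]
  have haw : a w = z u := by
    rw [hz, LinearMap.add_apply, Module.End.mul_apply, Module.End.mul_apply, hau, map_zero, add_zero,
      hbu]
  have hca : ∀ c ∈ Kz, ∀ v, a (c v) = c (a v) := by
    intro c hc v
    have := hKg c hc x
    rw [ha, LinearMap.sub_apply, LinearMap.sub_apply, Module.End.one_apply, Module.End.one_apply,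
      map_sub, ← Module.End.mul_apply, this, Module.End.mul_apply]
  have hcb : ∀ c ∈ Kz, ∀ v, b (c v) = c (b v) := by
    intro c hc v
    have := hKg c hc y
    rw [hb, LinearMap.sub_apply, LinearMap.sub_apply, Module.End.one_apply, Module.End.one_apply,
      map_sub, ← Module.End.mul_apply, this, Module.End.mul_apply]
  -- the span
  set U : Submodule k V :=
    { carrier := {v | ∃ c₁ c₂ : Kz, v = c₁ • u + c₂ • w}
      add_mem' := by
        rintro _ _ ⟨c₁, c₂, rfl⟩ ⟨d₁, d₂, rfl⟩
        exact ⟨c₁ + d₁, c₂ + d₂, by rw [add_smul, add_smul]; abel⟩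
      zero_mem' := ⟨0, 0, by simp⟩
      smul_mem' := by
        rintro r _ ⟨c₁, c₂, rfl⟩
        refine ⟨r • c₁, r • c₂, ?_⟩
        simp only [hsm, smul_add]
        rfl } with hU
  have hUmem : ∀ v, v ∈ U ↔ ∃ c₁ c₂ : Kz, v = c₁ • u + c₂ • w := fun v => Iff.rfl
  have hUa : ∀ v ∈ U, a v ∈ U := by
    rintro _ ⟨c₁, c₂, rfl⟩
    refine ⟨c₂ * l, 0, ?_⟩
    simp only [hsm, map_add]
    rw [hca _ c₁.2, hca _ c₂.2, hau, haw, map_zero, zero_add]
    simp [hl]
  have hUb : ∀ v ∈ U, b v ∈ U := by
    rintro _ ⟨c₁, c₂, rfl⟩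
    refine ⟨0, c₁, ?_⟩
    simp only [hsm, map_add]
    rw [hcb _ c₁.2, hcb _ c₂.2, hbu, hbw, map_zero, add_zero]
    simp
  have hUinv : ∀ g, U ≤ U.comap (ρ g) := by
    apply invariant_of_gens ρ x y hgen hx hy
    · intro v hv
      rw [hρx, LinearMap.add_apply, Module.End.one_apply]
      exact U.add_mem (hUa v hv) hv
    · intro v hv
      rw [hρy, LinearMap.add_apply, Module.End.one_apply]
      exact U.add_mem (hUb v hv) hv
  have hUtop : U = ⊤ := by
    rcases hirr U hUinv with h | h
    · exfalso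
      have : u ∈ U := ⟨1, 0, by simp⟩
      rw [h, Submodule.mem_bot] at this
      exact hu0 this
    · exact h
  have hsp : ∀ v : V, ∃ c₁ c₂ : Kz, v = c₁ • u + c₂ • w := by
    intro v
    exact (hUmem v).mp (hUtop ▸ Submodule.mem_top)
  have hl0 : l ≠ 0 := by
    intro h0
    have hz0 : z = 0 := congrArg Subtype.val h0
    apply hnp
    have ha0 : a = 0 := by
      ext v
      obtain ⟨c₁, c₂, rfl⟩ := hsp v
      simp only [hsm, map_add]
      rw [hca _ c₁.2, hca _ c₂.2, hau, haw, hz0]
      simp
    have hb0 : b = 0 := by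
      rcases hirr (LinearMap.ker b) (by
        apply invariant_of_gens ρ x y hgen hx hy
        · intro v hv
          rw [hρx, ha0, zero_add, Module.End.one_apply]; exact hv
        · intro v hv
          rw [hρy, LinearMap.add_apply, Module.End.one_apply, LinearMap.mem_ker.mp hv, zero_add]
          exact hv) with h | h
      · exfalso
        obtain ⟨u', hu', hyu'⟩ := exists_fixed_of_quad ρ y hy
        have : u' ∈ LinearMap.ker b := by
          rw [LinearMap.mem_ker, hb, LinearMap.sub_apply, Module.End.one_apply, hyu', sub_self]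
        rw [h, Submodule.mem_bot] at this
        exact hu' this
      · exact LinearMap.ker_eq_top.mp h
    have h1 : ρ = 1 := by
      apply MonoidHom.eq_of_eqOn_dense hgen
      intro g hg
      rcases hg with rfl | hg
      · rw [hρx, ha0, zero_add]; rfl
      · rw [Set.mem_singleton_iff.mp hg, hρy, hb0, zero_add]; rfl
    intro g
    exact ⟨0, fun v => by rw [h1]; rfl⟩
  haveI : CharP Kz p := charP_of_injective_algebraMap (algebraMap k Kz).injective p
  have hlin : ∀ (c : Kz) (g : X) (v : V), ρ g (c • v) = c • ρ g v := by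
    intro c g v
    rw [hsm, hsm, ← Module.End.mul_apply, hKg c c.2 g, Module.End.mul_apply]
  obtain ⟨π, h1, h2, hform⟩ := irr_abs' (K := Kz) ρ x y hgen hlin l hl0 u hu0 hxu (by
      show ρ x w = w + l • u
      rw [hρx, LinearMap.add_apply, Module.End.one_apply, haw, hsm, add_comm]) (hy u) hsp
  refine ⟨Kz, iF, inferInstance, inferInstance, l, π, hl0, h1, h2, ?_⟩
  intro g hg v
  obtain ⟨c₁, c₂, rfl⟩ := hsp v
  rw [map_add, hlin, hlin, (hform g).1, (hform g).2, hg]
  simp [hw]

theorem pActE_of_sub_quot {k : Type v} [Field k] {X : Type w} [Group X] {p : ℕ} [CharP k p] {V : Type u} [AddCommGroup V] [Module k V]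
    (ρ : Representation k X V) (U : Submodule k V) (hU : ∀ g, U ≤ U.comap (ρ g))
    (g : X) (h1 : PActE p (ρ.subrepresentation U hU) g) (h2 : PActE p (ρ.quotient U hU) g) :
    PActE p ρ g := by
  obtain ⟨n₁, hn₁⟩ := h1
  obtain ⟨n₂, hn₂⟩ := h2
  refine ⟨n₁ + n₂ + 1, fun v => ?_⟩
  set h := g ^ (p ^ (n₁ + n₂)) with hh
  have e1 : h = (g ^ (p ^ n₁)) ^ (p ^ n₂) := by rw [hh, pow_add, pow_mul]
  have e2 : h = (g ^ (p ^ n₂)) ^ (p ^ n₁) := by rw [hh, pow_add, mul_comm, pow_mul]
  have f1 : ∀ u ∈ U, ρ h u = u := by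
    intro u hu
    rw [e1]
    apply rep_pow_fix
    have := congrArg Subtype.val (hn₁ ⟨u, hu⟩)
    simpa using this
  have f2 : ∀ v : V, ρ h v - v ∈ U := by
    intro v
    have h3 : (ρ.quotient U hU) h (Submodule.Quotient.mk v) = Submodule.Quotient.mk v := by
      rw [e2]
      apply rep_pow_fix
      exact hn₂ _
    rw [Representation.quotient_apply, Submodule.mapQ_apply] at h3
    exact (Submodule.Quotient.eq U).mp h3
  have e3 : g ^ (p ^ (n₁ + n₂ + 1)) = h ^ p := by rw [hh, ← pow_mul, pow_succ]
  rw [e3, rep_pow_shift ρ h v (ρ h v - v) (by abel) (f1 _ (f2 v)) p]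
  have : (p : ℕ) • (ρ h v - v) = 0 := by
    rw [← Nat.cast_smul_eq_nsmul k, CharP.cast_eq_zero, zero_smul]
  rw [this, add_zero]

/-- Reduction to an irreducible constituent. -/
theorem exists_irr_constituent_elt {k : Type v} [Field k] {X : Type w} [Group X] {p : ℕ} [CharP k p] (c : X) : ∀ (n : ℕ) (V : Type u) [AddCommGroup V]
    [Module k V] [Finite V] (ρ : Representation k X V), Nat.card V = n → ¬ PActE p ρ c →
    ∃ (V' : Type u) (_ : AddCommGroup V') (_ : Module k V') (_ : Finite V')
      (ρ' : Representation k X V'), IrrRep ρ' ∧ ¬ PActE p ρ' c ∧ ∀ x, QuadOn ρ x → QuadOn ρ' x := by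
  intro n
  induction n using Nat.strong_induction_on with
  | _ n IH =>
    intro V _ _ _ ρ hn hnp
    by_cases hirr : IrrRep ρ
    · exact ⟨V, inferInstance, inferInstance, inferInstance, ρ, hirr, hnp, fun _ h => h⟩
    · unfold IrrRep at hirr
      push Not at hirr
      obtain ⟨U, hU, hbot, htop⟩ := hirr
      haveI : Finite (V ⧸ U) := Finite.of_surjective _ (Submodule.Quotient.mk_surjective U)
      have hmul : Nat.card U * Nat.card (V ⧸ U) = Nat.card V := by
        have := AddSubgroup.card_eq_card_quotient_mul_card_addSubgroup U.toAddSubgroup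
        rw [this, mul_comm]
        rfl
      have hU1 : 1 < Nat.card U := by
        haveI : Nontrivial U := Submodule.nontrivial_iff_ne_bot.mpr hbot
        exact Finite.one_lt_card
      have hQ1 : 1 < Nat.card (V ⧸ U) := by
        haveI : Nontrivial (V ⧸ U) := Submodule.Quotient.nontrivial_iff.mpr htop
        exact Finite.one_lt_card
      by_cases h1 : PActE p (ρ.subrepresentation U hU) c
      · by_cases h2 : PActE p (ρ.quotient U hU) c
        · exact absurd (pActE_of_sub_quot ρ U hU c h1 h2) hnp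
        · have hlt : Nat.card (V ⧸ U) < n := by
            rw [← hn, ← hmul]
            exact lt_mul_of_one_lt_left Nat.card_pos hU1
          obtain ⟨V', i1, i2, i3, ρ', a1, a2, a3⟩ := IH _ hlt (V ⧸ U) (ρ.quotient U hU) rfl h2
          exact ⟨V', i1, i2, i3, ρ', a1, a2, fun x hx => a3 x (quadOn_quot ρ U hU x hx)⟩
      · have hlt : Nat.card U < n := by
          rw [← hn, ← hmul]
          exact lt_mul_of_one_lt_right Nat.card_pos hQ1
        obtain ⟨V', i1, i2, i3, ρ', a1, a2, a3⟩ := IH _ hlt U (ρ.subrepresentation U hU) rfl h1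
        exact ⟨V', i1, i2, i3, ρ', a1, a2, fun x hx => a3 x (quadOn_sub ρ U hU x hx)⟩

/-- quadratic pairs: a homomorphism to `SL₂(K)` not killing a given non-`p`-acting element -/
theorem quad_pair_main_elt {p : ℕ} [Fact p.Prime] {k : Type v} [Field k] [CharP k p] {V : Type u}
    [AddCommGroup V] [Module k V] [Finite V] {X : Type w} [Group X] (ρ : Representation k X V)
    (x y : X) (hgen : Subgroup.closure {x, y} = ⊤) (hx : QuadOn ρ x)
    (hy : QuadOn ρ y) (c : X) (hnp : ¬ PActE p ρ c) :
    ∃ (K : Type u) (_ : Field K) (_ : Finite K) (_ : CharP K p) (l : K) (π : X →* SL2 K),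
      l ≠ 0 ∧ π x = tU l ∧ π y = sL 1 ∧ π c ≠ 1 := by
  obtain ⟨V', i1, i2, i3, ρ', h1, h2, h3⟩ := exists_irr_constituent_elt (p := p) c _ V ρ rfl hnp
  obtain ⟨K, j1, j2, j3, l, π, hl, e1, e2, e3⟩ := irr_case_faith ρ' x y hgen h1 (h3 x hx) (h3 y hy)
    (fun h => h2 (h c))
  refine ⟨K, j1, j2, j3, l, π, hl, e1, e2, ?_⟩
  intro hc
  exact h2 ⟨0, fun v => by rw [pow_zero, pow_one]; exact e3 c hc v⟩

end Cfsg.Agent.Lib.Helper5
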