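import Cfsg.Agent.Lib.Helper5.QP5

set_option autoImplicit false
set_option linter.style.haveILetI false

namespace Cfsg.Agent.Lib.Helper5

open Cfsg
open scoped commutatorElement

universe u

local notation "SL2" => Matrix.SpecialLinearGroup (Fin 2)

/-- Quadratic pairs on a normalized elementary abelian subgroup. -/
theorem quad_pair_normalizer {p : ℕ} [Fact p.Prime] {G : Type u} [Group G] (V : Subgroup G)
    [Finite V] (hVc : IsMulCommutative V) (hVp : ∀ v ∈ V, v ^ p = 1)
    (H : Subgroup G) (hHV : H ≤ Subgroup.normalizer (V : Set G)) (a b : G)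
    (hH : H = Subgroup.closure {a, b})
    (ha : ⁅⁅V, Subgroup.zpowers a⁆, Subgroup.zpowers a⁆ = ⊥)
    (hb : ⁅⁅V, Subgroup.zpowers b⁆, Subgroup.zpowers b⁆ = ⊥)
    (hnp : ¬ ∀ g ∈ H, ∃ n : ℕ, g ^ p ^ n ∈ Subgroup.centralizer (V : Set G)) :
    ∃ (K : Type u) (_ : Field K) (_ : Finite K) (_ : CharP K p) (l : K) (π : H →* SL2 K),
      l ≠ 0 ∧ tU l ∈ π.range ∧ sL 1 ∈ π.range := by
  have haH : a ∈ H := hH ▸ Subgroup.subset_closure (by simp)
  have hbH : b ∈ H := hH ▸ Subgroup.subset_closure (by simp)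
  letI : CommGroup V := { (inferInstance : Group V) with mul_comm := hVc.is_comm.comm }
  have hφ : ∀ (g : H) (v : V), (((V.normalizerMonoidHom.comp (Subgroup.inclusion hHV)) g v : V) : G)
      = (g : G) * v * (g : G)⁻¹ := fun _ _ => rfl
  obtain ⟨K, i1, i2, i3, l, π, h1, h2, h3⟩ := quad_pair_mulAut (p := p) (A := V)
    (fun v => Subtype.ext (by simpa using hVp v v.2))
    (V.normalizerMonoidHom.comp (Subgroup.inclusion hHV)) ⟨a, haH⟩ ⟨b, hbH⟩
    (closure_pair_top H a b hH haH hbH)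
    (by
      intro v
      apply Subtype.ext
      rw [hφ]
      simp only [div_eq_mul_inv, Subgroup.coe_mul, Subgroup.coe_inv, hφ]
      exact quad_elem V a ha v v.2)
    (by
      intro v
      apply Subtype.ext
      rw [hφ]
      simp only [div_eq_mul_inv, Subgroup.coe_mul, Subgroup.coe_inv, hφ]
      exact quad_elem V b hb v v.2)
    (by
      intro h
      apply hnp
      intro g hg
      obtain ⟨n, hn⟩ := h ⟨g, hg⟩
      refine ⟨n, ?_⟩
      rw [Subgroup.mem_centralizer_iff]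
      intro v hv
      have := congrArg Subtype.val (hn ⟨v, hv⟩)
      rw [hφ] at this
      simp only [Subgroup.coe_pow] at this
      calc v * g ^ p ^ n = (g ^ p ^ n * v * (g ^ p ^ n)⁻¹) * g ^ p ^ n := by rw [this]
        _ = g ^ p ^ n * v := by group)
  exact ⟨K, i1, i2, i3, l, π, h1, ⟨_, h2⟩, ⟨_, h3⟩⟩

theorem sylow_comm_of_sylow_comm {q : ℕ} [Fact q.Prime] {X : Type*} [Group X] [Finite X]
    (T : Sylow q X) (hT : IsMulCommutative T) (T' : Sylow q X) : IsMulCommutative T' := by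
  obtain ⟨g, hg⟩ := MulAction.exists_smul_eq X T T'
  rw [← hg]
  exact comm_map (MulAut.conj g).toMonoidHom hT

theorem quad_conj_normalizer {G : Type*} [Group G] (V : Subgroup G) {a : G} (h : G)
    (hh : h ∈ Subgroup.normalizer (V : Set G))
    (hq : ⁅⁅V, Subgroup.zpowers a⁆, Subgroup.zpowers a⁆ = ⊥) :
    ⁅⁅V, Subgroup.zpowers (h * a * h⁻¹)⁆, Subgroup.zpowers (h * a * h⁻¹)⁆ = ⊥ := by
  have h1 := congrArg (Subgroup.map (MulAut.conj h).toMonoidHom) hq
  rw [Subgroup.map_commutator, Subgroup.map_commutator, MonoidHom.map_zpowers, Subgroup.map_bot,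
    map_conj_eq_of_mem_normalizer hh] at h1
  exact h1

end Cfsg.Agent.Lib.Helper5
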