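import Mathlib

set_option autoImplicit false

namespace Cfsg.Agent.Lib.Helper5

universe u v w

variable {k : Type v} [Field k] {X : Type w} [Group X]

/-- `X` acts on `V` as a `p`-group. -/
def PAct (p : ℕ) {V : Type u} [AddCommGroup V] [Module k V] (ρ : Representation k X V) : Prop :=
  ∀ g : X, ∃ n : ℕ, ∀ v : V, ρ (g ^ (p ^ n)) v = v

/-- `x` acts quadratically. -/
def QuadOn {V : Type u} [AddCommGroup V] [Module k V] (ρ : Representation k X V) (x : X) : Prop :=
  ∀ v : V, ρ x (ρ x v - v) = ρ x v - v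

/-- irreducibility -/
def IrrRep {V : Type u} [AddCommGroup V] [Module k V] (ρ : Representation k X V) : Prop :=
  ∀ U : Submodule k V, (∀ g, U ≤ U.comap (ρ g)) → U = ⊥ ∨ U = ⊤

theorem rep_pow_fix {V : Type u} [AddCommGroup V] [Module k V] (ρ : Representation k X V) (h : X)
    (v : V) (hv : ρ h v = v) (n : ℕ) : ρ (h ^ n) v = v := by
  induction n with
  | zero => simp
  | succ n ih => rw [pow_succ, map_mul, Module.End.mul_apply, hv, ih]

theorem rep_pow_shift {V : Type u} [AddCommGroup V] [Module k V] (ρ : Representation k X V) (h : X)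
    (v d : V) (hv : ρ h v = v + d) (hd : ρ h d = d) (n : ℕ) : ρ (h ^ n) v = v + n • d := by
  induction n with
  | zero => simp
  | succ n ih =>
    rw [pow_succ, map_mul, Module.End.mul_apply, hv, map_add, ih, rep_pow_fix ρ h d hd, succ_nsmul,
      add_assoc]

theorem pAct_of_sub_quot {p : ℕ} [CharP k p] {V : Type u} [AddCommGroup V] [Module k V]
    (ρ : Representation k X V) (U : Submodule k V) (hU : ∀ g, U ≤ U.comap (ρ g))
    (h1 : PAct p (ρ.subrepresentation U hU)) (h2 : PAct p (ρ.quotient U hU)) : PAct p ρ := by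
  intro g
  obtain ⟨n₁, hn₁⟩ := h1 g
  obtain ⟨n₂, hn₂⟩ := h2 g
  refine ⟨n₁ + n₂ + 1, fun v => ?_⟩
  set h := g ^ (p ^ (n₁ + n₂)) with hh
  have e1 : h = (g ^ (p ^ n₁)) ^ (p ^ n₂) := by rw [hh, pow_add, pow_mul]
  have e2 : h = (g ^ (p ^ n₂)) ^ (p ^ n₁) := by rw [hh, pow_add, mul_comm, pow_mul]
  have f1 : ∀ u ∈ U, ρ h u = u := by
    intro u hu
    rw [e1]
    apply rep_pow_fix
    have := congrArg Subtype.val (hn₁ ⟨u, hu⟩)
    simpa using this
  have f2 : ∀ v : V, ρ h v - v ∈ U := by
    intro v
    have h3 : (ρ.quotient U hU) h (Submodule.Quotient.mk v) = Submodule.Quotient.mk v := by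
      rw [e2]
      apply rep_pow_fix
      exact hn₂ _
    rw [Representation.quotient_apply, Submodule.mapQ_apply] at h3
    exact (Submodule.Quotient.eq U).mp h3
  have e3 : g ^ (p ^ (n₁ + n₂ + 1)) = h ^ p := by rw [hh, ← pow_mul, pow_succ]
  rw [e3, rep_pow_shift ρ h v (ρ h v - v) (by abel) (f1 _ (f2 v)) p]
  have : (p : ℕ) • (ρ h v - v) = 0 := by
    rw [← Nat.cast_smul_eq_nsmul k, CharP.cast_eq_zero, zero_smul]
  rw [this, add_zero]

theorem quadOn_sub {V : Type u} [AddCommGroup V] [Module k V]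
    (ρ : Representation k X V) (U : Submodule k V) (hU : ∀ g, U ≤ U.comap (ρ g)) (x : X)
    (h : QuadOn ρ x) : QuadOn (ρ.subrepresentation U hU) x := by
  intro v
  apply Subtype.ext
  simpa using h v

theorem quadOn_quot {V : Type u} [AddCommGroup V] [Module k V]
    (ρ : Representation k X V) (U : Submodule k V) (hU : ∀ g, U ≤ U.comap (ρ g)) (x : X)
    (h : QuadOn ρ x) : QuadOn (ρ.quotient U hU) x := by
  intro v
  induction v using Submodule.Quotient.induction_on with
  | H v =>
    simp only [Representation.quotient_apply, Submodule.mapQ_apply]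
    rw [← Submodule.Quotient.mk_sub, Submodule.mapQ_apply, h v]

/-- Reduction to an irreducible constituent. -/
theorem exists_irr_constituent {p : ℕ} [CharP k p] : ∀ (n : ℕ) (V : Type u) [AddCommGroup V]
    [Module k V] [Finite V] (ρ : Representation k X V), Nat.card V = n → ¬ PAct p ρ →
    ∃ (V' : Type u) (_ : AddCommGroup V') (_ : Module k V') (_ : Finite V')
      (ρ' : Representation k X V'), IrrRep ρ' ∧ ¬ PAct p ρ' ∧ ∀ x, QuadOn ρ x → QuadOn ρ' x := by
  intro n
  induction n using Nat.strong_induction_on with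
  | _ n IH =>
    intro V _ _ _ ρ hn hnp
    by_cases hirr : IrrRep ρ
    · exact ⟨V, inferInstance, inferInstance, inferInstance, ρ, hirr, hnp, fun _ h => h⟩
    · unfold IrrRep at hirr
      push Not at hirr
      obtain ⟨U, hU, hbot, htop⟩ := hirr
      haveI : Finite (V ⧸ U) := Finite.of_surjective _ (Submodule.Quotient.mk_surjective U)
      have hmul : Nat.card U * Nat.card (V ⧸ U) = Nat.card V := by
        have := AddSubgroup.card_eq_card_quotient_mul_card_addSubgroup U.toAddSubgroup
        rw [this, mul_comm]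
        rfl
      have hU1 : 1 < Nat.card U := by
        haveI : Nontrivial U := Submodule.nontrivial_iff_ne_bot.mpr hbot
        exact Finite.one_lt_card
      have hQ1 : 1 < Nat.card (V ⧸ U) := by
        haveI : Nontrivial (V ⧸ U) := Submodule.Quotient.nontrivial_iff.mpr htop
        exact Finite.one_lt_card
      by_cases h1 : PAct p (ρ.subrepresentation U hU)
      · by_cases h2 : PAct p (ρ.quotient U hU)
        · exact absurd (pAct_of_sub_quot ρ U hU h1 h2) hnp
        · have hlt : Nat.card (V ⧸ U) < n := by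
            rw [← hn, ← hmul]
            exact lt_mul_of_one_lt_left Nat.card_pos hU1
          obtain ⟨V', i1, i2, i3, ρ', a1, a2, a3⟩ := IH _ hlt (V ⧸ U) (ρ.quotient U hU) rfl h2
          exact ⟨V', i1, i2, i3, ρ', a1, a2, fun x hx => a3 x (quadOn_quot ρ U hU x hx)⟩
      · have hlt : Nat.card U < n := by
          rw [← hn, ← hmul]
          exact lt_mul_of_one_lt_right Nat.card_pos hQ1
        obtain ⟨V', i1, i2, i3, ρ', a1, a2, a3⟩ := IH _ hlt U (ρ.subrepresentation U hU) rfl h1
        exact ⟨V', i1, i2, i3, ρ', a1, a2, fun x hx => a3 x (quadOn_sub ρ U hU x hx)⟩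

end Cfsg.Agent.Lib.Helper5
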