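import Cfsg.Agent.Lib.Helper5.QP1
import Cfsg.Agent.Lib.Helper5.SL2b

set_option autoImplicit false

namespace Cfsg.Agent.Lib.Helper5

local notation "SL2" => Matrix.SpecialLinearGroup (Fin 2)

/-- The two-dimensional core. -/
theorem core_sl2 {K : Type*} [Field K] {V : Type*} [AddCommGroup V] [Module K V] {X : Type*}
    [Group X] (σ : Representation K X V) (x y : X) (hgen : Subgroup.closure {x, y} = ⊤)
    (l : K) (u w : V) (hxu : σ x u = u) (hxw : σ x w = w + l • u) (hyu : σ y u = u + w)
    (hyw : σ y w = w) (hli : LinearIndependent K ![u, w])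
    (hsp : ⊤ ≤ Submodule.span K (Set.range ![u, w])) :
    ∃ π : X →* SL2 K, π x = tU l ∧ π y = sL 1 := by
  classical
  set B : Module.Basis (Fin 2) K V := Module.Basis.mk hli hsp with hB
  have hB0 : B 0 = u := by rw [hB, Module.Basis.mk_apply]; rfl
  have hB1 : B 1 = w := by rw [hB, Module.Basis.mk_apply]; rfl
  set M : X →* Matrix (Fin 2) (Fin 2) K :=
    ((LinearMap.toMatrixAlgEquiv B).toAlgHom.toRingHom.toMonoidHom).comp σ with hM
  have hMapp : ∀ g i j, M g i j = B.repr (σ g (B j)) i := by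
    intro g i j
    exact LinearMap.toMatrixAlgEquiv_apply B (σ g) i j
  have hMx : M x = !![1, l; 0, 1] := by
    apply ext2
    · rw [hMapp, hB0, hxu, ← hB0]; simp
    · rw [hMapp, hB1, hxw, ← hB0, ← hB1]; simp
    · rw [hMapp, hB0, hxu, ← hB0]; simp
    · rw [hMapp, hB1, hxw, ← hB0, ← hB1]; simp
  have hMy : M y = !![1, 0; 1, 1] := by
    apply ext2
    · rw [hMapp, hB0, hyu, ← hB0, ← hB1]; simp
    · rw [hMapp, hB1, hyw, ← hB1]; simp
    · rw [hMapp, hB0, hyu, ← hB0, ← hB1]; simp
    · rw [hMapp, hB1, hyw, ← hB1]; simp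
  have hdet : ∀ g, (M g).det = 1 := by
    have : (Matrix.detMonoidHom.comp M : X →* K) = 1 := by
      apply MonoidHom.eq_of_eqOn_dense hgen
      intro g hg
      rcases hg with rfl | hg
      · simp [hMx, Matrix.det_fin_two]
      · rw [Set.mem_singleton_iff.mp hg]
        simp [hMy, Matrix.det_fin_two]
    intro g
    exact DFunLike.congr_fun this g
  refine ⟨MonoidHom.mk' (fun g => (⟨M g, hdet g⟩ : SL2 K)) ?_, ?_, ?_⟩
  · intro g h
    apply Subtype.ext
    exact map_mul M g h
  · apply Subtype.ext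
    exact hMx
  · apply Subtype.ext
    exact hMy

theorem irr_abs {k : Type*} [Field k] {K : Type*} [Field K] {V : Type*} [AddCommGroup V]
    [Module k V] [Module K V] {X : Type*} [Group X] (ρ : Representation k X V) (x y : X)
    (hgen : Subgroup.closure {x, y} = ⊤)
    (hlin : ∀ (c : K) (g : X) (v : V), ρ g (c • v) = c • ρ g v)
    (l : K) (hl : l ≠ 0) (u : V) (hu : u ≠ 0) (hxu : ρ x u = u)
    (hz : ρ x (ρ y u - u) = (ρ y u - u) + l • u)
    (hyw : ρ y (ρ y u - u) = ρ y u - u)
    (hsp : ∀ v : V, ∃ c₁ c₂ : K, v = c₁ • u + c₂ • (ρ y u - u)) :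
    ∃ π : X →* SL2 K, π x = tU l ∧ π y = sL 1 := by
  set σ : Representation K X V :=
    { toFun := fun g => { toFun := ρ g, map_add' := map_add _, map_smul' := fun c v => hlin c g v }
      map_one' := by ext v; simp
      map_mul' := by intro g h; ext v; simp } with hσ
  have hσa : ∀ g v, σ g v = ρ g v := fun _ _ => rfl
  apply core_sl2 σ x y hgen l u (ρ y u - u)
  · exact hxu
  · exact hz
  · rw [hσa]; abel
  · exact hyw
  · rw [LinearIndependent.pair_iff]
    intro s t hst
    have h1 : ρ x (s • u + t • (ρ y u - u)) = 0 := by rw [hst, map_zero]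
    rw [map_add, hlin, hlin, hxu, hz, smul_add, ← add_assoc, hst, zero_add, smul_smul] at h1
    have ht : t = 0 := by
      rcases smul_eq_zero.mp h1 with h | h
      · exact (mul_eq_zero.mp h).resolve_right hl
      · exact absurd h hu
    rw [ht, zero_smul, add_zero] at hst
    exact ⟨(smul_eq_zero.mp hst).resolve_right hu, ht⟩
  · intro v _
    obtain ⟨c₁, c₂, rfl⟩ := hsp v
    apply Submodule.add_mem
    · exact Submodule.smul_mem _ _ (Submodule.subset_span ⟨0, rfl⟩)
    · exact Submodule.smul_mem _ _ (Submodule.subset_span ⟨1, rfl⟩)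

end Cfsg.Agent.Lib.Helper5
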