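import Cfsg.Agent.Lib.Helper5.QdU
import Cfsg.Agent.Lib.Helper5.QdU3
import Cfsg.Agent.Lib.Helper5.QD2


set_option autoImplicit false

namespace Cfsg.Agent.Lib.Helper5

open Matrix Matrix.SpecialLinearGroup Cfsg.Agent.Lib.Helper12 Cfsg.Agent.Lib.Helper13
open scoped MatrixGroups

variable {p : ℕ} [hp : Fact p.Prime] {X : Type*} [Group X]

theorem transvection_zero' {i j : Fin 2} (hij : i ≠ j) :
    SpecialLinearGroup.transvection hij (0 : ZMod p) = 1 := by
  have h := transvection_add hij (0 : ZMod p) 0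
  rw [add_zero] at h
  exact mul_eq_left.mp h.symm

theorem transvection_pow' {i j : Fin 2} (hij : i ≠ j) (c : ZMod p) (n : ℕ) :
    SpecialLinearGroup.transvection hij c ^ n = SpecialLinearGroup.transvection hij (n * c) := by
  induction n with
  | zero => simp
  | succ n ih =>
    rw [pow_succ, ih, ← transvection_add]
    congr 1
    push_cast; ring

theorem aff_hom_units_trivial (hp2 : p ≠ 2) (D : AffData p X) (χ : X →* ℤˣ) (x : X) : χ x = 1 := by
  have key : ∀ y : X, y ^ (p * p) = 1 → χ y = 1 := by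
    intro y hy
    have h1 : χ y ^ (p * p) = 1 := by rw [← map_pow, hy, map_one]
    have h2 : χ y ^ 2 = 1 := Int.units_sq _
    obtain ⟨k, hk⟩ : Odd (p * p) := (hp.out.odd_of_ne_two hp2).mul (hp.out.odd_of_ne_two hp2)
    rw [hk, pow_succ, pow_mul, h2, one_pow, one_mul] at h1
    exact h1
  have P : ∀ A : SL(2, ZMod p), ∀ y, D.β y = A → χ y = 1 := by
    intro A
    refine SL2.transvection_induction (fun A => ∀ y, D.β y = A → χ y = 1) ?_ ?_ A
    · intro i j hij c y hy
      apply key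
      have h1 : y ^ p ∈ D.β.ker := by
        show D.β (y ^ p) = 1
        rw [map_pow, hy, transvection_pow', CharP.cast_eq_zero, zero_mul, transvection_zero']
      obtain ⟨b, c', h2⟩ := D.mem_ker_iff.mp h1
      rw [pow_mul, h2, D.u_pow, CharP.cast_eq_zero, zero_mul, zero_mul, D.u_zero]
    · intro A B hA hB y hy
      obtain ⟨y1, h1⟩ := D.β_surjective A
      have h2 : D.β (y1⁻¹ * y) = B := by rw [map_mul, map_inv, h1, hy]; group
      have : y = y1 * (y1⁻¹ * y) := by group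
      rw [this, map_mul, hA y1 h1, hB _ h2, one_mul]
  exact P _ x rfl

theorem aff_embed_alt (hp2 : p ≠ 2) (D : AffData p X) (n : ℕ) (hn : p ^ 2 ≤ n) :
    ∃ H : Subgroup (alternatingGroup (Fin n)), Nonempty (H ≃* X) := by
  obtain ⟨ι⟩ : Nonempty (ZMod p × ZMod p ↪ Fin n) := by
    apply Function.Embedding.nonempty_of_card_le
    rw [Fintype.card_prod, ZMod.card, Fintype.card_fin]
    calc p * p = p ^ 2 := by ring
      _ ≤ n := hn
  obtain ⟨ψ, hψdef⟩ : ∃ ψ : X →* Equiv.Perm (Fin n),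
      ψ = (Equiv.Perm.viaEmbeddingHom ι).comp (affPerm D) := ⟨_, rfl⟩
  have hψ : Function.Injective ψ := by
    rw [hψdef]
    exact (Equiv.Perm.viaEmbeddingHom_injective ι).comp (affPerm_injective D)
  have hsign : ∀ x, Equiv.Perm.sign (ψ x) = 1 :=
    fun x => aff_hom_units_trivial hp2 D (Equiv.Perm.sign.comp ψ) x
  obtain ⟨ψ', hψ'⟩ : ∃ ψ' : X →* alternatingGroup (Fin n), ∀ x, ((ψ' x : _) : Equiv.Perm (Fin n)) = ψ x :=
    ⟨ψ.codRestrict _ (fun x => Equiv.Perm.mem_alternatingGroup.mpr (hsign x)), fun x => rfl⟩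
  have hinj : Function.Injective ψ' := by
    intro a b hab
    apply hψ
    rw [← hψ', ← hψ', hab]
  exact ⟨ψ'.range, ⟨(MonoidHom.ofInjective hinj).symm⟩⟩

/-- `p`-groups of permutations of fewer than `p²` points are abelian -/
theorem pgroup_perm_comm {α : Type*} [Finite α] (hα : Nat.card α < p ^ 2)
    (Q : Subgroup (Equiv.Perm α)) (hQ : IsPGroup p Q) : ∀ x ∈ Q, ∀ y ∈ Q, x * y = y * x := by
  intro x hx y hy
  have hpp := hp.out
  ext a
  obtain ⟨S, hS⟩ : ∃ S : Subgroup Q, S = MulAction.stabilizer Q a := ⟨_, rfl⟩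
  have hidx : S.index = 1 ∨ S.index = p := by
    obtain ⟨k, hk⟩ := hQ.index S
    have h1 : S.index ≤ Nat.card α := by
      rw [hS, MulAction.index_stabilizer]
      exact Set.ncard_le_card _
    have hk1 : k ≤ 1 := by
      by_contra hcon
      have h2 : p ^ 2 ≤ p ^ k := Nat.pow_le_pow_right hpp.pos (by omega)
      omega
    interval_cases k
    · left; simpa using hk
    · right; simpa using hk
  have hmem : ((⟨x, hx⟩ : Q) * ⟨y, hy⟩)⁻¹ * ((⟨y, hy⟩ : Q) * ⟨x, hx⟩) ∈ S := by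
    rcases hidx with h | h
    · rw [Subgroup.index_eq_one] at h
      rw [h]; trivial
    · have hn : S.Normal := by
        apply Subgroup.normal_of_index_eq_minFac_card
        obtain ⟨m, hm⟩ := IsPGroup.iff_card.mp hQ
        have hm0 : m ≠ 0 := by
          rintro rfl
          have h3 := S.index_dvd_card
          rw [hm, pow_zero, h] at h3
          exact hpp.one_lt.ne' (Nat.dvd_one.mp h3)
        rw [h, hm, hpp.pow_minFac hm0]
      have hc : Nat.card (Q ⧸ S) = p := h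
      have hcyc : IsCyclic (Q ⧸ S) := isCyclic_of_prime_card hc
      have hcomm : ((⟨x, hx⟩ : Q) : Q ⧸ S) * ((⟨y, hy⟩ : Q) : Q ⧸ S) =
          ((⟨y, hy⟩ : Q) : Q ⧸ S) * ((⟨x, hx⟩ : Q) : Q ⧸ S) := by
        let _ := IsCyclic.commGroup (α := Q ⧸ S)
        exact mul_comm _ _
      rw [← QuotientGroup.eq]
      exact hcomm
  rw [hS, MulAction.mem_stabilizer_iff] at hmem
  have h4 : ((x * y)⁻¹ * (y * x)) a = a := hmem
  have h5 : (x * y) (((x * y)⁻¹ * (y * x)) a) = (y * x) a := by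
    simp [Equiv.Perm.mul_apply]
  rw [h4] at h5
  exact h5

theorem aff_not_inv_of_comm {G : Type*} [Group G] [Finite G] (D : AffData p X)
    (hG : ∀ Q : Subgroup G, IsPGroup p Q → ∀ x ∈ Q, ∀ y ∈ Q, x * y = y * x) : ¬ Inv X G := by
  rintro ⟨K, f, hf⟩
  obtain ⟨Q⟩ : Nonempty (Sylow p K) := inferInstance
  haveI : Finite X := Finite.of_surjective f hf
  obtain ⟨D', hD'⟩ := aff_exists_U D (Q.mapSurjective hf)
  have h1 : D'.u 1 0 0 ∈ (Q : Subgroup K).map f := by
    rw [← Sylow.coe_mapSurjective hf, hD']; exact D'.u_mem _ _ _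
  have h2 : D'.u 0 1 0 ∈ (Q : Subgroup K).map f := by
    rw [← Sylow.coe_mapSurjective hf, hD']; exact D'.u_mem _ _ _
  obtain ⟨a, ha, hau⟩ := h1
  obtain ⟨b, hb, hbu⟩ := h2
  have hab : (a : G) * b = b * a :=
    hG ((Q : Subgroup K).map K.subtype) (Q.2.map _) a ⟨a, ha, rfl⟩ b ⟨b, hb, rfl⟩
  have hab' : a * b = b * a := Subtype.ext hab
  have h3 := congrArg f hab'
  rw [map_mul, map_mul, hau, hbu, D'.u_mul, D'.u_mul] at h3
  have h4 := (D'.u_inj h3).2.2
  simp at h4

theorem aff_not_inv_alt (D : AffData p X) (n : ℕ) (hn : n < p ^ 2) :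
    ¬ Inv X (alternatingGroup (Fin n)) := by
  apply aff_not_inv_of_comm D
  intro Q hQ x hx y hy
  apply Subtype.ext
  exact pgroup_perm_comm (p := p) (by rwa [Nat.card_fin]) (Q.map (alternatingGroup (Fin n)).subtype)
    (hQ.map _) x ⟨x, hx, rfl⟩ y ⟨y, hy, rfl⟩

end Cfsg.Agent.Lib.Helper5
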