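import Cfsg.Agent.Lib.Helper13.QdNeg
import Cfsg.Agent.Lib.Helper13.QdData
import Cfsg.Agent.Lib.Helper1.Frattini

set_option autoImplicit false

namespace Cfsg.Agent.Lib.Helper5

open Matrix Matrix.SpecialLinearGroup Cfsg.Agent.Lib.Helper12 Cfsg.Agent.Lib.Helper13
open scoped MatrixGroups

variable {p : ℕ} [hp : Fact p.Prime] {X : Type*} [Group X]

/-- every Sylow `p`-subgroup is the unitriangular group of suitable affine coordinates -/
theorem aff_exists_U [Finite X] (D : AffData p X) (T : Sylow p X) :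
    ∃ D' : AffData p X, (T : Subgroup X) = D'.U := by
  obtain ⟨g, hg⟩ := MulAction.exists_smul_eq X (D.U_isPGroup.toSylow D.U_index) T
  refine ⟨D.comp (MulAut.conj g⁻¹), ?_⟩
  have h1 : ((g • (D.U_isPGroup.toSylow D.U_index) : Sylow p X) : Subgroup X) = T := by
    rw [hg]
  rw [← h1]
  ext x
  have h2 : ((g • (D.U_isPGroup.toSylow D.U_index) : Sylow p X) : Subgroup X) =
      D.U.map (MulAut.conj g).toMonoidHom := rfl
  rw [h2]
  constructor
  · rintro ⟨y, hy, rfl⟩
    show D.β (MulAut.conj g⁻¹ (MulAut.conj g y)) ∈ slU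
    have : MulAut.conj g⁻¹ (MulAut.conj g y) = y := by simp [MulAut.conj_apply, mul_assoc]
    rw [this]; exact hy
  · intro hx
    refine ⟨MulAut.conj g⁻¹ x, hx, ?_⟩
    simp [MulAut.conj_apply, mul_assoc]

theorem aff_mem_normalizer_U (D : AffData p X) (n : X) :
    n ∈ Subgroup.normalizer (D.U : Set X) ↔ D.β n 1 0 = 0 := by
  constructor
  · intro hn
    have h1 : n * D.u 1 0 0 * n⁻¹ ∈ D.U := (Subgroup.mem_normalizer_iff.mp hn _).mp (D.u_mem 1 0 0)
    have h2 : D.β (n * D.u 1 0 0 * n⁻¹) ∈ slU := h1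
    rw [map_mul, map_mul, map_inv, AffData.β_u] at h2
    have h3 := ((mem_slU_iff _).mp h2).2.1
    simp only [sl2_mul_10, sl2_mul_11, sl2_inv_00, sl2_inv_10, tU_00, tU_01, tU_10, tU_11] at h3
    have h4 : D.β n 1 0 * D.β n 1 0 = 0 := by linear_combination -h3
    exact mul_self_eq_zero.mp h4
  · intro h
    have h1 := mem_normalizer_slU (D.β n) h
    rw [Subgroup.mem_normalizer_iff] at h1 ⊢
    intro x
    have h2 := h1 (D.β x)
    show D.β x ∈ slU ↔ D.β (n * x * n⁻¹) ∈ slU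
    rw [map_mul, map_mul, map_inv]
    exact h2

theorem aff_normalizer_U_ne_top (D : AffData p X) : Subgroup.normalizer (D.U : Set X) ≠ ⊤ := by
  intro h
  obtain ⟨g, hg, -, -⟩ := D.surj (tL 1) 0 0
  have h1 : g ∈ Subgroup.normalizer (D.U : Set X) := h ▸ Subgroup.mem_top g
  rw [aff_mem_normalizer_U, hg, tL_10] at h1
  exact one_ne_zero h1

theorem aff_normalizer_char (D : AffData p X) {C : Subgroup X} (hCU : C ≤ D.U)
    (hchar : ∀ φ : D.U ≃* D.U, ∀ x : D.U, (x : X) ∈ C → ((φ x : D.U) : X) ∈ C) (hne : C ≠ ⊥) :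
    Subgroup.normalizer (C : Set X) = Subgroup.normalizer (D.U : Set X) := by
  apply le_antisymm
  · intro n hn
    rw [aff_mem_normalizer_U]
    have h1 := D.t1_conj_eq_zero hCU hchar hne n hn 1
    have hz : D.β (D.u 0 0 1) = 1 := D.mem_ker_iff.mpr ⟨0, 1, rfl⟩
    rw [D.t1_conj n _ hz, AffData.t0_u, AffData.t1_u] at h1
    simpa using h1
  · intro n hn
    have key : ∀ m ∈ Subgroup.normalizer (D.U : Set X), ∀ x ∈ C, m * x * m⁻¹ ∈ C := by
      intro m hm x hx
      exact hchar (D.U.normalizerMonoidHom ⟨m, hm⟩) ⟨x, hCU hx⟩ hx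
    rw [Subgroup.mem_normalizer_iff]
    intro x
    refine ⟨key n hn x, fun hx => ?_⟩
    have := key n⁻¹ (Subgroup.inv_mem _ hn) _ hx
    have e : n⁻¹ * (n * x * n⁻¹) * n⁻¹⁻¹ = x := by group
    rwa [e] at this

theorem aff_normalizer_char' (D : AffData p X) (S' : Subgroup X) (h : S' = D.U) (T : Subgroup S')
    (hT : T ≠ ⊥) (hTc : T.Characteristic) :
    Subgroup.normalizer ((T.map S'.subtype : Subgroup X) : Set X) = Subgroup.normalizer (S' : Set X) ∧
      Subgroup.normalizer (S' : Set X) ≠ ⊤ := by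
  subst h
  refine ⟨?_, aff_normalizer_U_ne_top D⟩
  apply aff_normalizer_char D (Subgroup.map_subtype_le T)
  · rintro φ x ⟨y, hy, hyx⟩
    have : y = x := Subtype.ext hyx
    subst this
    refine ⟨φ y, ?_, rfl⟩
    have h1 := Subgroup.characteristic_iff_map_eq.mp hTc φ
    rw [← h1]
    exact ⟨y, hy, rfl⟩
  · intro h
    apply hT
    rwa [Subgroup.map_eq_bot_iff_of_injective _ (Subgroup.subtype_injective _)] at h

end Cfsg.Agent.Lib.Helper5
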