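import Cfsg.Agent.Lib.Helper5.QuadStab

set_option autoImplicit false

namespace Cfsg.Agent.Lib.Helper5

open Cfsg
open scoped commutatorElement

theorem sup_sylow_eq_top {X : Type*} [Group X] [Finite X] {p : ℕ} [Fact p.Prime] (K : Subgroup X)
    (hK : ∃ k, K.index = p ^ k) (T : Sylow p X) : K ⊔ (T : Subgroup X) = ⊤ := by
  rw [← Subgroup.index_eq_one]
  obtain ⟨k, hk⟩ := hK
  have h1 : (K ⊔ (T : Subgroup X)).index ∣ p ^ k := hk ▸ Subgroup.index_dvd_of_le le_sup_left
  obtain ⟨j, -, hj⟩ := (Nat.dvd_prime_pow Fact.out).mp h1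
  rcases Nat.eq_zero_or_pos j with h0 | hpos
  · rw [hj, h0, pow_zero]
  · exfalso
    apply T.not_dvd_index
    refine dvd_trans ?_ (Subgroup.index_dvd_of_le (le_sup_right : (T : Subgroup X) ≤ K ⊔ T))
    rw [hj]; exact dvd_pow_self p hpos.ne'

/-- If `X / K` is a `p`-group and the `p`-element `a` centralizes `K` modulo `O_p(X)`, then
`a ∈ O_p(X)`. -/
theorem mem_pCore_of_comm {X : Type*} [Group X] [Finite X] {p : ℕ} [Fact p.Prime]
    (K : Subgroup X) [hKn : K.Normal] (hK : ∃ k, K.index = p ^ k) (a : X)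
    (ha : ∃ k : ℕ, a ^ (p ^ k) = 1) (hKa : ∀ y ∈ K, ⁅y, a⁆ ∈ pCore p X) : a ∈ pCore p X := by
  have hap : IsPGroup p (Subgroup.zpowers a) := by
    obtain ⟨k, hk⟩ := ha
    rintro ⟨_, i, rfl⟩
    refine ⟨k, Subtype.ext ?_⟩
    show (a ^ i) ^ (p ^ k) = 1
    rw [← zpow_natCast, ← zpow_mul, mul_comm, zpow_mul, zpow_natCast, hk, one_zpow]
  obtain ⟨T, hT⟩ := hap.exists_le_sylow
  have haT : a ∈ (T : Subgroup X) := hT (Subgroup.mem_zpowers a)
  obtain ⟨R, hR⟩ : ∃ R, R = pCore p X := ⟨_, rfl⟩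
  haveI hRn : R.Normal := by rw [hR]; infer_instance
  rw [← hR] at hKa ⊢
  have hRT : R ≤ (T : Subgroup X) := hR ▸ pCore_le_sylow T
  haveI : (K.map (QuotientGroup.mk' R)).Normal :=
    Subgroup.Normal.map hKn _ (QuotientGroup.mk'_surjective R)
  obtain ⟨D, hD⟩ : ∃ D, D = (Subgroup.centralizer
    ((K.map (QuotientGroup.mk' R) : Subgroup (X ⧸ R)) : Set (X ⧸ R))).comap (QuotientGroup.mk' R) :=
    ⟨_, rfl⟩
  haveI hDn : D.Normal := by rw [hD]; infer_instance
  have hDmem : ∀ g, g ∈ D ↔ ∀ y ∈ K, ⁅y, g⁆ ∈ R := by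
    intro g
    rw [hD, Subgroup.mem_comap, Subgroup.mem_centralizer_iff]
    constructor
    · intro h y hy
      rw [← QuotientGroup.eq_one_iff, ← QuotientGroup.mk'_apply, map_commutatorElement,
        commutatorElement_eq_one_iff_mul_comm]
      exact h _ (Subgroup.mem_map_of_mem _ hy)
    · rintro h _ ⟨y, hy, rfl⟩
      have := h y hy
      rw [← QuotientGroup.eq_one_iff, ← QuotientGroup.mk'_apply, map_commutatorElement,
        commutatorElement_eq_one_iff_mul_comm] at this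
      exact this
  have hRD : R ≤ D := by
    intro r hr
    rw [hDmem]
    intro y _
    have : ⁅y, r⁆ = (y * r * y⁻¹) * r⁻¹ := by simp only [commutatorElement_def]
    rw [this]
    exact mul_mem (hRn.conj_mem r hr y) (inv_mem hr)
  obtain ⟨P₁, hP₁⟩ : ∃ P₁, P₁ = (T : Subgroup X) ⊓ D := ⟨_, rfl⟩
  have hRP : R ≤ P₁ := hP₁ ▸ le_inf hRT hRD
  have hn : Subgroup.normalizer (P₁ : Set X) = ⊤ := by
    rw [eq_top_iff, ← sup_sylow_eq_top K hK T]
    apply sup_le
    · intro k hk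
      apply mem_normalizer_of_conj_le
      intro u hu
      have hu' : u ∈ D := by rw [hP₁] at hu; exact (Subgroup.mem_inf.mp hu).2
      have e : k * u * k⁻¹ = ⁅k, u⁆ * u := by simp only [commutatorElement_def]; group
      rw [e]
      exact mul_mem (hRP ((hDmem u).mp hu' k hk)) hu
    · intro t ht
      apply mem_normalizer_of_conj_le
      intro u hu
      rw [hP₁] at hu ⊢
      obtain ⟨h1, h2⟩ := Subgroup.mem_inf.mp hu
      exact Subgroup.mem_inf.mpr ⟨mul_mem (mul_mem ht h1) (inv_mem ht), hDn.conj_mem u h2 t⟩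
  have hP₁n : P₁.Normal := Subgroup.normalizer_eq_top_iff.mp hn
  have hP₁p : IsPGroup p P₁ := T.2.to_le (hP₁ ▸ inf_le_left)
  rw [hR]
  apply le_pCore hP₁n hP₁p
  rw [hP₁]
  exact Subgroup.mem_inf.mpr ⟨haT, (hDmem a).mpr hKa⟩

/-- A quadratically acting element acts as a `p`-element. -/
theorem pow_card_mem_centralizer_of_quad {G : Type*} [Group G] (V : Subgroup G) [hVn : V.Normal]
    (a : G) (hq : ⁅⁅V, Subgroup.zpowers a⁆, Subgroup.zpowers a⁆ = ⊥) :
    a ^ Nat.card V ∈ Subgroup.centralizer (V : Set G) := by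
  rw [Subgroup.mem_centralizer_iff]
  intro v hv
  have m1 : ⁅a, v⁆ ∈ ⁅V, Subgroup.zpowers a⁆ := by
    rw [Subgroup.commutator_comm]
    exact Subgroup.commutator_mem_commutator (Subgroup.mem_zpowers a) hv
  have m2 : ⁅a, ⁅a, v⁆⁆ ∈ ⁅⁅V, Subgroup.zpowers a⁆, Subgroup.zpowers a⁆ := by
    rw [Subgroup.commutator_comm]
    exact Subgroup.commutator_mem_commutator (Subgroup.mem_zpowers a) m1
  rw [hq, Subgroup.mem_bot, commutatorElement_eq_one_iff_mul_comm] at m2
  have hw : ⁅a, v⁆ ∈ V := by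
    have : ⁅a, v⁆ = (a * v * a⁻¹) * v⁻¹ := by simp only [commutatorElement_def]
    rw [this]
    exact mul_mem (hVn.conj_mem v hv a) (inv_mem hv)
  have h1 : a * v * a⁻¹ = ⁅a, v⁆ * v := by simp only [commutatorElement_def]; group
  have h2 : a * ⁅a, v⁆ * a⁻¹ = ⁅a, v⁆ := by rw [m2]; group
  have h3 := pow_conj a v _ h1 h2 (Nat.card V)
  have h4 : ⁅a, v⁆ ^ Nat.card V = 1 :=
    congrArg Subtype.val (pow_card_eq_one' (x := (⟨_, hw⟩ : V)))
  rw [h4, one_mul] at h3
  calc v * a ^ Nat.card V = (a ^ Nat.card V * v * (a ^ Nat.card V)⁻¹) * a ^ Nat.card V := by rw [h3]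
    _ = a ^ Nat.card V * v := by group

/-- `p`-stability of groups with a normal series `p`-group, abelian `p'`-group, `p`-group. -/
theorem stable_of_series {G : Type*} [Group G] [Finite G] {p : ℕ} [Fact p.Prime] (hp : p ≠ 2)
    (H K V : Subgroup G) [hHn : H.Normal] [hKn : K.Normal] [hVn : V.Normal]
    (hH : IsPGroup p H) (hKH : ⁅K, K⁆ ≤ H) (hcop : (H.relIndex K).Coprime p)
    (hK : ∃ k, K.index = p ^ k) (hV : IsPGroup p V) (a : G)
    (hq : ⁅⁅V, Subgroup.zpowers a⁆, Subgroup.zpowers a⁆ = ⊥) :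
    (QuotientGroup.mk a : G ⧸ Subgroup.centralizer (V : Set G)) ∈
      pCore p (G ⧸ Subgroup.centralizer (V : Set G)) := by
  obtain ⟨C, hC⟩ : ∃ C, C = Subgroup.centralizer (V : Set G) := ⟨_, rfl⟩
  have hs := QuotientGroup.mk'_surjective (Subgroup.centralizer (V : Set G))
  haveI : (K.map (QuotientGroup.mk' (Subgroup.centralizer (V : Set G)))).Normal :=
    Subgroup.Normal.map hKn _ hs
  obtain ⟨m, hm⟩ := IsPGroup.iff_card.mp hV
  apply mem_pCore_of_comm (K.map (QuotientGroup.mk' (Subgroup.centralizer (V : Set G))))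
  · obtain ⟨k, hk⟩ := hK
    have h1 := Subgroup.index_map_dvd K hs
    rw [hk] at h1
    obtain ⟨j, -, hj⟩ := (Nat.dvd_prime_pow Fact.out).mp h1
    exact ⟨j, hj⟩
  · refine ⟨m, ?_⟩
    rw [← hm, ← QuotientGroup.mk_pow]
    exact (QuotientGroup.eq_one_iff _).mpr (pow_card_mem_centralizer_of_quad V a hq)
  · rintro _ ⟨y, hy, rfl⟩
    have goal' : ⁅y, a⁆ ∈ stabCore p V := by
      obtain ⟨S, hS⟩ : ∃ S, S = stabCore p V := ⟨_, rfl⟩
      haveI hSn : S.Normal := by rw [hS]; infer_instance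
      rw [← hS]
      obtain ⟨Da, hDa⟩ : ∃ Da, Da = (Subgroup.centralizer
        ({QuotientGroup.mk' S a} : Set (G ⧸ S))).comap (QuotientGroup.mk' S) := ⟨_, rfl⟩
      have hmem : ∀ g, g ∈ Da ↔ ⁅g, a⁆ ∈ S := by
        intro g
        rw [hDa, Subgroup.mem_comap, Subgroup.mem_centralizer_singleton_iff,
          ← QuotientGroup.eq_one_iff, ← QuotientGroup.mk'_apply, map_commutatorElement,
          commutatorElement_eq_one_iff_mul_comm]
      rw [← hmem]
      have hHS : H ≤ S := by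
        rw [hS]
        apply le_stabCore V H
        intro h hh
        obtain ⟨k, hk⟩ := hH ⟨h, hh⟩
        refine ⟨k, ?_⟩
        have : h ^ (p ^ k) = 1 := congrArg Subtype.val hk
        rw [this]; exact one_mem _
      have hSD : S ≤ Da := by
        intro s hs'
        rw [hmem]
        have : ⁅s, a⁆ = s * (a * s⁻¹ * a⁻¹) := by simp only [commutatorElement_def]; group
        rw [this]
        exact mul_mem hs' (hSn.conj_mem _ (inv_mem hs') a)
      refine mem_of_pow_mem_of_coprime Da (m := Nat.card V) (r := H.relIndex K) ?_ ?_ ?_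
      · rw [hm]; exact (Nat.Coprime.pow_right m hcop).symm
      · rw [hmem, hS]
        exact quad_comm_mem hp _ G H K V rfl hH hKH hV a y hq hy
      · exact hSD (hHS (Subgroup.pow_relIndex_mem H hy))
    have e : ⁅(QuotientGroup.mk' (Subgroup.centralizer (V : Set G))) y,
        (QuotientGroup.mk a : G ⧸ Subgroup.centralizer (V : Set G))⁆ =
        QuotientGroup.mk' (Subgroup.centralizer (V : Set G)) ⁅y, a⁆ := by
      rw [map_commutatorElement]; rfl
    rw [e]
    exact goal'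

end Cfsg.Agent.Lib.Helper5
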