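import Cfsg.Agent.Lib.Helper5.SF1

set_option autoImplicit false
set_option linter.style.haveILetI false
set_option linter.unusedSectionVars false

namespace Cfsg.Agent.Lib.Helper5

open Cfsg Cfsg.Agent.Lib.Helper17

universe u

variable {X : Type u} [Group X]

theorem comm_mod_sup_right (N : Subgroup X) [N.Normal] (g : X) {H K : Subgroup X}
    (hH : ∀ n ∈ H, g * n * g⁻¹ * n⁻¹ ∈ N) (hK : ∀ n ∈ K, g * n * g⁻¹ * n⁻¹ ∈ N) :
    ∀ n ∈ H ⊔ K, g * n * g⁻¹ * n⁻¹ ∈ N := by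
  rw [← mem_comap_centralizer_map_iff] at hH hK ⊢
  rw [Subgroup.map_sup, centralizer_sup, Subgroup.comap_inf]
  exact ⟨hH, hK⟩

theorem comm_mod_sup_left (N Y : Subgroup X) [N.Normal] {H K : Subgroup X}
    (hH : ∀ g ∈ H, ∀ n ∈ Y, g * n * g⁻¹ * n⁻¹ ∈ N)
    (hK : ∀ g ∈ K, ∀ n ∈ Y, g * n * g⁻¹ * n⁻¹ ∈ N) :
    ∀ g ∈ H ⊔ K, ∀ n ∈ Y, g * n * g⁻¹ * n⁻¹ ∈ N := by
  intro g hg
  rw [← mem_comap_centralizer_map_iff]
  have h1 : H ≤ (Subgroup.centralizer ((Y.map (QuotientGroup.mk' N) : Subgroup (X ⧸ N)) :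
      Set (X ⧸ N))).comap (QuotientGroup.mk' N) :=
    fun g hg => (mem_comap_centralizer_map_iff N Y g).mpr (hH g hg)
  have h2 : K ≤ (Subgroup.centralizer ((Y.map (QuotientGroup.mk' N) : Subgroup (X ⧸ N)) :
      Set (X ⧸ N))).comap (QuotientGroup.mk' N) :=
    fun g hg => (mem_comap_centralizer_map_iff N Y g).mpr (hK g hg)
  exact sup_le h1 h2 hg

/-- if `b` moves `u` by a central element and `A, Q` centralize `u`, where `⟨A, b, Q⟩` is the
whole group, then every conjugate of `A` centralizes `u` -/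
theorem centralizes_of_central_comm [Finite X] {Q A B : Subgroup X} {u b : X}
    (htop : A ⊔ Subgroup.zpowers b ⊔ Q = ⊤)
    (hconj : ∃ g : X, B = A.map (MulAut.conj g).toMonoidHom)
    (huA : u ∈ Subgroup.centralizer (A : Set X)) (huQ : u ∈ Subgroup.centralizer (Q : Set X))
    (hc : ∀ y : X, y * (b * u * b⁻¹ * u⁻¹) = (b * u * b⁻¹ * u⁻¹) * y) :
    u ∈ Subgroup.centralizer (B : Set X) := by
  obtain ⟨N, hN⟩ : ∃ N, N = Subgroup.centralizer ({u} : Set X) := ⟨_, rfl⟩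
  have hmem : ∀ y, y ∈ N ↔ u * y = y * u := by
    intro y
    rw [hN, Subgroup.mem_centralizer_iff]
    simp
  have hAN : A ≤ N := by
    intro y hy
    rw [hmem]
    exact (Subgroup.mem_centralizer_iff.mp huA y hy).symm
  have hQN : Q ≤ N := by
    intro y hy
    rw [hmem]
    exact (Subgroup.mem_centralizer_iff.mp huQ y hy).symm
  have hbN : b ∈ Subgroup.normalizer (N : Set X) := by
    apply mem_normalizer_of_conj_le
    intro y hy
    rw [hmem] at hy ⊢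
    obtain ⟨c, hcdef⟩ : ∃ c, c = b * u * b⁻¹ * u⁻¹ := ⟨_, rfl⟩
    rw [← hcdef] at hc
    have h1 : b * u * b⁻¹ = c * u := by rw [hcdef]; group
    have h2 : (c * u) * (b * y * b⁻¹) = (b * y * b⁻¹) * (c * u) := by
      rw [← h1]
      calc b * u * b⁻¹ * (b * y * b⁻¹) = b * (u * y) * b⁻¹ := by group
        _ = b * (y * u) * b⁻¹ := by rw [hy]
        _ = b * y * b⁻¹ * (b * u * b⁻¹) := by group
    have h3 : c * (u * (b * y * b⁻¹)) = c * ((b * y * b⁻¹) * u) := by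
      calc c * (u * (b * y * b⁻¹)) = (c * u) * (b * y * b⁻¹) := by group
        _ = (b * y * b⁻¹) * (c * u) := h2
        _ = ((b * y * b⁻¹) * c) * u := by group
        _ = (c * (b * y * b⁻¹)) * u := by rw [hc]
        _ = c * ((b * y * b⁻¹) * u) := by group
    exact mul_left_cancel h3
  have hn : N.Normal := by
    rw [← Subgroup.normalizer_eq_top_iff, eq_top_iff, ← htop]
    exact sup_le (sup_le (hAN.trans Subgroup.le_normalizer) (Subgroup.zpowers_le.mpr hbN))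
      (hQN.trans Subgroup.le_normalizer)
  obtain ⟨g, rfl⟩ := hconj
  rw [Subgroup.mem_centralizer_iff]
  rintro _ ⟨y, hy, rfl⟩
  have := hn.conj_mem y (hAN hy) g
  rw [hmem] at this
  exact this.symm

/-- the configuration in a minimal counterexample -/
structure SFCfg (Q V A B : Subgroup X) : Prop where
  Qn : Q.Normal
  Vn : V.Normal
  Vel : IsElementaryAbelian 2 V
  QV : Q ≤ Subgroup.centralizer (V : Set X)
  Bel : IsElementaryAbelian 2 B
  top : A ⊔ B ⊔ Q = ⊤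
  conj : ∃ g : X, B = A.map (MulAut.conj g).toMonoidHom
  quad : ∀ v ∈ V, ∀ b ∈ B, b * v * b⁻¹ * v⁻¹ ∈ Subgroup.centralizer (B : Set X)
  gen : ∀ b ∈ B, b ∉ Q → A ⊔ Subgroup.zpowers b ⊔ Q = ⊤
  off : Nat.card V * Nat.card ↥(B ⊓ Q) ≤
    Nat.card B * Nat.card ↥(V ⊓ Subgroup.centralizer (B : Set X))

theorem SFCfg.central {Q V A B : Subgroup X} (h : SFCfg Q V A B) {c : X} (hcV : c ∈ V)
    (hcA : c ∈ Subgroup.centralizer (A : Set X)) (hcB : c ∈ Subgroup.centralizer (B : Set X))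
    (y : X) : y * c = c * y := by
  have h1 : c ∈ Subgroup.centralizer ((A ⊔ B ⊔ Q : Subgroup X) : Set X) := by
    rw [centralizer_sup, centralizer_sup]
    exact ⟨⟨hcA, hcB⟩, Subgroup.le_centralizer_iff.mp h.QV hcV⟩
  rw [h.top] at h1
  exact Subgroup.mem_centralizer_iff.mp h1 y (Subgroup.mem_top y)

theorem SFCfg.F [Finite X] {Q V A B : Subgroup X} (h : SFCfg Q V A B) {u b : X} (huV : u ∈ V)
    (huA : u ∈ Subgroup.centralizer (A : Set X)) (hb : b ∈ B) (hbQ : b ∉ Q)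
    (hcA : b * u * b⁻¹ * u⁻¹ ∈ Subgroup.centralizer (A : Set X)) :
    u ∈ Subgroup.centralizer (B : Set X) := by
  haveI := h.Vn
  refine centralizes_of_central_comm (h.gen b hb hbQ) h.conj huA
    (Subgroup.le_centralizer_iff.mp h.QV huV) (h.central ?_ hcA (h.quad u huV b hb))
  exact V.mul_mem (h.Vn.conj_mem u huV b) (V.inv_mem huV)

theorem SFCfg.kappa_mul {Q V A B : Subgroup X} (h : SFCfg Q V A B) {u b b' : X} (huV : u ∈ V)
    (hb : b ∈ B) (hb' : b' ∈ B) :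
    (b * b') * u * (b * b')⁻¹ * u⁻¹ = (b * u * b⁻¹ * u⁻¹) * (b' * u * b'⁻¹ * u⁻¹) := by
  have hV : ∀ y : X, y * u * y⁻¹ * u⁻¹ ∈ V := fun y =>
    V.mul_mem (h.Vn.conj_mem u huV y) (V.inv_mem huV)
  have h1 : b * (b' * u * b'⁻¹ * u⁻¹) = (b' * u * b'⁻¹ * u⁻¹) * b :=
    Subgroup.mem_centralizer_iff.mp (h.quad u huV b' hb') b hb
  calc (b * b') * u * (b * b')⁻¹ * u⁻¹
      = (b * (b' * u * b'⁻¹ * u⁻¹)) * u * b⁻¹ * u⁻¹ := by group
    _ = ((b' * u * b'⁻¹ * u⁻¹) * b) * u * b⁻¹ * u⁻¹ := by rw [h1]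
    _ = (b' * u * b'⁻¹ * u⁻¹) * (b * u * b⁻¹ * u⁻¹) := by group
    _ = _ := EA2.comm h.Vel (hV b') (hV b)

end Cfsg.Agent.Lib.Helper5
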