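import Cfsg.Agent.Lib.Helper5.SF2

set_option autoImplicit false
set_option linter.style.haveILetI false
set_option linter.unusedSectionVars false

namespace Cfsg.Agent.Lib.Helper5

open Cfsg Cfsg.Agent.Lib.Helper17

universe u

variable {X : Type u} [Group X]

theorem SFCfg.surj [Finite X] {Q V A B : Subgroup X} (h : SFCfg Q V A B)
    (hcard : Nat.card ↥(V ⊓ Subgroup.centralizer (B : Set X)) ≤
      Nat.card ↥(V ⊓ Subgroup.centralizer (A : Set X)))
    {u : X} (huV : u ∈ V) (huA : u ∈ Subgroup.centralizer (A : Set X))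
    (huB : u ∉ Subgroup.centralizer (B : Set X))
    {w : X} (hwV : w ∈ V) (hwB : w ∈ Subgroup.centralizer (B : Set X)) :
    ∃ b ∈ B, ∃ c ∈ V, c ∈ Subgroup.centralizer (A : Set X) ∧
      c ∈ Subgroup.centralizer (B : Set X) ∧ w = (b * u * b⁻¹ * u⁻¹) * c := by
  obtain ⟨U, hU⟩ : ∃ U, U = V ⊓ Subgroup.centralizer (A : Set X) := ⟨_, rfl⟩
  obtain ⟨W, hW⟩ : ∃ W, W = V ⊓ Subgroup.centralizer (B : Set X) := ⟨_, rfl⟩
  obtain ⟨C, hC⟩ : ∃ C, C = U ⊓ W := ⟨_, rfl⟩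
  have hCV : C ≤ V := by rw [hC, hU]; exact inf_le_left.trans inf_le_left
  have hκV : ∀ y : X, y * u * y⁻¹ * u⁻¹ ∈ V := fun y =>
    V.mul_mem (h.Vn.conj_mem u huV y) (V.inv_mem huV)
  have hκW : ∀ b ∈ B, b * u * b⁻¹ * u⁻¹ ∈ W := fun b hb => by
    rw [hW]; exact ⟨hκV b, h.quad u huV b hb⟩
  have hinvV : ∀ y ∈ V, y⁻¹ = y := fun y hy => inv_eq_of_mul_eq_one_left (EA2.sq h.Vel hy)
  let R : Subgroup X :=
    { carrier := {w | ∃ b ∈ B, ∃ c ∈ C, w = (b * u * b⁻¹ * u⁻¹) * c}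
      one_mem' := ⟨1, B.one_mem, 1, C.one_mem, by group⟩
      mul_mem' := by
        rintro _ _ ⟨b, hb, c, hc, rfl⟩ ⟨b', hb', c', hc', rfl⟩
        refine ⟨b * b', B.mul_mem hb hb', c * c', C.mul_mem hc hc', ?_⟩
        rw [h.kappa_mul huV hb hb']
        have e := EA2.comm h.Vel (hCV hc) (hκV b')
        calc b * u * b⁻¹ * u⁻¹ * c * (b' * u * b'⁻¹ * u⁻¹ * c')
            = b * u * b⁻¹ * u⁻¹ * (c * (b' * u * b'⁻¹ * u⁻¹)) * c' := by group
          _ = b * u * b⁻¹ * u⁻¹ * ((b' * u * b'⁻¹ * u⁻¹) * c) * c' := by rw [e]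
          _ = _ := by group
      inv_mem' := by
        rintro _ ⟨b, hb, c, hc, rfl⟩
        exact ⟨b, hb, c, hc, hinvV _ (V.mul_mem (hκV b) (hCV hc))⟩ }
  have hmemR : ∀ w, w ∈ R ↔ ∃ b ∈ B, ∃ c ∈ C, w = (b * u * b⁻¹ * u⁻¹) * c := fun _ => Iff.rfl
  have hRW : R ≤ W := by
    rintro _ ⟨b, hb, c, hc, rfl⟩
    exact W.mul_mem (hκW b hb) (by rw [hC] at hc; exact hc.2)
  have hCR : C ≤ R := by
    intro c hc
    exact ⟨1, B.one_mem, c, hc, by group⟩
  have hκinv : ∀ b ∈ B, b⁻¹ * u * b⁻¹⁻¹ * u⁻¹ = (b * u * b⁻¹ * u⁻¹)⁻¹ := by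
    intro b hb
    have e := h.kappa_mul huV (B.inv_mem hb) hb
    rw [inv_mul_cancel] at e
    apply eq_inv_of_mul_eq_one_left
    rw [← e]; group
  have c3 : Nat.card B * Nat.card C ≤ Nat.card ↥(B ⊓ Q) * Nat.card R := by
    refine card_mul_le_of_inj inf_le_left hCR (fun b => b * u * b⁻¹ * u⁻¹)
      (fun b hb => ⟨b, hb, 1, C.one_mem, by group⟩) ?_
    intro b hb b' hb' hmem
    refine ⟨B.mul_mem (B.inv_mem hb) hb', ?_⟩
    by_contra hQ
    apply huB
    apply h.F huV huA (B.mul_mem (B.inv_mem hb) hb') hQ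
    rw [h.kappa_mul huV (B.inv_mem hb) hb', hκinv b hb]
    have hmem' : (b * u * b⁻¹ * u⁻¹)⁻¹ * (b' * u * b'⁻¹ * u⁻¹) ∈ C := hmem
    rw [hC, hU] at hmem'
    exact hmem'.1.2
  have c1 : Nat.card V * Nat.card ↥(B ⊓ Q) ≤ Nat.card B * Nat.card W := by
    rw [hW]; exact h.off
  have c2 : Nat.card W * Nat.card U ≤ Nat.card V * Nat.card C := by
    refine (card_mul_card_le_sup_mul_inf W U).trans (Nat.mul_le_mul ?_ ?_)
    · apply Subgroup.card_le_of_le
      rw [hW, hU]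
      exact sup_le inf_le_left inf_le_left
    · apply Subgroup.card_le_of_le
      rw [hC, inf_comm]
  have hUR : Nat.card U ≤ Nat.card R := by
    have hpos : 0 < Nat.card V * Nat.card ↥(B ⊓ Q) * Nat.card W * Nat.card B * Nat.card C := by
      have := (Nat.card_pos : 0 < Nat.card V)
      have := (Nat.card_pos : 0 < Nat.card ↥(B ⊓ Q))
      have := (Nat.card_pos : 0 < Nat.card W)
      have := (Nat.card_pos : 0 < Nat.card B)
      have := (Nat.card_pos : 0 < Nat.card C)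
      positivity
    apply Nat.le_of_mul_le_mul_right _ hpos
    calc Nat.card U * (Nat.card V * Nat.card ↥(B ⊓ Q) * Nat.card W * Nat.card B * Nat.card C)
        = (Nat.card V * Nat.card ↥(B ⊓ Q)) * (Nat.card W * Nat.card U) *
            (Nat.card B * Nat.card C) := by ring
      _ ≤ (Nat.card B * Nat.card W) * (Nat.card V * Nat.card C) *
            (Nat.card ↥(B ⊓ Q) * Nat.card R) := Nat.mul_le_mul (Nat.mul_le_mul c1 c2) c3
      _ = Nat.card R * (Nat.card V * Nat.card ↥(B ⊓ Q) * Nat.card W * Nat.card B * Nat.card C) := by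
          ring
  have hRW' : R = W := by
    apply Subgroup.eq_of_le_of_card_ge hRW
    rw [hW, hU] at *
    exact hcard.trans hUR
  have hwR : w ∈ R := by rw [hRW', hW]; exact ⟨hwV, hwB⟩
  obtain ⟨b, hb, c, hc, hw⟩ := (hmemR w).mp hwR
  rw [hC, hU, hW] at hc
  exact ⟨b, hb, c, hc.1.1, hc.1.2, hc.2.2, hw⟩

theorem card_CV_conj_le [Finite X] {V A B : Subgroup X} (hV : V.Normal)
    (hconj : ∃ g : X, B = A.map (MulAut.conj g).toMonoidHom) :
    Nat.card ↥(V ⊓ Subgroup.centralizer (A : Set X)) ≤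
      Nat.card ↥(V ⊓ Subgroup.centralizer (B : Set X)) := by
  obtain ⟨g, rfl⟩ := hconj
  have e : Nat.card ↥((V ⊓ Subgroup.centralizer (A : Set X)).map (MulAut.conj g).toMonoidHom) =
      Nat.card ↥(V ⊓ Subgroup.centralizer (A : Set X)) :=
    Subgroup.card_map_of_injective (MulAut.conj g).injective
  rw [← e]
  apply Subgroup.card_le_of_le
  rintro _ ⟨y, hy, rfl⟩
  refine ⟨hV.conj_mem y hy.1 g, ?_⟩
  show _ ∈ Subgroup.centralizer _
  rw [Subgroup.mem_centralizer_iff]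
  rintro _ ⟨a, ha, rfl⟩
  have := Subgroup.mem_centralizer_iff.mp hy.2 a ha
  simp only [MulEquiv.coe_toMonoidHom, MulAut.conj_apply]
  calc g * a * g⁻¹ * (g * y * g⁻¹) = g * (a * y) * g⁻¹ := by group
    _ = g * (y * a) * g⁻¹ := by rw [this]
    _ = _ := by group

end Cfsg.Agent.Lib.Helper5
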