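import Cfsg.Agent.Lib.Helper5.SF3

set_option autoImplicit false
set_option linter.style.haveILetI false
set_option linter.unusedSectionVars false

namespace Cfsg.Agent.Lib.Helper5

open Cfsg Cfsg.Agent.Lib.Helper17

universe u

variable {X : Type u} [Group X]

/-- in the configuration, `C_V(B)` is not contained in `C_V(A)` -/
theorem SFCfg.exists_not_mem [Finite X] {Q V A B : Subgroup X} (h1 : SFCfg Q V A B)
    (h2 : SFCfg Q V B A) (hCV : Subgroup.centralizer (V : Set X) ≤ Q) (hQp : IsPGroup 2 Q)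
    (hAB : ¬ IsPGroup 2 ↥(A ⊔ B)) :
    ∃ w ∈ V, w ∈ Subgroup.centralizer (B : Set X) ∧ w ∉ Subgroup.centralizer (A : Set X) := by
  by_contra hall
  push Not at hall
  obtain ⟨U, hU⟩ : ∃ U, U = V ⊓ Subgroup.centralizer (A : Set X) := ⟨_, rfl⟩
  obtain ⟨W, hW⟩ : ∃ W, W = V ⊓ Subgroup.centralizer (B : Set X) := ⟨_, rfl⟩
  have hWU : W ≤ U := by
    rw [hW, hU]
    intro w hw
    exact ⟨hw.1, hall w hw.1 hw.2⟩
  have hWU' : W = U := by
    apply Subgroup.eq_of_le_of_card_ge hWU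
    rw [hW, hU]
    exact card_CV_conj_le h1.Vn h1.conj
  have hcen : ∀ c ∈ U, ∀ y : X, y * c = c * y := by
    intro c hc y
    have hc' : c ∈ W := hWU' ▸ hc
    rw [hU] at hc
    rw [hW] at hc'
    exact h1.central hc.1 hc.2 hc'.2 y
  haveI hUn : U.Normal := by
    constructor
    intro c hc g
    rw [hcen c hc g, mul_inv_cancel_right]
    exact hc
  have hκV : ∀ y : X, ∀ v ∈ V, y * v * y⁻¹ * v⁻¹ ∈ V := fun y v hv =>
    V.mul_mem (h1.Vn.conj_mem v hv y) (V.inv_mem hv)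
  have hA : ∀ g ∈ A, ∀ n ∈ V, g * n * g⁻¹ * n⁻¹ ∈ U := by
    intro g hg n hn
    rw [hU]
    exact ⟨hκV g n hn, h2.quad n hn g hg⟩
  have hB : ∀ g ∈ B, ∀ n ∈ V, g * n * g⁻¹ * n⁻¹ ∈ U := by
    intro g hg n hn
    rw [← hWU', hW]
    exact ⟨hκV g n hn, h1.quad n hn g hg⟩
  have hQ : ∀ g ∈ Q, ∀ n ∈ V, g * n * g⁻¹ * n⁻¹ ∈ U := by
    intro g hg n hn
    have := Subgroup.mem_centralizer_iff.mp (h1.QV hg) n hn
    have e : g * n * g⁻¹ * n⁻¹ = 1 := by rw [← this]; group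
    rw [e]; exact U.one_mem
  have hall' : ∀ g : X, ∀ n ∈ V, g * n * g⁻¹ * n⁻¹ ∈ U := by
    intro g
    have := comm_mod_sup_left U V (comm_mod_sup_left U V hA hB) hQ g
      (by rw [h1.top]; exact Subgroup.mem_top g)
    exact this
  have hsq : ∀ x : X, x * x ∈ Q := by
    intro x
    apply hCV
    rw [Subgroup.mem_centralizer_iff]
    intro v hv
    obtain ⟨t, ht⟩ : ∃ t, t = x * v * x⁻¹ * v⁻¹ := ⟨_, rfl⟩
    have htU : t ∈ U := ht ▸ hall' x v hv
    have htV : t ∈ V := by rw [hU] at htU; exact htU.1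
    have e1 : x * v = t * v * x := by rw [ht]; group
    have e2 : x * t = t * x := hcen t htU x
    have e3 : t * t = 1 := EA2.sq h1.Vel htV
    calc v * (x * x) = (t * t) * v * (x * x) := by rw [e3, one_mul]
      _ = t * (t * v * x) * x := by group
      _ = t * (x * v) * x := by rw [e1]
      _ = (t * x) * v * x := by group
      _ = (x * t) * v * x := by rw [e2]
      _ = x * (t * v * x) := by group
      _ = x * (x * v) := by rw [e1]
      _ = x * x * v := by group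
  apply hAB
  have hX : IsPGroup 2 X := by
    intro x
    obtain ⟨k, hk⟩ := hQp ⟨x * x, hsq x⟩
    refine ⟨k + 1, ?_⟩
    have := congrArg Subtype.val hk
    simp only [Subgroup.coe_pow, Subgroup.coe_one] at this
    rw [pow_succ', pow_mul, pow_two]
    exact this
  exact hX.to_subgroup _

theorem sf_final [Finite X] {Q V A B : Subgroup X} (h1 : SFCfg Q V A B)
    (h2 : SFCfg Q V B A) (hCV : Subgroup.centralizer (V : Set X) ≤ Q) (hQp : IsPGroup 2 Q)
    (hAQ : ¬ A ≤ Q) (hAB : ¬ IsPGroup 2 ↥(A ⊔ B)) : Involves (Equiv.Perm (Fin 4)) X := by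
  obtain ⟨w₀, hw₀V, hw₀B, hw₀A⟩ := h1.exists_not_mem h2 hCV hQp hAB
  obtain ⟨a, ha, haQ⟩ := SetLike.not_le_iff_exists.mp hAQ
  haveI := h1.Vn
  obtain ⟨u, hu⟩ : ∃ u, u = a * w₀ * a⁻¹ * w₀⁻¹ := ⟨_, rfl⟩
  have huV : u ∈ V := by
    rw [hu]; exact V.mul_mem (h1.Vn.conj_mem w₀ hw₀V a) (V.inv_mem hw₀V)
  have huA : u ∈ Subgroup.centralizer (A : Set X) := by rw [hu]; exact h2.quad w₀ hw₀V a ha
  have huB : u ∉ Subgroup.centralizer (B : Set X) := by
    intro hB
    exact hw₀A (h2.F hw₀V hw₀B ha haQ (hu ▸ hB))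
  obtain ⟨b, hb, c, hcV, hcA, hcB, hw⟩ :=
    h1.surj (card_CV_conj_le h2.Vn h2.conj) huV huA huB hw₀V hw₀B
  obtain ⟨w, hwdef⟩ : ∃ w, w = b * u * b⁻¹ * u⁻¹ := ⟨_, rfl⟩
  rw [← hwdef] at hw
  have hwV : w ∈ V := by
    rw [hwdef]; exact V.mul_mem (h1.Vn.conj_mem u huV b) (V.inv_mem huV)
  have hwB : w ∈ Subgroup.centralizer (B : Set X) := by rw [hwdef]; exact h1.quad u huV b hb
  have hcomm : u * w = w * u := EA2.comm h1.Vel huV hwV
  refine involves_perm4_of_four V h1.Vel (hQp.to_le hCV) (a := a) (b := b) (u := u) (w := w)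
    (EA2.sq h2.Bel ha) (EA2.sq h1.Bel hb) huV hwV ?_ ?_ ?_ ?_ ?_ ?_
  · intro e
    exact huB (e ▸ hwB)
  · intro e
    rw [e, one_mul] at hw
    exact hw₀A (hw ▸ hcA)
  · have := Subgroup.mem_centralizer_iff.mp huA a ha
    rw [this, mul_inv_cancel_right]
  · have e1 : a * w₀ * a⁻¹ = u * w₀ := by rw [hu]; group
    have e2 : a * c = c * a := Subgroup.mem_centralizer_iff.mp hcA a ha
    have e3 : a * c * a⁻¹ = c := by rw [e2, mul_inv_cancel_right]
    have e4 : (a * w * a⁻¹) * c = (w * u) * c := by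
      calc (a * w * a⁻¹) * c = (a * w * a⁻¹) * (a * c * a⁻¹) := by rw [e3]
        _ = a * (w * c) * a⁻¹ := by group
        _ = a * w₀ * a⁻¹ := by rw [← hw]
        _ = u * w₀ := e1
        _ = u * (w * c) := by rw [← hw]
        _ = (u * w) * c := by group
        _ = (w * u) * c := by rw [hcomm]
    exact mul_right_cancel e4
  · have := Subgroup.mem_centralizer_iff.mp hwB b hb
    rw [this, mul_inv_cancel_right]
  · rw [hcomm, hwdef]; group

end Cfsg.Agent.Lib.Helper5
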