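import Cfsg.Agent.Lib.Helper5.SF4

set_option autoImplicit false
set_option linter.style.haveILetI false
set_option linter.unusedSectionVars false

namespace Cfsg.Agent.Lib.Helper5

open Cfsg Cfsg.Agent.Lib.Helper17
open scoped commutatorElement

universe u

variable {X : Type u} [Group X]

/-- commutators of an involution `a` of a class-two `2`-group `P ≥ H` with `H` lie in
`Ω₁(Z(H))` -/
theorem sf_comm_mem_V {H P : Subgroup X} (hc : Subgroup.centralizer (H : Set X) ≤ H)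
    (hHP : H ≤ P) (hcl : ⁅⁅P, P⁆, P⁆ = ⊥) {a h : X} (haP : a ∈ P) (haa : a * a = 1)
    (hh : h ∈ H) :
    a * h * a⁻¹ * h⁻¹ ∈ omegaOne 2 (H ⊓ Subgroup.centralizer (H : Set X)) := by
  have hTT : ⁅P, P⁆ ≤ Subgroup.centralizer (P : Set X) :=
    Subgroup.commutator_eq_bot_iff_le_centralizer.mp hcl
  obtain ⟨c, hcdef⟩ : ∃ c, c = a * h * a⁻¹ * h⁻¹ := ⟨_, rfl⟩
  rw [← hcdef]
  have hcc : c ∈ ⁅P, P⁆ := by
    rw [hcdef]; exact Subgroup.commutator_mem_commutator haP (hHP hh)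
  have hcT : c ∈ Subgroup.centralizer (P : Set X) := hTT hcc
  have hcCH : c ∈ Subgroup.centralizer (H : Set X) :=
    Subgroup.centralizer_le (SetLike.coe_subset_coe.mpr hHP) hcT
  have hcZ : c ∈ H ⊓ Subgroup.centralizer (H : Set X) := ⟨hc hcCH, hcCH⟩
  have hac : a * c = c * a := Subgroup.mem_centralizer_iff.mp hcT a haP
  have h1 : a * h * a⁻¹ = c * h := by rw [hcdef]; group
  have h2 : c * c * h = h := by
    calc c * c * h = c * (c * h) := by group
      _ = c * (a * h * a⁻¹) := by rw [h1]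
      _ = (c * a) * h * a⁻¹ := by group
      _ = (a * c) * h * a⁻¹ := by rw [hac]
      _ = a * (c * h) * a⁻¹ := by group
      _ = a * (a * h * a⁻¹) * a⁻¹ := by rw [h1]
      _ = (a * a) * h * (a * a)⁻¹ := by group
      _ = h := by rw [haa]; group
  have h3 : c ^ 2 = 1 := by
    rw [pow_two]
    exact mul_eq_right.mp h2
  exact mem_omegaOne hcZ h3

/-- `C_X(Ω₁ Z(O₂(X))) ≤ O₂(X)` when `X` is generated by `O₂(X)` and two elementary abelian
subgroups -/
theorem sf_CV [Finite X] {H A B : Subgroup X} (hH : H = pCore 2 X)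
    (hc : Subgroup.centralizer (H : Set X) ≤ H)
    (hcl : ∀ P : Subgroup X, IsPGroup 2 P → ⁅⁅P, P⁆, P⁆ = ⊥)
    (hA : IsElementaryAbelian 2 A) (hB : IsElementaryAbelian 2 B) (htop : A ⊔ B ⊔ H = ⊤) :
    Subgroup.centralizer ((omegaOne 2 (H ⊓ Subgroup.centralizer (H : Set X)) : Subgroup X) :
      Set X) ≤ H := by
  haveI hHn : H.Normal := by rw [hH]; infer_instance
  have hHp : IsPGroup 2 H := by rw [hH]; exact pCore_isPGroup
  obtain ⟨Z, hZ⟩ : ∃ Z, Z = H ⊓ Subgroup.centralizer (H : Set X) := ⟨_, rfl⟩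
  haveI hZn : Z.Normal := by rw [hZ]; infer_instance
  obtain ⟨V, hVdef⟩ : ∃ V, V = omegaOne 2 Z := ⟨_, rfl⟩
  rw [← hZ, ← hVdef]
  haveI hVn : V.Normal := by rw [hVdef]; exact omegaOne_normal Z
  have hVZ : V ≤ Z := by rw [hVdef]; exact omegaOne_le Z
  have hVH : V ≤ H := hVZ.trans (hZ ▸ inf_le_left)
  haveI : (H.map (QuotientGroup.mk' V)).Normal := hHn.map _ (QuotientGroup.mk'_surjective V)
  obtain ⟨L, hL⟩ : ∃ L, L = (Subgroup.centralizer ((H.map (QuotientGroup.mk' V) :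
    Subgroup (X ⧸ V)) : Set (X ⧸ V))).comap (QuotientGroup.mk' V) := ⟨_, rfl⟩
  haveI hLn : L.Normal := by rw [hL]; infer_instance
  have hmemL : ∀ g, g ∈ L ↔ ∀ h ∈ H, g * h * g⁻¹ * h⁻¹ ∈ V := by
    intro g; rw [hL]; exact mem_comap_centralizer_map_iff V H g
  have hEL : ∀ E : Subgroup X, IsElementaryAbelian 2 E → E ≤ L := by
    intro E hE a ha
    rw [hmemL]
    intro h hh
    rw [hVdef, hZ]
    exact sf_comm_mem_V hc le_sup_right
      (hcl (E ⊔ H) (IsPGroup.to_sup_of_normal_right (EA2.isPGroup hE) hHp))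
      (Subgroup.mem_sup_left ha) (EA2.sq hE ha) hh
  have hC : IsPGroup 2 ↥(L ⊓ Subgroup.centralizer (V : Set X)) := by
    apply isPGroup_of_stab_two hHp hVH
    · rw [Subgroup.commutator_le]
      intro h hh g hg
      have h1 := (hmemL g).mp hg.1 h hh
      have e : ⁅h, g⁆ = (g * h * g⁻¹ * h⁻¹)⁻¹ := by rw [commutatorElement_def]; group
      rw [e]; exact V.inv_mem h1
    · rw [Subgroup.commutator_eq_bot_iff_le_centralizer]
      exact Subgroup.le_centralizer_iff.mp inf_le_right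
    · exact hHp.to_le (inf_le_right.trans hc)
  have hLC : L ⊓ Subgroup.centralizer (V : Set X) ≤ H := by
    rw [hH]
    exact le_pCore inferInstance hC
  have hLH : L ⊔ H = ⊤ := by
    rw [eq_top_iff, ← htop]
    exact sup_le (sup_le ((hEL A hA).trans le_sup_left) ((hEL B hB).trans le_sup_left))
      le_sup_right
  have hHC : H ≤ Subgroup.centralizer (V : Set X) :=
    Subgroup.le_centralizer_iff.mp (hVZ.trans (hZ ▸ inf_le_right))
  intro y hy
  have hy' : y ∈ L ⊔ H := by rw [hLH]; exact Subgroup.mem_top y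
  obtain ⟨l, hl, q, hq, rfl⟩ := Subgroup.mem_sup_of_normal_right.mp hy'
  have h1 : l ∈ Subgroup.centralizer (V : Set X) := by
    have := Subgroup.mul_mem _ hy (Subgroup.inv_mem _ (hHC hq))
    rwa [mul_inv_cancel_right] at this
  exact H.mul_mem (hLC ⟨hl, h1⟩) hq

/-- the inductive hypothesis, in the form in which it is used -/
def SFInd (X : Type u) [Group X] : Prop :=
  ∀ M : Subgroup X, pCore 2 X ≤ M → M ≠ ⊤ → ∃ R : Subgroup X, IsPGroup 2 R ∧
    M ≤ Subgroup.normalizer (R : Set X) ∧ pCore 2 X ≤ R ∧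
    ∀ A' ∈ maxElementaryAbelianSubgroups 2 X, A' ≤ M → A' ≤ R

theorem sf_gen [Finite X] {H V A B : Subgroup X} (hH : H = pCore 2 X)
    (hcl : ∀ P : Subgroup X, IsPGroup 2 P → ⁅⁅P, P⁆, P⁆ = ⊥) (hIH : SFInd X)
    (hVH : V ≤ H) (hCV : Subgroup.centralizer (V : Set X) ≤ H)
    (hA : A ∈ maxElementaryAbelianSubgroups 2 X) (hB : IsElementaryAbelian 2 B)
    (htop : A ⊔ B ⊔ H = ⊤) {b : X} (hb : b ∈ B) (hbH : b ∉ H) :
    A ⊔ Subgroup.zpowers b ⊔ H = ⊤ := by
  haveI hHn : H.Normal := by rw [hH]; infer_instance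
  by_contra hne
  obtain ⟨R, hRp, hMR, hHR, hAR⟩ := hIH _ (hH ▸ le_sup_right) hne
  rw [← hH] at hHR
  have hAR' : A ≤ R := hAR A hA (le_sup_left.trans le_sup_left)
  have hbp : IsPGroup 2 (Subgroup.zpowers b) :=
    (EA2.isPGroup hB).to_le (Subgroup.zpowers_le.mpr hb)
  have hP : IsPGroup 2 ↥(Subgroup.zpowers b ⊔ R) :=
    IsPGroup.to_sup_of_normal_right' hbp hRp ((le_sup_right.trans le_sup_left).trans hMR)
  have hPP : ⁅Subgroup.zpowers b ⊔ R, Subgroup.zpowers b ⊔ R⁆ ≤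
      Subgroup.centralizer ((Subgroup.zpowers b ⊔ R : Subgroup X) : Set X) :=
    Subgroup.commutator_eq_bot_iff_le_centralizer.mp (hcl _ hP)
  have hbP : b ∈ Subgroup.zpowers b ⊔ R := Subgroup.mem_sup_left (Subgroup.mem_zpowers b)
  have k1 : ∀ n ∈ A, b * n * b⁻¹ * n⁻¹ ∈ H := by
    intro n hn
    apply hCV
    have h1 : b * n * b⁻¹ * n⁻¹ ∈ ⁅Subgroup.zpowers b ⊔ R, Subgroup.zpowers b ⊔ R⁆ :=
      Subgroup.commutator_mem_commutator hbP (Subgroup.mem_sup_right (hAR' hn))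
    exact Subgroup.centralizer_le
      (SetLike.coe_subset_coe.mpr ((hVH.trans hHR).trans le_sup_right)) (hPP h1)
  have k2 : ∀ n ∈ B, b * n * b⁻¹ * n⁻¹ ∈ H := by
    intro n hn
    have e : b * n * b⁻¹ * n⁻¹ = 1 := by rw [EA2.comm hB hb hn]; group
    rw [e]; exact H.one_mem
  have k3 : ∀ n ∈ H, b * n * b⁻¹ * n⁻¹ ∈ H := by
    intro n hn
    exact H.mul_mem (hHn.conj_mem n hn b) (H.inv_mem hn)
  have key : ∀ n : X, b * n * b⁻¹ * n⁻¹ ∈ H := by
    intro n
    exact comm_mod_sup_right H b (comm_mod_sup_right H b k1 k2) k3 n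
      (by rw [htop]; exact Subgroup.mem_top n)
  obtain ⟨T, hT⟩ := hbp.exists_le_sylow
  apply hbH
  rw [hH]
  refine mem_of_centralizes_quot T H ⊤ (hH ▸ pCore_le_sylow T) ⟨0, by simp⟩
    (hT (Subgroup.mem_zpowers b)) (fun n _ => key n)

end Cfsg.Agent.Lib.Helper5
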