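import Cfsg.Agent.Lib.Helper5.SF5

set_option autoImplicit false
set_option linter.style.haveILetI false
set_option linter.unusedSectionVars false

namespace Cfsg.Agent.Lib.Helper5

open Cfsg Cfsg.Agent.Lib.Helper17
open scoped commutatorElement

universe u

theorem sf_half {X : Type u} [Group X] [Finite X] {H A B : Subgroup X} (hH : H = pCore 2 X)
    (hc : Subgroup.centralizer (H : Set X) ≤ H)
    (hcl : ∀ P : Subgroup X, IsPGroup 2 P → ⁅⁅P, P⁆, P⁆ = ⊥) (hIH : SFInd X)
    (hA : A ∈ maxElementaryAbelianSubgroups 2 X) (hB : B ∈ maxElementaryAbelianSubgroups 2 X)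
    (htop : A ⊔ B ⊔ H = ⊤) (hconj : ∃ g : X, B = A.map (MulAut.conj g).toMonoidHom) :
    SFCfg H (omegaOne 2 (H ⊓ Subgroup.centralizer (H : Set X))) A B := by
  haveI hHn : H.Normal := by rw [hH]; infer_instance
  have hHp : IsPGroup 2 H := by rw [hH]; exact pCore_isPGroup
  have hCV := sf_CV hH hc hcl hA.1 hB.1 htop
  obtain ⟨Z, hZ⟩ : ∃ Z, Z = H ⊓ Subgroup.centralizer (H : Set X) := ⟨_, rfl⟩
  haveI hZn : Z.Normal := by rw [hZ]; infer_instance
  have hZab : IsMulCommutative Z := by rw [hZ]; exact comm_inf_centralizer H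
  obtain ⟨V, hVdef⟩ : ∃ V, V = omegaOne 2 Z := ⟨_, rfl⟩
  rw [← hZ, ← hVdef] at hCV ⊢
  haveI hVn : V.Normal := by rw [hVdef]; exact omegaOne_normal Z
  have hVel : IsElementaryAbelian 2 V := by rw [hVdef]; exact elemAb_omegaOne hZab
  have hVZ : V ≤ Z := by rw [hVdef]; exact omegaOne_le Z
  have hVH : V ≤ H := hVZ.trans (hZ ▸ inf_le_left)
  have hHC : H ≤ Subgroup.centralizer (V : Set X) :=
    Subgroup.le_centralizer_iff.mp (hVZ.trans (hZ ▸ inf_le_right))
  refine ⟨hHn, hVn, hVel, hHC, hB.1, htop, hconj, ?_, ?_, ?_⟩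
  · intro v hv b hb
    have hP : IsPGroup 2 ↥(B ⊔ H) := IsPGroup.to_sup_of_normal_right (EA2.isPGroup hB.1) hHp
    have hPP : ⁅B ⊔ H, B ⊔ H⁆ ≤ Subgroup.centralizer ((B ⊔ H : Subgroup X) : Set X) :=
      Subgroup.commutator_eq_bot_iff_le_centralizer.mp (hcl _ hP)
    have h1 : b * v * b⁻¹ * v⁻¹ ∈ ⁅B ⊔ H, B ⊔ H⁆ :=
      Subgroup.commutator_mem_commutator (Subgroup.mem_sup_left hb)
        (Subgroup.mem_sup_right (hVH hv))
    exact Subgroup.centralizer_le (SetLike.coe_subset_coe.mpr le_sup_left) (hPP h1)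
  · intro b hb hbH
    exact sf_gen hH hcl hIH hVH hCV hA hB.1 htop hb hbH
  · have hB' : B ∈ maxQ (IsElementaryAbelian 2) (⊤ : Subgroup X) :=
      ⟨le_top, hB.1, fun C _ hC => hB.2 C hC⟩
    have h1 := thompson_offenderE hB' le_top hVel
      (by rw [Subgroup.normalizer_eq_top_iff.mpr hVn]; exact le_top)
    have h2 : Nat.card ↥(B ⊓ H) ≤ Nat.card ↥(B ⊓ Subgroup.centralizer (V : Set X)) :=
      Subgroup.card_le_of_le (inf_le_inf_left B hHC)
    calc Nat.card V * Nat.card ↥(B ⊓ H)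
        ≤ Nat.card V * Nat.card ↥(B ⊓ Subgroup.centralizer (V : Set X)) :=
          Nat.mul_le_mul_left _ h2
      _ = Nat.card ↥(B ⊓ Subgroup.centralizer (V : Set X)) * Nat.card V := mul_comm _ _
      _ ≤ _ := h1

theorem sf_core : ∀ (n : ℕ) (X : Type u) [Group X] [Finite X], Nat.card X = n →
    Subgroup.centralizer (pCore 2 X : Set X) ≤ pCore 2 X →
    ¬ Involves (Equiv.Perm (Fin 4)) X →
    (∀ P : Subgroup X, IsPGroup 2 P → ⁅⁅P, P⁆, P⁆ = ⊥) →
    ∀ A ∈ maxElementaryAbelianSubgroups 2 X, A ≤ pCore 2 X := by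
  intro n
  induction n using Nat.strong_induction_on with
  | _ n ih =>
  intro X _ _ hn hc hS4 hcl A hA
  by_contra hAQ
  haveI : Fact (Nat.Prime 2) := ⟨Nat.prime_two⟩
  have hIH : SFInd X := by
    intro M hQM hM
    have hQM' : (pCore 2 X).subgroupOf M ≤ pCore 2 M :=
      le_pCore inferInstance (pCore_isPGroup.comap_of_injective M.subtype M.subtype_injective)
    refine ⟨(pCore 2 M).map M.subtype, pCore_isPGroup.map _, ?_, ?_, ?_⟩
    · intro m hm
      apply mem_normalizer_of_conj_le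
      rintro _ ⟨y, hy, rfl⟩
      exact ⟨⟨m, hm⟩ * y * ⟨m, hm⟩⁻¹,
        (inferInstance : (pCore 2 M).Normal).conj_mem y hy ⟨m, hm⟩, rfl⟩
    · rw [← Subgroup.map_subgroupOf_eq_of_le hQM]
      exact Subgroup.map_mono hQM'
    · intro A' hA' hA'M
      have hlt : Nat.card M < n := by
        rw [← hn]
        by_contra hge
        exact hM (Subgroup.eq_top_of_card_eq M
          (le_antisymm (Subgroup.card_le_card_group M) (not_lt.mp hge)))
      have h1 := ih (Nat.card M) hlt M rfl ?_ (fun h => hS4 (involves_of_subgroup M h)) ?_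
        (A'.subgroupOf M) ((maxElemAb_subgroup_iff hA' hA'M _).mpr
          (by rw [Subgroup.map_subgroupOf_eq_of_le hA'M]; exact hA'))
      · rw [← Subgroup.map_subgroupOf_eq_of_le hA'M]
        exact Subgroup.map_mono h1
      · intro c hcc
        apply hQM'
        rw [Subgroup.mem_subgroupOf]
        apply hc
        rw [Subgroup.mem_centralizer_iff]
        intro q hq
        have := Subgroup.mem_centralizer_iff.mp hcc ⟨q, hQM hq⟩
          (hQM' (Subgroup.mem_subgroupOf.mpr hq))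
        exact congrArg Subtype.val this
      · intro P hP
        have h2 := hcl (P.map M.subtype) (hP.map _)
        rw [← Subgroup.map_commutator, ← Subgroup.map_commutator] at h2
        exact (Subgroup.map_eq_bot_iff_of_injective _ M.subtype_injective).mp h2
  obtain ⟨g, hg⟩ : ∃ g : X, ¬ IsPGroup 2 ↥(A ⊔ A.map (MulAut.conj g).toMonoidHom) := by
    by_contra hall
    push Not at hall
    obtain ⟨N, hN, hNp, hAN⟩ := Cfsg.Agent.Lib.Helper22.bs_subgroup A hall
    exact hAQ (hAN.trans (le_pCore hN hNp))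
  obtain ⟨B, hBdef⟩ : ∃ B, B = A.map (MulAut.conj g).toMonoidHom := ⟨_, rfl⟩
  rw [← hBdef] at hg
  have hB : B ∈ maxElementaryAbelianSubgroups 2 X := by
    rw [hBdef]; exact maxElemAb_map_equiv (MulAut.conj g) hA
  have htop : A ⊔ B ⊔ pCore 2 X = ⊤ := by
    by_contra hne
    obtain ⟨R, hRp, _, _, hR⟩ := hIH _ le_sup_right hne
    exact hg (hRp.to_le (sup_le (hR A hA (le_sup_left.trans le_sup_left))
      (hR B hB (le_sup_right.trans le_sup_left))))
  have hconj' : ∃ g' : X, A = B.map (MulAut.conj g').toMonoidHom := by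
    refine ⟨g⁻¹, ?_⟩
    rw [hBdef]
    ext y
    constructor
    · intro hy
      exact ⟨g * y * g⁻¹, ⟨y, hy, rfl⟩, by simp [mul_assoc]⟩
    · rintro ⟨_, ⟨z, hz, rfl⟩, rfl⟩
      simpa [MulAut.conj_apply, mul_assoc] using hz
  have h1 := sf_half rfl hc hcl hIH hA hB htop ⟨g, hBdef⟩
  have h2 := sf_half rfl hc hcl hIH hB hA (by rw [sup_comm B A]; exact htop) hconj'
  exact hS4 (sf_final h1 h2 (sf_CV rfl hc hcl hA.1 hB.1 htop) pCore_isPGroup hAQ hg)

/-- `C_X(O₂(X)) ≤ O₂(X)`, `X` is `S₄`-free, Sylow `2`-subgroup of class at most `2`: every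
elementary abelian subgroup of largest order of `T` lies in `O₂(X)`. -/
theorem maxElemAb_le_pCore_of_class_two' {X : Type u} [Group X] [Finite X]
    (hc : Subgroup.centralizer (pCore 2 X : Set X) ≤ pCore 2 X)
    (hS4 : ¬ Involves (Equiv.Perm (Fin 4)) X) (T : Sylow 2 X)
    (hcl : ⁅⁅(T : Subgroup X), (T : Subgroup X)⁆, (T : Subgroup X)⁆ = ⊥)
    {A : Subgroup X} (hA : A ∈ maxQ (IsElementaryAbelian 2) (T : Subgroup X)) :
    A ≤ pCore 2 X := by
  haveI : Fact (Nat.Prime 2) := ⟨Nat.prime_two⟩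
  have hsyl : ∀ P : Subgroup X, IsPGroup 2 P →
      ∃ g : X, P ≤ (T : Subgroup X).map (MulAut.conj g).toMonoidHom := by
    intro P hP
    obtain ⟨T', hT'⟩ := hP.exists_le_sylow
    obtain ⟨g, hg⟩ := MulAction.exists_smul_eq X T T'
    refine ⟨g, ?_⟩
    have e : (T' : Subgroup X) = (T : Subgroup X).map (MulAut.conj g).toMonoidHom := by
      rw [← hg]; rfl
    rw [← e]; exact hT'
  apply sf_core _ X rfl hc hS4 ?_ A ?_
  · intro P hP
    obtain ⟨g, hg⟩ := hsyl P hP
    rw [eq_bot_iff]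
    refine (Subgroup.commutator_mono (Subgroup.commutator_mono hg hg) hg).trans ?_
    rw [← Subgroup.map_commutator, ← Subgroup.map_commutator, hcl, Subgroup.map_bot]
  · refine ⟨hA.2.1, fun C hC => ?_⟩
    obtain ⟨g, hg⟩ := hsyl C (EA2.isPGroup hC)
    have h1 : C.map (MulAut.conj g⁻¹).toMonoidHom ≤ (T : Subgroup X) := by
      rintro _ ⟨y, hy, rfl⟩
      obtain ⟨t, ht, hty⟩ := hg hy
      rw [← hty]
      have e : (MulAut.conj g⁻¹).toMonoidHom ((MulAut.conj g).toMonoidHom t) = t := by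
        simp [MulAut.conj_apply, mul_assoc]
      rw [e]
      exact ht
    have h2 := hA.2.2 _ h1 (elemAb_map _ hC)
    rwa [Subgroup.card_map_of_injective (MulAut.conj g⁻¹).injective] at h2

theorem thompsonE_normal_of_class_two' {X : Type u} [Group X] [Finite X]
    (hc : Subgroup.centralizer (pCore 2 X : Set X) ≤ pCore 2 X)
    (hS4 : ¬ Involves (Equiv.Perm (Fin 4)) X) (T : Sylow 2 X)
    (hcl : ⁅⁅(T : Subgroup X), (T : Subgroup X)⁆, (T : Subgroup X)⁆ = ⊥) :
    (thompsonSubgroupOf 2 (T : Subgroup X)).Normal := by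
  haveI : Fact (Nat.Prime 2) := ⟨Nat.prime_two⟩
  rw [thompsonSubgroupOf_eq, ← Subgroup.normalizer_eq_top_iff, eq_top_iff]
  intro g _
  have hle : (sSup (maxQ (IsElementaryAbelian 2) (T : Subgroup X))).map
      (MulAut.conj g).toMonoidHom ≤ sSup (maxQ (IsElementaryAbelian 2) (T : Subgroup X)) := by
    rw [(Subgroup.gc_map_comap (MulAut.conj g).toMonoidHom).l_sSup]
    apply iSup₂_le
    intro A hA
    apply le_sSup
    have hAH := maxElemAb_le_pCore_of_class_two' hc hS4 T hcl hA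
    refine ⟨?_, elemAb_map _ hA.2.1, fun C hC hQ => ?_⟩
    · refine le_trans ?_ (pCore_le_sylow T)
      rintro _ ⟨a, ha, rfl⟩
      exact (inferInstance : (pCore 2 X).Normal).conj_mem a (hAH ha) g
    · rw [Subgroup.card_map_of_injective (MulAut.conj g).injective]
      exact hA.2.2 C hC hQ
  apply mem_normalizer_of_conj_le
  intro y hy
  exact hle ⟨y, hy, rfl⟩

end Cfsg.Agent.Lib.Helper5
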