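import Mathlib

set_option autoImplicit false

namespace Cfsg.Agent.Lib.Helper5



variable {K : Type*} [Field K]

/-- A `2 × 2` matrix is scalar. -/
def IsSc (u : Matrix (Fin 2) (Fin 2) K) : Prop := u 0 1 = 0 ∧ u 1 0 = 0 ∧ u 0 0 = u 1 1

theorem mul_entries (u m : Matrix (Fin 2) (Fin 2) K) :
    (u * m) 0 0 = u 0 0 * m 0 0 + u 0 1 * m 1 0 ∧ (u * m) 0 1 = u 0 0 * m 0 1 + u 0 1 * m 1 1 ∧
    (u * m) 1 0 = u 1 0 * m 0 0 + u 1 1 * m 1 0 ∧ (u * m) 1 1 = u 1 0 * m 0 1 + u 1 1 * m 1 1 := by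
  simp [Matrix.mul_apply, Fin.sum_univ_two]

omit [Field K] in
theorem ext2 {u m : Matrix (Fin 2) (Fin 2) K} (h00 : u 0 0 = m 0 0) (h01 : u 0 1 = m 0 1)
    (h10 : u 1 0 = m 1 0) (h11 : u 1 1 = m 1 1) : u = m := by
  ext i j
  fin_cases i <;> fin_cases j <;> assumption

theorem cent_form (u m : Matrix (Fin 2) (Fin 2) K) (hu : ¬ IsSc u) (h : m * u = u * m) :
    ∃ α β : K, m = α • (1 : Matrix (Fin 2) (Fin 2) K) + β • u := by
  obtain ⟨a1, a2, a3, a4⟩ := mul_entries m u
  obtain ⟨b1, b2, b3, b4⟩ := mul_entries u m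
  have e1 : m 0 1 * u 1 0 = u 0 1 * m 1 0 := by
    have := congrFun (congrFun h 0) 0
    rw [a1, b1] at this
    linear_combination this
  have e2 : m 0 0 * u 0 1 + m 0 1 * u 1 1 = u 0 0 * m 0 1 + u 0 1 * m 1 1 := by
    have := congrFun (congrFun h 0) 1
    rw [a2, b2] at this
    exact this
  have e3 : m 1 0 * u 0 0 + m 1 1 * u 1 0 = u 1 0 * m 0 0 + u 1 1 * m 1 0 := by
    have := congrFun (congrFun h 1) 0
    rw [a3, b3] at this
    exact this
  by_cases hb : u 0 1 = 0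
  · by_cases hc : u 1 0 = 0
    · have hd : u 0 0 - u 1 1 ≠ 0 := fun hd => hu ⟨hb, hc, sub_eq_zero.mp hd⟩
      have f0 : m 0 1 = 0 := by
        have : (u 0 0 - u 1 1) * m 0 1 = 0 := by rw [hb] at e2; linear_combination -e2
        exact (mul_eq_zero.mp this).resolve_left hd
      have g0 : m 1 0 = 0 := by
        have : (u 0 0 - u 1 1) * m 1 0 = 0 := by rw [hc] at e3; linear_combination e3
        exact (mul_eq_zero.mp this).resolve_left hd
      refine ⟨m 0 0 - (m 0 0 - m 1 1) / (u 0 0 - u 1 1) * u 0 0,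
        (m 0 0 - m 1 1) / (u 0 0 - u 1 1), ?_⟩
      apply ext2 <;> simp [hb, hc, f0, g0]
      field_simp
      ring
    · refine ⟨m 0 0 - m 1 0 / u 1 0 * u 0 0, m 1 0 / u 1 0, ?_⟩
      apply ext2 <;> simp
      · field_simp
        linear_combination e1
      · field_simp
      · field_simp
        linear_combination e3
  · refine ⟨m 0 0 - m 0 1 / u 0 1 * u 0 0, m 0 1 / u 0 1, ?_⟩
    apply ext2 <;> simp
    · field_simp
    · field_simp
      linear_combination -e1
    · field_simp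
      linear_combination -e2

theorem comm_of_comm (u m₁ m₂ : Matrix (Fin 2) (Fin 2) K) (hu : ¬ IsSc u) (h₁ : m₁ * u = u * m₁)
    (h₂ : m₂ * u = u * m₂) : m₁ * m₂ = m₂ * m₁ := by
  obtain ⟨α₁, β₁, rfl⟩ := cent_form u m₁ hu h₁
  obtain ⟨α₂, β₂, rfl⟩ := cent_form u m₂ hu h₂
  simp only [add_mul, mul_add, smul_mul_assoc, mul_smul_comm, one_mul, mul_one]
  module

local notation "SL2" => Matrix.SpecialLinearGroup (Fin 2)

theorem det_eq (u : SL2 K) : (u : Matrix (Fin 2) (Fin 2) K) 0 0 * (u : Matrix (Fin 2) (Fin 2) K) 1 1 -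
    (u : Matrix (Fin 2) (Fin 2) K) 0 1 * (u : Matrix (Fin 2) (Fin 2) K) 1 0 = 1 := by
  have := u.2
  rwa [Matrix.det_fin_two] at this

theorem sc_comm (u h : SL2 K) (hu : IsSc (u : Matrix (Fin 2) (Fin 2) K)) : h * u = u * h := by
  obtain ⟨h1, h2, h3⟩ := hu
  apply Subtype.ext
  obtain ⟨a1, a2, a3, a4⟩ := mul_entries (h : Matrix (Fin 2) (Fin 2) K) u
  obtain ⟨b1, b2, b3, b4⟩ := mul_entries (u : Matrix (Fin 2) (Fin 2) K) h
  rw [Matrix.SpecialLinearGroup.coe_mul, Matrix.SpecialLinearGroup.coe_mul]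
  apply ext2
  · rw [a1, b1, h1, h2]; ring
  · rw [a2, b2, h1, h3]; ring
  · rw [a3, b3, h2, h3]; ring
  · rw [a4, b4, h1, h2]; ring

theorem sc_sq (u : SL2 K) (hu : IsSc (u : Matrix (Fin 2) (Fin 2) K)) : u * u = 1 := by
  have hd := det_eq u
  obtain ⟨h1, h2, h3⟩ := hu
  apply Subtype.ext
  obtain ⟨a1, a2, a3, a4⟩ := mul_entries (u : Matrix (Fin 2) (Fin 2) K) u
  rw [Matrix.SpecialLinearGroup.coe_mul, Matrix.SpecialLinearGroup.coe_one]
  rw [h1, h2, h3] at hd
  apply ext2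
  · rw [a1, h1, h3]; simp; linear_combination hd
  · rw [a2, h1]; simp
  · rw [a3, h2]; simp
  · rw [a4, h1]; simp; linear_combination hd

theorem sc_of_sq (h2 : (2 : K) ≠ 0) (u : SL2 K) (hu : u * u = 1) :
    IsSc (u : Matrix (Fin 2) (Fin 2) K) := by
  have hd := det_eq u
  obtain ⟨a1, a2, a3, a4⟩ := mul_entries (u : Matrix (Fin 2) (Fin 2) K) u
  have hm : (u : Matrix (Fin 2) (Fin 2) K) * u = 1 := by
    rw [← Matrix.SpecialLinearGroup.coe_mul, hu, Matrix.SpecialLinearGroup.coe_one]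
  rw [hm] at a1 a2 a3 a4
  simp only [Matrix.one_apply_eq, ne_eq, zero_ne_one, not_false_eq_true, Matrix.one_apply_ne,
    one_ne_zero] at a1 a2 a3 a4
  set a := (u : Matrix (Fin 2) (Fin 2) K) 0 0
  set b := (u : Matrix (Fin 2) (Fin 2) K) 0 1
  set c := (u : Matrix (Fin 2) (Fin 2) K) 1 0
  set d := (u : Matrix (Fin 2) (Fin 2) K) 1 1
  have hs : a + d ≠ 0 := by
    intro hs
    apply h2
    have hd' : d = -a := by linear_combination hs
    rw [hd'] at hd
    linear_combination a1 - hd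
  have hb : b = 0 := by
    have : (a + d) * b = 0 := by linear_combination -a2
    exact (mul_eq_zero.mp this).resolve_left hs
  have hc : c = 0 := by
    have : (a + d) * c = 0 := by linear_combination -a3
    exact (mul_eq_zero.mp this).resolve_left hs
  refine ⟨hb, hc, ?_⟩
  have : (a + d) * (a - d) = 0 := by linear_combination a4 - a1
  exact sub_eq_zero.mp ((mul_eq_zero.mp this).resolve_left hs)

/-- Two commuting elements of `SL₂` with the same trace. -/
theorem conj_cases (h2 : (2 : K) ≠ 0) (u u' : SL2 K) (hu : ¬ IsSc (u : Matrix (Fin 2) (Fin 2) K))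
    (hc : u' * u = u * u')
    (ht : (u' : Matrix (Fin 2) (Fin 2) K) 0 0 + (u' : Matrix (Fin 2) (Fin 2) K) 1 1 =
      (u : Matrix (Fin 2) (Fin 2) K) 0 0 + (u : Matrix (Fin 2) (Fin 2) K) 1 1) :
    u' = u ∨ u' * u = 1 ∨
      ((u : Matrix (Fin 2) (Fin 2) K) 0 0 + (u : Matrix (Fin 2) (Fin 2) K) 1 1) ^ 2 = 4 := by
  have hd := det_eq u
  have hd' := det_eq u'
  have hcm : (u' : Matrix (Fin 2) (Fin 2) K) * u = u * u' := by
    rw [← Matrix.SpecialLinearGroup.coe_mul, hc, Matrix.SpecialLinearGroup.coe_mul]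
  obtain ⟨α, β, hαβ⟩ := cent_form _ _ hu hcm
  have e00 : (u' : Matrix (Fin 2) (Fin 2) K) 0 0 = α + β * (u : Matrix (Fin 2) (Fin 2) K) 0 0 := by
    rw [hαβ]; simp
  have e01 : (u' : Matrix (Fin 2) (Fin 2) K) 0 1 = β * (u : Matrix (Fin 2) (Fin 2) K) 0 1 := by
    rw [hαβ]; simp
  have e10 : (u' : Matrix (Fin 2) (Fin 2) K) 1 0 = β * (u : Matrix (Fin 2) (Fin 2) K) 1 0 := by
    rw [hαβ]; simp
  have e11 : (u' : Matrix (Fin 2) (Fin 2) K) 1 1 = α + β * (u : Matrix (Fin 2) (Fin 2) K) 1 1 := by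
    rw [hαβ]; simp
  obtain ⟨a1, a2, a3, a4⟩ := mul_entries (u' : Matrix (Fin 2) (Fin 2) K) u
  simp only [e00, e01, e10, e11] at hd' a1 a2 a3 a4 ht
  set a := (u : Matrix (Fin 2) (Fin 2) K) 0 0
  set b := (u : Matrix (Fin 2) (Fin 2) K) 0 1
  set c := (u : Matrix (Fin 2) (Fin 2) K) 1 0
  set d := (u : Matrix (Fin 2) (Fin 2) K) 1 1
  have key : (1 - β) * (1 + β) * ((a + d) ^ 2 - 4) = 0 := by
    have h2α : 2 * α = (a + d) * (1 - β) := by linear_combination ht
    have : 4 * ((α + β * a) * (α + β * d) - β * b * (β * c)) = 4 := by rw [hd']; ring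
    have e : 4 * ((α + β * a) * (α + β * d) - β * b * (β * c))
        = (2 * α) ^ 2 + 2 * (2 * α) * β * (a + d) + 4 * β ^ 2 * (a * d - b * c) := by ring
    rw [e, h2α, hd] at this
    linear_combination this
  rcases mul_eq_zero.mp key with h | h
  · rcases mul_eq_zero.mp h with h | h
    · left
      have hβ : β = 1 := by linear_combination -h
      have hα : α = 0 := by
        have : 2 * α = 0 := by rw [hβ] at ht; linear_combination ht
        exact (mul_eq_zero.mp this).resolve_left h2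
      apply Subtype.ext
      apply ext2
      · rw [e00, hα, hβ]; ring
      · rw [e01, hβ]; ring
      · rw [e10, hβ]; ring
      · rw [e11, hα, hβ]; ring
    · right; left
      have hβ : β = -1 := by linear_combination h
      have hα : α = a + d := by
        have : 2 * (α - (a + d)) = 0 := by rw [hβ] at ht; linear_combination ht
        exact sub_eq_zero.mp ((mul_eq_zero.mp this).resolve_left h2)
      apply Subtype.ext
      rw [Matrix.SpecialLinearGroup.coe_mul, Matrix.SpecialLinearGroup.coe_one]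
      apply ext2
      · rw [a1, hα, hβ]; simp; linear_combination hd
      · rw [a2, hα, hβ]; simp; ring
      · rw [a3, hα, hβ]; simp; ring
      · rw [a4, hα, hβ]; simp; linear_combination hd
  · right; right
    linear_combination h

theorem cayley (u : SL2 K) : (u : Matrix (Fin 2) (Fin 2) K) * u =
    ((u : Matrix (Fin 2) (Fin 2) K) 0 0 + (u : Matrix (Fin 2) (Fin 2) K) 1 1) •
      (u : Matrix (Fin 2) (Fin 2) K) - 1 := by
  have hd := det_eq u
  obtain ⟨a1, a2, a3, a4⟩ := mul_entries (u : Matrix (Fin 2) (Fin 2) K) u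
  apply ext2
  · rw [a1]; simp; linear_combination -hd
  · rw [a2]; simp; ring
  · rw [a3]; simp; ring
  · rw [a4]; simp; linear_combination -hd

theorem pow_of_trace {p : ℕ} [Fact p.Prime] [CharP K p] (u : SL2 K)
    (h : ((u : Matrix (Fin 2) (Fin 2) K) 0 0 + (u : Matrix (Fin 2) (Fin 2) K) 1 1) ^ 2 = 4) :
    u ^ (2 * p) = 1 := by
  have hp2 : 2 ≤ p := (Fact.out : p.Prime).two_le
  have hc := cayley u
  set τ := (u : Matrix (Fin 2) (Fin 2) K) 0 0 + (u : Matrix (Fin 2) (Fin 2) K) 1 1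
  have hτ : (τ - 2) * (τ + 2) = 0 := by linear_combination h
  have hpow : ∀ N : Matrix (Fin 2) (Fin 2) K, N * N = 0 → N ^ p = 0 := by
    intro N hN
    obtain ⟨k, rfl⟩ := Nat.exists_eq_add_of_le hp2
    rw [pow_add, pow_two, hN, zero_mul]
  apply Subtype.ext
  rw [Matrix.SpecialLinearGroup.coe_pow, Matrix.SpecialLinearGroup.coe_one, mul_comm, pow_mul]
  rcases mul_eq_zero.mp hτ with h1 | h1
  · have hτ2 : τ = 2 := by linear_combination h1
    have hN : ((u : Matrix (Fin 2) (Fin 2) K) - 1) * ((u : Matrix (Fin 2) (Fin 2) K) - 1) = 0 := by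
      rw [sub_mul, mul_sub, hc, hτ2, two_smul]
      simp only [mul_one, one_mul]
      abel
    have := hpow _ hN
    rw [sub_pow_char_of_commute _ (Commute.one_right _), one_pow, sub_eq_zero] at this
    rw [this, one_pow]
  · have hτ2 : τ = -2 := by linear_combination h1
    have hN : ((u : Matrix (Fin 2) (Fin 2) K) + 1) * ((u : Matrix (Fin 2) (Fin 2) K) + 1) = 0 := by
      rw [add_mul, mul_add, hc, hτ2, neg_smul, two_smul]
      simp only [mul_one, one_mul]
      abel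
    have := hpow _ hN
    rw [add_pow_char_of_commute _ (Commute.one_right _), one_pow] at this
    have e : (u : Matrix (Fin 2) (Fin 2) K) ^ p = -1 := eq_neg_of_add_eq_zero_left this
    rw [e]
    simp

theorem trace_conj (h u : SL2 K) :
    ((h * u * h⁻¹ : SL2 K) : Matrix (Fin 2) (Fin 2) K) 0 0 +
      ((h * u * h⁻¹ : SL2 K) : Matrix (Fin 2) (Fin 2) K) 1 1 =
    (u : Matrix (Fin 2) (Fin 2) K) 0 0 + (u : Matrix (Fin 2) (Fin 2) K) 1 1 := by
  rw [← Matrix.trace_fin_two, ← Matrix.trace_fin_two, Matrix.SpecialLinearGroup.coe_mul,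
    Matrix.trace_mul_comm, ← Matrix.SpecialLinearGroup.coe_mul, inv_mul_cancel_left]

theorem comm_of_comm' (u m₁ m₂ : SL2 K) (hu : ¬ IsSc (u : Matrix (Fin 2) (Fin 2) K))
    (h₁ : m₁ * u = u * m₁) (h₂ : m₂ * u = u * m₂) : m₁ * m₂ = m₂ * m₁ := by
  apply Subtype.ext
  rw [Matrix.SpecialLinearGroup.coe_mul, Matrix.SpecialLinearGroup.coe_mul]
  apply comm_of_comm _ _ _ hu
  · rw [← Matrix.SpecialLinearGroup.coe_mul, h₁, Matrix.SpecialLinearGroup.coe_mul]
  · rw [← Matrix.SpecialLinearGroup.coe_mul, h₂, Matrix.SpecialLinearGroup.coe_mul]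

theorem conj_pow_of_inv {G : Type*} [Group G] (h u : G) (hi : h * u * h⁻¹ = u⁻¹) (k : ℕ) :
    h ^ (2 * k + 1) * u * (h ^ (2 * k + 1))⁻¹ = u⁻¹ := by
  have key : ∀ k : ℕ, ((MulAut.conj h) ^ (2 * k + 1)) u = u⁻¹ := by
    intro k
    induction k with
    | zero => simpa using hi
    | succ k ih =>
      have e : 2 * (k + 1) + 1 = (2 * k + 1) + 1 + 1 := by ring
      have hi' : (MulAut.conj h) u = u⁻¹ := by rw [MulAut.conj_apply, hi]
      rw [e, pow_succ', pow_succ', MulAut.mul_apply, MulAut.mul_apply, ih, map_inv, hi', inv_inv,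
        hi']
  have := key k
  rw [← map_pow, MulAut.conj_apply] at this
  exact this

/-- Main local lemma. -/
theorem comm_of_normalizes {p : ℕ} [Fact p.Prime] [CharP K p] (h2 : (2 : K) ≠ 0) (u h : SL2 K)
    (hu : ¬ IsSc (u : Matrix (Fin 2) (Fin 2) K)) (hn : u ^ (2 * p) ≠ 1)
    (hc : (h * u * h⁻¹) * u = u * (h * u * h⁻¹)) (m : ℕ) (hm : Odd m)
    (hmc : h ^ m * u = u * h ^ m) : h * u = u * h := by
  rcases conj_cases h2 u (h * u * h⁻¹) hu hc (trace_conj h u) with h1 | h1 | h1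
  · calc h * u = (h * u * h⁻¹) * h := by group
      _ = u * h := by rw [h1]
  · exfalso
    have hi : h * u * h⁻¹ = u⁻¹ := eq_inv_of_mul_eq_one_left h1
    obtain ⟨k, rfl⟩ := hm
    have e := conj_pow_of_inv h u hi k
    have e2 : h ^ (2 * k + 1) * u * (h ^ (2 * k + 1))⁻¹ = u := by rw [hmc]; group
    have e3 : u * u = 1 := by
      have : u = u⁻¹ := e2.symm.trans e
      calc u * u = u * u⁻¹ := by rw [← this]
        _ = 1 := mul_inv_cancel u
    apply hn
    rw [pow_mul, pow_two, e3, one_pow]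
  · exact absurd (pow_of_trace u h1) hn

end Cfsg.Agent.Lib.Helper5
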