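import Cfsg.Agent.Lib.Helper5.DK9

set_option autoImplicit false
set_option linter.style.haveILetI false
set_option linter.unusedSectionVars false

namespace Cfsg.Agent.Lib.Helper5

open MulAction OnePoint

local notation "SL2" => Matrix.SpecialLinearGroup (Fin 2)

variable {K : Type*} [Field K]

theorem exists_conj_tU {p : ℕ} [Fact p.Prime] [CharP K p] (hp2 : p ≠ 2)
    (a : SL2 K) (ha : ∃ k : ℕ, a ^ (p ^ k) = 1) (ha1 : a ≠ 1) :
    ∃ (g : SL2 K) (l : K), l ≠ 0 ∧ g * a * g⁻¹ = tU l := by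
  classical
  have h2 : (2 : K) ≠ 0 := two_ne_zero_of_char hp2
  obtain ⟨ka, hka⟩ := ha
  have hta := trace_of_pelt a ka hka
  have hsa : ¬ IsSc a.1 := by
    intro h
    rcases (sc_iff a).mp h with h | h
    · exact ha1 h
    · rw [h] at hta
      simp only [negOne] at hta
      apply h2
      have h4 : (2 : K) * 2 = 0 := by
        have : (-1 : K) + -1 = 2 := by simpa using hta
        linear_combination -this
      rcases mul_eq_zero.mp h4 with h | h <;> exact h
  obtain ⟨P, hP⟩ := Set.ncard_eq_one.mp (fixedBy_par h2 a hsa (by rw [hta]; norm_num))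
  have haP : a • P = P := by
    have : P ∈ fixedBy (OnePoint K) a := by rw [hP]; rfl
    exact this
  obtain ⟨g, hg⟩ := exists_act_inf P
  have h1 := par_fix_inf (g * a * g⁻¹) (by rw [trace_conj, hta])
    ((fix_inf _).mp (conj_fix g a P _ hg haP))
  refine ⟨g, _, ?_, h1⟩
  intro h0
  rw [h0, tU_zero] at h1
  apply ha1
  have := mul_inv_eq_one.mp h1
  exact mul_left_cancel (this.trans (mul_one g).symm)

theorem comm_conj_tU_entries (h2 : (2 : K) ≠ 0) (b : SL2 K) (l : K) (hl : l ≠ 0)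
    (h : b * (tU l * b * (tU l)⁻¹) = (tU l * b * (tU l)⁻¹) * b) :
    b.1 1 0 = 0 ∧ b.1 0 0 = b.1 1 1 := by
  rw [tU_inv] at h
  have e10 := congrFun (congrFun (congrArg Subtype.val h) 1) 0
  have e01 := congrFun (congrFun (congrArg Subtype.val h) 0) 1
  simp only [Matrix.SpecialLinearGroup.coe_mul, coe_tU, Matrix.mul_apply, Fin.sum_univ_two,
    Matrix.of_apply, Matrix.cons_val', Matrix.cons_val_zero, Matrix.cons_val_one,
    Matrix.cons_val_fin_one] at e10 e01
  have hz : b.1 1 0 = 0 := by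
    have : 2 * l * (b.1 1 0) ^ 2 = 0 := by linear_combination e10
    rcases mul_eq_zero.mp this with h | h
    · rcases mul_eq_zero.mp h with h | h
      · exact absurd h h2
      · exact absurd h hl
    · exact pow_eq_zero_iff (two_ne_zero) |>.mp h
  refine ⟨hz, ?_⟩
  rw [hz] at e01
  have : l * (b.1 0 0 - b.1 1 1) ^ 2 = 0 := by linear_combination -e01
  rcases mul_eq_zero.mp this with h | h
  · exact absurd h hl
  · exact sub_eq_zero.mp (pow_eq_zero_iff (two_ne_zero) |>.mp h)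

/-- a `p'`-element commuting with its conjugate under a nontrivial `p`-element is scalar. -/
theorem sc_of_comm_conj {p : ℕ} [Fact p.Prime] [CharP K p] (hp2 : p ≠ 2)
    (g b : SL2 K) (hg : ∃ k : ℕ, g ^ (p ^ k) = 1) (hg1 : g ≠ 1)
    (n : ℕ) (hn : n.Coprime p) (hb : b ^ n = 1)
    (h : b * (g * b * g⁻¹) = (g * b * g⁻¹) * b) : b = 1 ∨ b = negOne := by
  classical
  have h2 : (2 : K) ≠ 0 := two_ne_zero_of_char hp2
  obtain ⟨c, l, hl, hc⟩ := exists_conj_tU hp2 g hg hg1
  obtain ⟨b1, hb1⟩ : ∃ b1 : SL2 K, b1 = c * b * c⁻¹ := ⟨_, rfl⟩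
  have hcomm : b1 * (tU l * b1 * (tU l)⁻¹) = (tU l * b1 * (tU l)⁻¹) * b1 := by
    have e : tU l * b1 * (tU l)⁻¹ = c * (g * b * g⁻¹) * c⁻¹ := by
      rw [← hc, hb1]; group
    rw [e, hb1]
    have : c * b * c⁻¹ * (c * (g * b * g⁻¹) * c⁻¹) = c * (b * (g * b * g⁻¹)) * c⁻¹ := by group
    rw [this, h]; group
  obtain ⟨h10, h00⟩ := comm_conj_tU_entries h2 b1 l hl hcomm
  have hd := det_eq b1
  rw [h10, ← h00] at hd
  have hsq : b1 * b1 = tU (2 * b1.1 0 0 * b1.1 0 1) := by
    apply Subtype.ext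
    obtain ⟨a1, a2, a3, a4⟩ := mul_entries b1.1 b1.1
    rw [Matrix.SpecialLinearGroup.coe_mul, coe_tU]
    apply ext2
    · rw [a1, h10]; simp; linear_combination hd
    · rw [a2, ← h00]; simp; ring
    · rw [a3, h10]; simp
    · rw [a4, h10, ← h00]; simp; linear_combination hd
  have hb1n : b1 ^ n = 1 := by
    rw [hb1, conj_pow, hb]; simp
  have h3 : (b1 * b1) ^ n = 1 := by
    rw [← pow_two, ← pow_mul, mul_comm, pow_mul, hb1n, one_pow]
  rw [hsq, tU_pow, ← tU_zero] at h3
  have h4 := tU_injective h3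
  have hnK : (n : K) ≠ 0 := by
    intro h0
    rw [CharP.cast_eq_zero_iff K p] at h0
    have : p ∣ Nat.gcd n p := Nat.dvd_gcd h0 (dvd_refl p)
    rw [hn] at this
    exact (Fact.out : p.Prime).one_lt.ne' (Nat.dvd_one.mp this)
  have hx : b1.1 0 0 ≠ 0 := by
    intro h0; rw [h0] at hd; simp at hd
  have h01 : b1.1 0 1 = 0 := by
    rcases mul_eq_zero.mp h4 with h | h
    · exact absurd h hnK
    · rcases mul_eq_zero.mp h with h | h
      · rcases mul_eq_zero.mp h with h | h
        · exact absurd h h2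
        · exact absurd h hx
      · exact h
  have hsc : IsSc b1.1 := ⟨h01, h10, h00⟩
  have hbb : b = b1 := by
    have := sc_comm b1 c hsc
    rw [hb1] at this ⊢
    have h5 : c * (c * b * c⁻¹) = c * b := by
      rw [this]; group
    have h6 := mul_left_cancel h5
    exact h6.symm
  rw [hbb]
  exact (sc_iff b1).mp hsc

theorem sq_eq_one_sl2 (h2 : (2 : K) ≠ 0) (x : SL2 K) (hx : x * x = 1) : x = 1 ∨ x = negOne := by
  classical
  apply (sc_iff x).mp
  have hd := det_eq x
  obtain ⟨a1, a2, a3, a4⟩ := mul_entries x.1 x.1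
  have e := congrArg Subtype.val hx
  rw [Matrix.SpecialLinearGroup.coe_mul, Matrix.SpecialLinearGroup.coe_one] at e
  rw [e] at a1 a2 a3 a4
  simp only [Matrix.one_apply_eq, ne_eq, zero_ne_one, not_false_eq_true, Matrix.one_apply_ne,
    one_ne_zero] at a1 a2 a3 a4
  have k1 : x.1 0 0 * (x.1 0 0 + x.1 1 1) = 2 := by linear_combination -a1 + hd
  have k2 : x.1 1 1 * (x.1 0 0 + x.1 1 1) = 2 := by linear_combination -a4 + hd
  have ht : x.1 0 0 + x.1 1 1 ≠ 0 := by
    intro h0; rw [h0, mul_zero] at k1; exact h2 k1.symm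
  refine ⟨?_, ?_, ?_⟩
  · have : x.1 0 1 * (x.1 0 0 + x.1 1 1) = 0 := by linear_combination -a2
    exact (mul_eq_zero.mp this).resolve_right ht
  · have : x.1 1 0 * (x.1 0 0 + x.1 1 1) = 0 := by linear_combination -a3
    exact (mul_eq_zero.mp this).resolve_right ht
  · have : (x.1 0 0 - x.1 1 1) * (x.1 0 0 + x.1 1 1) = 0 := by linear_combination k1 - k2
    exact sub_eq_zero.mp ((mul_eq_zero.mp this).resolve_right ht)

end Cfsg.Agent.Lib.Helper5
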