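import Cfsg.Agent.Lib.Helper5.SLN2

set_option autoImplicit false
set_option linter.style.haveILetI false
set_option linter.unusedSectionVars false

namespace Cfsg.Agent.Lib.Helper5

local notation "SL2" => Matrix.SpecialLinearGroup (Fin 2)

/-- a nonabelian `2`-subgroup of `SL₂(F)`, `char F ≠ 2`, is generalised quaternion -/
theorem two_subgroup_sl2 {F : Type*} [Field F] [Finite F] (h2 : (2 : F) ≠ 0)
    (R : Subgroup (SL2 F)) (h2grp : IsPGroup 2 R)
    (hnab : ¬ ∀ x ∈ R, ∀ y ∈ R, x * y = y * x) :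
    ∃ k : ℕ, 1 ≤ k ∧ Nonempty (R ≃* QuaternionGroup (2 ^ k)) := by
  classical
  haveI : Fact (Nat.Prime 2) := ⟨Nat.prime_two⟩
  have hmem : ∀ H : Subgroup R, Nat.card H = 2 → ∀ x : R, x ∈ H ↔ (x.1 = 1 ∨ x.1 = negOne) := by
    intro H hH x
    have hsq : ∀ y ∈ H, (y : SL2 F) = 1 ∨ (y : SL2 F) = negOne := by
      intro y hy
      apply sq_eq_one_sl2 h2
      have := pow_card_eq_one' (G := H) (x := ⟨y, hy⟩)
      rw [hH, pow_two] at this
      exact congrArg (fun w : H => ((w : R) : SL2 F)) this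
    constructor
    · exact hsq x
    · rintro (h | h)
      · have : x = 1 := Subtype.ext h
        rw [this]; exact H.one_mem
      · haveI : Nontrivial H := by
          rw [← Finite.one_lt_card_iff_nontrivial, hH]; norm_num
        obtain ⟨y, hy⟩ := exists_ne (1 : H)
        have hy1 : ((y : R) : SL2 F) ≠ 1 := by
          intro h1
          apply hy
          apply Subtype.ext; apply Subtype.ext
          exact h1
        have := (hsq y y.2).resolve_left hy1
        have hxy : x = y := Subtype.ext (h.trans this.symm)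
        rw [hxy]; exact y.2
  have huniq : ∀ H K : Subgroup R, Nat.card H = 2 → Nat.card K = 2 → H = K := by
    intro H K hH hK
    ext x
    rw [hmem H hH, hmem K hK]
  have hnab' : ¬ ∀ x y : R, x * y = y * x := by
    intro h
    apply hnab
    intro x hx y hy
    exact congrArg Subtype.val (h ⟨x, hx⟩ ⟨y, hy⟩)
  rcases Cfsg.Agent.S0016.result 2 h2grp huniq with hc | ⟨-, n, ⟨e⟩⟩
  · exfalso
    apply hnab'
    intro x y
    obtain ⟨g, hg⟩ := IsCyclic.exists_generator (α := R)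
    obtain ⟨i, rfl⟩ := Subgroup.mem_zpowers_iff.mp (hg x)
    obtain ⟨j, rfl⟩ := Subgroup.mem_zpowers_iff.mp (hg y)
    rw [← zpow_add, ← zpow_add, add_comm]
  · rcases n with _ | n
    · exfalso
      have hcard : Nat.card R = 2 ^ 2 := by
        rw [Nat.card_congr e.toEquiv, Nat.card_eq_fintype_card, QuaternionGroup.card]; norm_num
      haveI := IsPGroup.isMulCommutative_of_card_eq_prime_sq hcard
      exact hnab' (fun x y => mul_comm' x y)
    · exact ⟨n + 1, by omega, ⟨e⟩⟩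

theorem sylow2_quaternion_of_sylow_p {F : Type*} [Field F] [Finite F] (p : ℕ) [Fact p.Prime]
    [CharP F p] (hp : p ≠ 2) (H : Subgroup (SL2 F)) (hH : 1 < Nat.card (Sylow p H))
    (S : Sylow 2 H) : ∃ k : ℕ, 1 ≤ k ∧ Nonempty ((S : Subgroup H) ≃* QuaternionGroup (2 ^ k)) := by
  classical
  have h2 : (2 : F) ≠ 0 := two_ne_zero_of_char hp
  haveI : Nontrivial (Sylow p H) := Finite.one_lt_card_iff_nontrivial.mp hH
  obtain ⟨P, Q, hPQ⟩ := exists_pair_ne (Sylow p H)
  obtain ⟨a, ha, b, hb, hab⟩ := exists_noncomm_of_sylow P Q hPQ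
  have hnabS : ¬ ∀ s ∈ (S : Subgroup H), ∀ t ∈ (S : Subgroup H), s * t = t * s := by
    intro hT
    apply hab
    obtain ⟨k, hk⟩ := P.2 ⟨a, ha⟩
    obtain ⟨l, hl⟩ := Q.2 ⟨b, hb⟩
    have := pelts_comm_of_abelian (p := p) hp H S hT a.1 a.2 b.1 b.2
      ⟨k, congrArg (fun w : (P : Subgroup H) => ((w : H) : SL2 F)) hk⟩
      ⟨l, congrArg (fun w : (Q : Subgroup H) => ((w : H) : SL2 F)) hl⟩
    exact Subtype.ext this
  obtain ⟨e, -⟩ : ∃ e : (S : Subgroup H) ≃* (S : Subgroup H).map H.subtype, True :=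
    ⟨(S : Subgroup H).equivMapOfInjective _ H.subtype_injective, trivial⟩
  obtain ⟨k, hk, ⟨f⟩⟩ := two_subgroup_sl2 h2 ((S : Subgroup H).map H.subtype)
    (S.2.map H.subtype) (by
      intro h
      apply hnabS
      intro s hs t ht
      exact Subtype.ext (h s.1 ⟨s, hs, rfl⟩ t.1 ⟨t, ht, rfl⟩))
  exact ⟨k, hk, ⟨e.trans f⟩⟩

end Cfsg.Agent.Lib.Helper5
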