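import Cfsg.Agent.Lib.Helper5.WS4
import Cfsg.Agent.Lib.Helper5.SerClass
import Cfsg.Agent.Lib.Helper5.NPCApp

set_option autoImplicit false

namespace Cfsg.Agent.Lib.Helper5

open Cfsg
open scoped commutatorElement

universe u

variable {p : ℕ}

theorem SerClass.stableOnSection [Fact p.Prime] (hp : p ≠ 2) {X : Type*} [Group X] [Finite X]
    (h : SerClass p X) (K N : Subgroup X) [hK : K.Normal] [N.Normal] (hKp : IsPGroup p K) :
    IsPStableOnSection p K N := by
  intro a ha
  have hs := QuotientGroup.mk'_surjective N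
  haveI hVn : (K.map (QuotientGroup.mk' N)).Normal := hK.map _ hs
  have hq : ⁅⁅K.map (QuotientGroup.mk' N), Subgroup.zpowers (QuotientGroup.mk' N a)⁆,
      Subgroup.zpowers (QuotientGroup.mk' N a)⁆ = ⊥ := by
    rw [← MonoidHom.map_zpowers, ← Subgroup.map_commutator, ← Subgroup.map_commutator,
      eq_bot_iff, Subgroup.map_le_iff_le_comap]
    refine ha.trans ?_
    conv_lhs => rw [← QuotientGroup.ker_mk' N]
    exact Subgroup.ker_le_comap _ _
  have h1 := (h.of_surjective _ hs).stable hp (K.map (QuotientGroup.mk' N)) (hKp.map _) _ hq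
  refine ⟨(stabCore p (K.map (QuotientGroup.mk' N))).comap (QuotientGroup.mk' N), inferInstance,
    Subgroup.comap_mono (centralizer_le_stabCore _), ?_, h1⟩
  unfold sectionKernel
  rw [Subgroup.relIndex_comap, Subgroup.map_comap_eq_self_of_surjective hs]
  unfold stabCore
  rw [relIndex_eq_card_map, Subgroup.map_comap_eq_self_of_surjective
    (QuotientGroup.mk'_surjective _)]
  exact IsPGroup.iff_card.mp pCore_isPGroup

theorem SerClass.actionPStable [Fact p.Prime] (hp : p ≠ 2) {X : Type*} [Group X] [Finite X]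
    (h : SerClass p X) : IsActionPStable p X := by
  refine ⟨fun V _ hV a ha => h.stable hp V (elemAb_isPGroup hV) a ha,
    h.stableOnSection hp _ _ pCore_isPGroup, ?_⟩
  intro S V _ hV a ha
  refine (h.subgroup _).stable hp V ?_ a ha
  have h1 : IsPGroup p (V.map
      (Subgroup.normalizer (thompsonSubgroupOf p (S : Subgroup X) : Set X)).subtype) :=
    S.2.to_le (hV.trans (Subgroup.map_subtype_le _))
  exact h1.of_equiv (V.equivMapOfInjective _ (Subgroup.subtype_injective _)).symm

theorem npc_ws [Fact p.Prime] (hp : p ≠ 2) {G : Type u} [Group G] [Finite G] (S : Sylow p G)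
    (hN : NPC p ↥(Subgroup.normalizer
      (((stableNormalClosure p ↥(S : Subgroup G)).map (S : Subgroup G).subtype) : Set G))) :
    NPC p G := by
  refine npc_functor (ws_char (p := p)) True (fun _ _ => True) (fun _ _ _ _ => trivial)
    (fun _ _ _ _ _ => trivial) ?_ G trivial S S ⟨le_rfl, fun x _ g hg => hg⟩ (fun _ => rfl) hN
  intro X _ _ _ T D _ hfull hc hq hco
  rw [hfull trivial]
  exact ws_normal ((serClass_of_final hq T hco).actionPStable hp) hc T

end Cfsg.Agent.Lib.Helper5
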