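import Cfsg.Agent.Lib.Helper5.QD14
import Cfsg.Agent.S3836

set_option autoImplicit false
set_option linter.style.haveILetI false
set_option linter.unusedSectionVars false
set_option linter.unusedSimpArgs false

namespace Cfsg.Agent.Lib.Helper5

open Cfsg Cfsg.Agent.Lib.Helper13

universe u

variable {p : ℕ} [Fact p.Prime]

/-- stability on normal `p`-subgroups passes to the quotient by a normal `p'`-subgroup -/
theorem stableOn_quot_pPrime {X : Type*} [Group X] [Finite X] (hs : IsNormalizerPStable p X)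
    (K : Subgroup X) [K.Normal] (hK : (Nat.card K).Coprime p) (T : Sylow p X)
    (V' : Subgroup (X ⧸ K)) [hV'n : V'.Normal] (hV' : IsPGroup p V') (a' : X ⧸ K)
    (ha' : a' ∈ (T : Subgroup X).map (QuotientGroup.mk' K))
    (hq : ⁅⁅V', Subgroup.zpowers a'⁆, Subgroup.zpowers a'⁆ = ⊥) :
    (QuotientGroup.mk a' : (X ⧸ K) ⧸ Subgroup.centralizer (V' : Set (X ⧸ K))) ∈
      pCore p ((X ⧸ K) ⧸ Subgroup.centralizer (V' : Set (X ⧸ K))) := by
  obtain ⟨a, haT, rfl⟩ := ha'
  have hsurj := QuotientGroup.mk'_surjective K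
  obtain ⟨V, hVdef⟩ : ∃ V, V = (T : Subgroup X) ⊓ V'.comap (QuotientGroup.mk' K) := ⟨_, rfl⟩
  have hVp : IsPGroup p V := hVdef ▸ T.2.to_le inf_le_left
  have hVmap : V.map (QuotientGroup.mk' K) = V' := by
    apply le_antisymm
    · rintro _ ⟨v, hv, rfl⟩
      rw [hVdef] at hv
      exact hv.2
    · intro v' hv'
      have h1 : V' ≤ ((T.mapSurjective hsurj : Sylow p (X ⧸ K)) : Subgroup (X ⧸ K)) :=
        hV'.le_sylow_of_normal _
      obtain ⟨t, ht, rfl⟩ := h1 hv'
      exact ⟨t, hVdef ▸ ⟨ht, hv'⟩, rfl⟩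
  have haN : a ∈ Subgroup.normalizer (V : Set X) := by
    apply mem_normalizer_of_conj_le
    intro y hy
    rw [hVdef] at hy ⊢
    refine ⟨(T : Subgroup X).mul_mem ((T : Subgroup X).mul_mem haT hy.1)
      ((T : Subgroup X).inv_mem haT), ?_⟩
    exact (inferInstance : (V'.comap (QuotientGroup.mk' K)).Normal).conj_mem y hy.2 a
  have hzN : Subgroup.zpowers a ≤ Subgroup.normalizer (V : Set X) := Subgroup.zpowers_le.mpr haN
  have hq' : ⁅⁅V, Subgroup.zpowers a⁆, Subgroup.zpowers a⁆ = ⊥ := by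
    have h1 : ⁅V, Subgroup.zpowers a⁆ ≤ V :=
      Cfsg.Agent.Lib.Helper17.commutator_le_left_of_le_normalizer hzN
    have h2 : ⁅⁅V, Subgroup.zpowers a⁆, Subgroup.zpowers a⁆ ≤ V :=
      (Subgroup.commutator_mono h1 le_rfl).trans h1
    have h3 : ⁅⁅V, Subgroup.zpowers a⁆, Subgroup.zpowers a⁆ ≤ K := by
      rw [← QuotientGroup.ker_mk' K, ← Subgroup.map_eq_bot_iff, Subgroup.map_commutator,
        Subgroup.map_commutator, hVmap, MonoidHom.map_zpowers]
      exact hq
    rw [eq_bot_iff, ← pgroup_inf_coprime_eq_bot hVp hK]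
    exact le_inf h2 h3
  have h1 := hs V hVp a haN hq'
  have hψ : Function.Surjective ((QuotientGroup.mk' K).comp
      (Subgroup.normalizer (V : Set X)).subtype) := by
    intro y
    obtain ⟨g, rfl⟩ := hsurj y
    obtain ⟨h, hh, e⟩ := exists_mem_normalizer_of_quot hK hVp (g := g) (by
      rw [hVmap, Subgroup.normalizer_eq_top_iff.mpr hV'n]; exact Subgroup.mem_top _)
    exact ⟨⟨h, hh⟩, e⟩
  have hKL : (Subgroup.centralizer (V : Set X)).subgroupOf (Subgroup.normalizer (V : Set X)) =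
      (Subgroup.centralizer (V' : Set (X ⧸ K))).comap ((QuotientGroup.mk' K).comp
      (Subgroup.normalizer (V : Set X)).subtype) := by
    ext ⟨g, hg⟩
    rw [Subgroup.mem_subgroupOf, Subgroup.mem_comap]
    simp only [MonoidHom.comp_apply, Subgroup.subtype_apply]
    rw [Subgroup.mem_centralizer_iff, Subgroup.mem_centralizer_iff]
    constructor
    · intro h v' hv'
      rw [← hVmap] at hv'
      obtain ⟨v, hv, rfl⟩ := hv'
      rw [← map_mul, ← map_mul, h v hv]
    · intro h v hv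
      have h2 := h (QuotientGroup.mk' K v) (hVmap ▸ ⟨v, hv, rfl⟩)
      have h3 : g * v * g⁻¹ * v⁻¹ ∈ K := by
        rw [← QuotientGroup.ker_mk' K, MonoidHom.mem_ker]
        simp only [map_mul, map_inv]
        rw [← h2]
        group
      have h4 : g * v * g⁻¹ * v⁻¹ ∈ V :=
        mul_mem ((Subgroup.mem_normalizer_iff.mp hg v).mp hv) (inv_mem hv)
      have h5 : g * v * g⁻¹ * v⁻¹ ∈ V ⊓ K := ⟨h4, h3⟩
      rw [pgroup_inf_coprime_eq_bot hVp hK, Subgroup.mem_bot] at h5
      calc v * g = (g * v * g⁻¹ * v⁻¹)⁻¹ * (g * v) := by group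
        _ = g * v := by rw [h5]; group
  exact (quot_pCore_mem_iff (p := p) _ hψ _ _ hKL ⟨a, haN⟩).mp h1

/-- the hypothesis on a functor: normal in constrained groups that are stable on normal subgroups -/
def DNormalHyp (p : ℕ) (W : ∀ (Q : Type u) [Group Q], Subgroup Q) : Prop :=
  ∀ (Z : Type u) [Group Z] [Finite Z], Constr p Z → ∀ (T : Sylow p Z) (D : Subgroup Z),
    IsStronglyClosed D (T : Subgroup Z) →
    (∀ (V : Subgroup Z) [V.Normal], IsPGroup p V → ∀ a ∈ (T : Subgroup Z),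
      ⁅⁅V, Subgroup.zpowers a⁆, Subgroup.zpowers a⁆ = ⊥ →
        (QuotientGroup.mk a : Z ⧸ Subgroup.centralizer (V : Set Z)) ∈
          pCore p (Z ⧸ Subgroup.centralizer (V : Set Z))) →
    (inducedFunctor (G := Z) W D).Normal

theorem csf_D_of_constrained {W : ∀ (Q : Type u) [Group Q], Subgroup Q}
    (hW : IsCharPFunctor.{u} p W) (hWn : DNormalHyp p W)
    {X : Type u} [Group X] [Finite X] (hs : IsNormalizerPStable p X) (hc : IsPConstrained p X)
    (S : Sylow p X) (D : Subgroup X) (hD : IsStronglyClosed D (S : Subgroup X)) :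
    FCSF {fun _ => inducedFunctor (G := X) W D} ⊤ (S : Subgroup X) := by
  obtain ⟨V, hV⟩ : ∃ V, V = inducedFunctor (G := X) W D := ⟨_, rfl⟩
  rw [← hV]
  have hcf := induced_isConjugacyFunctor (X := X) hW
  have hDp : IsPGroup p D := S.2.to_le hD.1
  have hVD : V ≤ D := hV ▸ induced_le D
  have hVS : V ≤ S := hVD.trans hD.1
  have hSD : (S : Subgroup X) ≤ Subgroup.normalizer (D : Set X) := sc_le_normalizer hD
  have hDV : Subgroup.normalizer (D : Set X) ≤ Subgroup.normalizer (V : Set X) :=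
    hV ▸ normalizer_le_normalizer_functor hcf hDp
  have hSV : (S : Subgroup X) ≤ Subgroup.normalizer (V : Set X) := hSD.trans hDV
  have hK := Cfsg.Agent.Lib.Helper10.pPrimeCore_mem p X
  have := hK.1
  have hKc : (Nat.card (QuotientGroup.mk' (Cfsg.pPrimeCore p X)).ker).Coprime p := by
    rw [QuotientGroup.ker_mk']; exact hK.2
  have hn := hWn (X ⧸ Cfsg.pPrimeCore p X) (isPConstrained_iff.mp hc)
    (S.mapSurjective (QuotientGroup.mk'_surjective _)) (D.map (QuotientGroup.mk' _))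
    (sc_map_pprime hD _)
    (fun V' _ hV' a' ha' hq => stableOn_quot_pPrime hs _ hK.2 S V' hV' a' ha' hq)
  have h1 : FCSF {fun _ => inducedFunctor (G := X ⧸ Cfsg.pPrimeCore p X) W
      (D.map (QuotientGroup.mk' (Cfsg.pPrimeCore p X)))} ⊤
      ((S : Subgroup X).map (QuotientGroup.mk' (Cfsg.pPrimeCore p X))) := by
    intro B hB g _ _
    exact FGood.step rfl (Subgroup.mem_inf.mpr ⟨Subgroup.mem_top _, by
      rw [Subgroup.normalizer_eq_top_iff.mpr hn]; exact Subgroup.mem_top _⟩) hB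
  rw [induced_map hW (QuotientGroup.mk' (Cfsg.pPrimeCore p X)) D hDp (fun x hx h1 =>
    eq_of_map_eq_of_coprime _ hKc hDp hx D.one_mem (by rw [h1, map_one])), ← hV] at h1
  exact FCSF_pPrime_const (QuotientGroup.mk' (Cfsg.pPrimeCore p X))
    (QuotientGroup.mk'_surjective _) hKc S S.2 V hVS hSV h1

/-- relative version inside a subgroup `H` -/
theorem csf_D_rel {W : ∀ (Q : Type u) [Group Q], Subgroup Q}
    (hW : IsCharPFunctor.{u} p W) (hWn : DNormalHyp p W)
    {G : Type u} [Group G] [Finite G] (hs : IsNormalizerPStable p G) (H : Subgroup G)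
    (hc : IsPConstrained p ↥H) (R : Subgroup G) (hRH : R ≤ H) (hR : IsPGroup p R)
    (hRi : ¬ p ∣ R.relIndex H) (D : Subgroup G) (hDR : D ≤ R)
    (hD : IsStronglyClosed (D.subgroupOf H) (R.subgroupOf H)) :
    FCSF {fun _ => inducedFunctor (G := G) W D} H R := by
  have hRp : IsPGroup p (R.subgroupOf H) := hR.comap_subtype
  have hRi' : ¬ p ∣ (R.subgroupOf H).index := hRi
  have h1 := csf_D_of_constrained hW hWn (Cfsg.Agent.S3836.result hs H) hc (hRp.toSylow hRi')
    (D.subgroupOf H) hD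
  have h2 := CSF_of_subgroup H _ _ (CSF_iff_FCSF.mpr h1)
  rw [← induced_map hW H.subtype (D.subgroupOf H) (hR.to_le hDR).comap_subtype
    (fun x _ hx => Subtype.ext hx), Subgroup.map_subgroupOf_eq_of_le (hDR.trans hRH),
    IsPGroup.toSylow_coe, Subgroup.map_subgroupOf_eq_of_le hRH] at h2
  exact CSF_iff_FCSF.mp h2

theorem zjA_DNormalHyp (hp : p ≠ 2) : DNormalHyp.{u} p zjA := by
  intro Z _ _ hC T D hD hst
  rw [iF_zjA, centerThompsonAOf_eq]
  exact zj_normal_D hp _ (fun _ h => h) inferInstance (fun σ A hA => comm_map _ hA)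
    (fun _ _ _ hT _ => hT) hC T D hD hst

theorem zjE_DNormalHyp (hp : p ≠ 2) : DNormalHyp.{u} p (zjE p) := by
  intro Z _ _ hC T D hD hst
  rw [iF_zjE, omegaOne_centerThompsonOf_eq]
  exact zj_normal_D hp _ (fun _ h => h.1) elemAb_bot (fun σ A hA => elemAb_map _ hA)
    (fun A _ hA hT h => ⟨hT, h p hA.2⟩) hC T D hD hst

theorem csf_D_local {W : ∀ (Q : Type u) [Group Q], Subgroup Q}
    (hW : IsCharPFunctor.{u} p W) (hWn : DNormalHyp p W) (hp : p ≠ 2)
    {G : Type u} [Group G] [Finite G] (hs : IsNormalizerPStable p G) (P : Sylow p G)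
    (hc : ∀ U : Subgroup G, U ≤ (P : Subgroup G) → U ≠ ⊥ →
      IsPConstrained p ↥(Subgroup.normalizer (U : Set G)))
    (D : Subgroup G) (hD : IsStronglyClosed D (P : Subgroup G)) :
    FCSF {fun _ => inducedFunctor (G := G) W D} ⊤ (P : Subgroup G) := by
  by_cases hPb : (P : Subgroup G) = ⊥
  · intro B hB g _ _
    rw [hPb, le_bot_iff] at hB
    rw [hB]
    exact FGood.bot _ _ _ g
  have hcfA := induced_isConjugacyFunctor (X := G) (zjA_char (p := p))
  have h1 : FCSF {inducedFunctor (G := G) zjA} ⊤ (P : Subgroup G) := by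
    refine FCSF_top_of_local P _ (by rintro _ rfl; exact hcfA)
      {U | U ≤ (P : Subgroup G) ∧ FN p (P : Subgroup G) U}
      (fun A hA => by
        obtain ⟨h, h1, h2⟩ := exists_FN_conj P A (P.2.to_le hA)
        exact ⟨_, ⟨h1, h2⟩, h1, ⟨h, rfl⟩, h2⟩) ?_
    intro V _ hVS hVb hFN
    have h2 := csf_D_rel zjA_char (zjA_DNormalHyp hp) hs _ (hc V hVS hVb)
      ((P : Subgroup G) ⊓ Subgroup.normalizer (V : Set G)) inf_le_right (P.2.to_le inf_le_left) hFN
      ((P : Subgroup G) ⊓ Subgroup.normalizer (V : Set G)) le_rfl ⟨le_rfl, fun x _ g hg => hg⟩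
    have h3 : CSF (inducedFunctor (G := G) zjA) (Subgroup.normalizer (V : Set G))
        ((P : Subgroup G) ⊓ Subgroup.normalizer (V : Set G)) :=
      (CSF_iff_FCSF (W := fun _ => inducedFunctor (G := G) zjA
        ((P : Subgroup G) ⊓ Subgroup.normalizer (V : Set G)))).mpr h2
    exact CSF_iff_FCSF.mp h3
  rw [← CSF_iff_FCSF] at h1
  have hSH0 : (P : Subgroup G) ≤ Subgroup.normalizer
      ((inducedFunctor (G := G) zjA (P : Subgroup G) : Subgroup G) : Set G) :=
    Subgroup.le_normalizer.trans (normalizer_le_normalizer_functor hcfA P.2)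
  have h4 := csf_D_rel hW hWn hs _ (hc _ (induced_le _) (functor_ne_bot hcfA P.2 hPb))
    (P : Subgroup G) hSH0 P.2 (not_dvd_relIndex_of_sylow P hSH0) D hD.1 (sc_subgroupOf hD _)
  intro B hB g _ hBg
  obtain ⟨x, hx, e⟩ := h1 B hB g (Subgroup.mem_top _) hBg
  have hBx : cj B x ≤ P := by rw [cj_congr e]; exact hBg
  exact ((h4 B hB x (Subgroup.mem_inf.mp hx).2 hBx).mono_left le_top).congr e

theorem controls_D_local {W : ∀ (Q : Type u) [Group Q], Subgroup Q}
    (hW : IsCharPFunctor.{u} p W) (hWn : DNormalHyp p W) (hp : p ≠ 2)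
    {G : Type u} [Group G] [Finite G] (hs : IsNormalizerPStable p G) (P : Sylow p G)
    (hc : ∀ U : Subgroup G, U ≤ (P : Subgroup G) → U ≠ ⊥ →
      IsPConstrained p ↥(Subgroup.normalizer (U : Set G)))
    (D : Subgroup G) (hD : IsStronglyClosed D (P : Subgroup G)) (A : Set G)
    (hA : A ⊆ (P : Subgroup G)) :
    ControlsStrongFusionOf (Subgroup.normalizer (inducedFunctor (G := G) W D : Set G))
      (P : Subgroup G) A := by
  have h1 := CSF_iff_FCSF.mpr (csf_D_local hW hWn hp hs P hc D hD)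
  refine ⟨hA, fun g hg => ?_⟩
  have hBk : cj (Subgroup.closure A) g⁻¹ ≤ P :=
    cj_closure_le_of_image_subset (by simpa using hg)
  obtain ⟨x, hx, e⟩ := h1 (Subgroup.closure A) ((Subgroup.closure_le _).mpr hA) g⁻¹
    (Subgroup.mem_top _) hBk
  exact ⟨x⁻¹, inv_mem (Subgroup.mem_inf.mp hx).2, fun a ha => by
    simpa using (e a (Subgroup.subset_closure ha)).symm⟩

end Cfsg.Agent.Lib.Helper5
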